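import Cfsg.Agent.Lib.FF.SylowMembers
import Cfsg.Prelude.Def_SylowChains
import Mathlib

/-!
# Links between Sylow subgroups controlled by a family.  Owner: helper18.
-/

set_option autoImplicit false
set_option linter.unusedSectionVars false

namespace Cfsg.Agent.Lib.FF

open Subgroup Cfsg

section generic

theorem exists_fin_chain {α : Type*} {R : α → α → Prop} {a b : α} (h : Relation.ReflTransGen R a b) :
    ∃ (n : ℕ) (c : Fin (n + 1) → α), c 0 = a ∧ c (Fin.last n) = b ∧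
      ∀ i : Fin n, R (c i.castSucc) (c i.succ) := by
  induction h with
  | refl => exact ⟨0, fun _ => a, rfl, rfl, fun i => i.elim0⟩
  | @tail b' c' _ hbc ih =>
    obtain ⟨n, c, h0, hl, hi⟩ := ih
    refine ⟨n + 1, Fin.snoc (α := fun _ => α) c c', ?_, ?_, ?_⟩
    · have : (0 : Fin (n + 1 + 1)) = (0 : Fin (n + 1)).castSucc := rfl
      rw [this, Fin.snoc_castSucc]
      exact h0
    · rw [Fin.snoc_last]
    · intro i
      refine Fin.lastCases ?_ (fun j => ?_) i
      · rw [Fin.snoc_castSucc, Fin.succ_last, Fin.snoc_last, hl]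
        exact hbc
      · rw [Fin.snoc_castSucc, Fin.succ_castSucc, Fin.snoc_castSucc]
        exact hi j

theorem reflTransGen_of_fin_chain {α : Type*} {R : α → α → Prop} {n : ℕ} (c : Fin (n + 1) → α)
    (h : ∀ i : Fin n, R (c i.castSucc) (c i.succ)) :
    Relation.ReflTransGen R (c 0) (c (Fin.last n)) := by
  have : ∀ i : Fin (n + 1), Relation.ReflTransGen R (c 0) (c i) := by
    intro i
    induction i using Fin.induction with
    | zero => exact Relation.ReflTransGen.refl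
    | succ i ih => exact ih.tail (h i)
  exact this _

end generic

variable {G : Type*} [Group G] {p : ℕ} [hp : Fact p.Prime]

/-- One step of a chain controlled by `𝓖`, over the subgroup `D`. -/
def FStep (p : ℕ) [Fact p.Prime] (𝓖 : Set (Subgroup G)) (D : Subgroup G) (A B : Sylow p G) : Prop :=
  ∃ (X : Subgroup G) (x : G), X ∈ sylowMembers p 𝓖 (A : Subgroup G) ∧
    X ∈ sylowMembers p 𝓖 (B : Subgroup G) ∧ x ∈ X ∧
    subgroupConjRight x (B : Subgroup G) = (A : Subgroup G) ∧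
    D ≤ (B : Subgroup G) ⊓ X ∧ D ≤ (A : Subgroup G)

/-- Chains controlled by `𝓖`, over the subgroup `D`. -/
abbrev FLink (p : ℕ) [Fact p.Prime] (𝓖 : Set (Subgroup G)) (D : Subgroup G) : Sylow p G → Sylow p G → Prop :=
  Relation.ReflTransGen (FStep p 𝓖 D)

theorem subgroupConjRight_eq (x : G) (X : Subgroup G) :
    subgroupConjRight x X = X.map (MulAut.conj x⁻¹).toMonoidHom := rfl

theorem subgroupConjRight_symm {x : G} {A B : Subgroup G} (h : subgroupConjRight x B = A) :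
    subgroupConjRight x⁻¹ A = B := by
  rw [← h, subgroupConjRight_eq, subgroupConjRight_eq, conj_mul_conj, inv_inv, mul_inv_cancel, conj_one']

theorem FStep.symm {𝓖 : Set (Subgroup G)} {D : Subgroup G} {A B : Sylow p G} (h : FStep p 𝓖 D A B) :
    FStep p 𝓖 D B A := by
  obtain ⟨X, x, h1, h2, h3, h4, h5, h6⟩ := h
  exact ⟨X, x⁻¹, h2, h1, X.inv_mem h3, subgroupConjRight_symm h4, le_inf h6 (h5.trans inf_le_right),
    h5.trans inf_le_left⟩

theorem FLink.symm {𝓖 : Set (Subgroup G)} {D : Subgroup G} {A B : Sylow p G} (h : FLink p 𝓖 D A B) :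
    FLink p 𝓖 D B A :=
  by
  induction h with
  | refl => exact Relation.ReflTransGen.refl
  | tail _ hbc ih => exact Relation.ReflTransGen.head (FStep.symm hbc) ih

theorem FLink.mono {𝓖 : Set (Subgroup G)} {D D' : Subgroup G} (hD : D' ≤ D) {A B : Sylow p G}
    (h : FLink p 𝓖 D A B) : FLink p 𝓖 D' A B := by
  induction h with
  | refl => exact Relation.ReflTransGen.refl
  | tail _ hbc ih =>
    obtain ⟨X, x, h1, h2, h3, h4, h5, h6⟩ := hbc
    exact ih.tail ⟨X, x, h1, h2, h3, h4, hD.trans h5, hD.trans h6⟩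

theorem controls_of_link {𝓖 : Set (Subgroup G)}
    (h : ∀ S T : Sylow p G, S ≠ T → (S : Subgroup G) ⊓ (T : Subgroup G) ≠ ⊥ →
      FLink p 𝓖 ((S : Subgroup G) ⊓ (T : Subgroup G)) S T) :
    ControlsSylowIntersections p 𝓖 := by
  intro S T hne hb
  obtain ⟨n, c, h0, hl, hi⟩ := exists_fin_chain (h S T hne hb)
  choose X x h1 h2 h3 h4 h5 _ using hi
  exact ⟨n, c, X, x, h0, hl, fun i => ⟨h1 i, h2 i, h3 i, h4 i, h5 i⟩⟩

theorem link_of_controls {𝓖 : Set (Subgroup G)} (hc : ControlsSylowIntersections p 𝓖)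
    (S T : Sylow p G) (hb : (S : Subgroup G) ⊓ (T : Subgroup G) ≠ ⊥) :
    FLink p 𝓖 ((S : Subgroup G) ⊓ (T : Subgroup G)) S T := by
  by_cases hne : S = T
  · subst hne; exact Relation.ReflTransGen.refl
  obtain ⟨n, c, X, x, h0, hl, hi⟩ := hc S T hne hb
  have hle : ∀ j : Fin (n + 1), (S : Subgroup G) ⊓ (T : Subgroup G) ≤ (c j : Subgroup G) := by
    intro j
    refine Fin.cases ?_ (fun i => ?_) j
    · rw [h0]; exact inf_le_left
    · exact (hi i).2.2.2.2.trans inf_le_left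
  have := reflTransGen_of_fin_chain (R := FStep p 𝓖 ((S : Subgroup G) ⊓ (T : Subgroup G))) c (fun i => by
    obtain ⟨h1, h2, h3, h4, h5⟩ := hi i
    exact ⟨X i, x i, h1, h2, h3, h4, h5, hle _⟩)
  rwa [h0, hl] at this

theorem link_of_controls' {𝓖 : Set (Subgroup G)} (hc : ControlsSylowIntersections p 𝓖)
    (S T : Sylow p G) {D : Subgroup G} (hD : D ≠ ⊥) (hDS : D ≤ (S : Subgroup G)) (hDT : D ≤ (T : Subgroup G)) :
    FLink p 𝓖 D S T := by
  refine FLink.mono (le_inf hDS hDT) (link_of_controls hc S T ?_)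
  intro h
  apply hD
  rw [eq_bot_iff, ← h]
  exact le_inf hDS hDT

section Sylow
variable [Finite G]

theorem IsSylowIn.card_le_of_pgroup {Q L T : Subgroup G} (h : IsSylowIn p Q L) (hT : IsPGroup p T)
    (hTL : T ≤ L) : Nat.card T ≤ Nat.card Q := by
  obtain ⟨W, hW, hW'⟩ := exists_isSylowIn_of_le hT hTL
  rw [h.card_eq hW']
  exact Subgroup.card_le_of_le hW

/-- `C ∩ L = W` when `W ≤ C` is Sylow in `L`. -/
theorem IsSylowIn.eq_inf_of_le {W L : Subgroup G} (h : IsSylowIn p W L) (C : Sylow p G)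
    (hWC : W ≤ (C : Subgroup G)) : (C : Subgroup G) ⊓ L = W :=
  (h.eq_of_le (IsPGroup.to_le C.2 inf_le_left) inf_le_right (le_inf hWC h.le)).symm

theorem IsSylowIn.inf_of_le {W L : Subgroup G} (h : IsSylowIn p W L) (C : Sylow p G)
    (hWC : W ≤ (C : Subgroup G)) : IsSylowIn p ((C : Subgroup G) ⊓ L) L := by
  rw [h.eq_inf_of_le C hWC]; exact h

theorem IsSylowIn.conj_of_mem {Q L : Subgroup G} (h : IsSylowIn p Q L) {g : G} (hg : g ∈ L) :
    IsSylowIn p (Q.map (MulAut.conj g).toMonoidHom) L := by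
  have := h.conj g
  rwa [conj_eq_of_mem hg] at this

theorem inf_conj_of_mem (A : Subgroup G) {L : Subgroup G} {g : G} (hg : g ∈ L) :
    A.map (MulAut.conj g).toMonoidHom ⊓ L = (A ⊓ L).map (MulAut.conj g).toMonoidHom := by
  rw [Subgroup.map_inf _ _ _ (MulEquiv.injective _), conj_eq_of_mem hg]

theorem isSylowIn_smul_inf {A : Sylow p G} {L : Subgroup G} (h : IsSylowIn p ((A : Subgroup G) ⊓ L) L)
    {g : G} (hg : g ∈ L) : IsSylowIn p (((g • A : Sylow p G) : Subgroup G) ⊓ L) L := by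
  rw [coe_smul_sylow, inf_conj_of_mem _ hg]
  exact h.conj_of_mem hg

theorem le_of_sylow_of_isSylowIn {H : Type*} [Group H] [Finite H] {R R₀ : Sylow p H} {X : Subgroup H}
    (h0 : (R₀ : Subgroup H) ≤ X) (h : IsSylowIn p ((R : Subgroup H) ⊓ X) X) :
    (R : Subgroup H) ≤ X := by
  have h1 := h.card_le_of_pgroup R₀.2 h0
  have h2 : Nat.card (R₀ : Subgroup H) = Nat.card (R : Subgroup H) := by
    obtain ⟨g, rfl⟩ := MulAction.exists_smul_eq H R R₀
    rw [coe_smul_sylow, card_conj]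
  rw [h2] at h1
  have := Subgroup.eq_of_le_of_card_ge (inf_le_left : (R : Subgroup H) ⊓ X ≤ R) h1
  exact inf_eq_left.mp this

theorem exists_maximalPLocal {L : Subgroup G} (hL : IsPLocal p L) :
    ∃ M, L ≤ M ∧ IsMaximalPLocal p M := by
  obtain ⟨M, hM1, hM2⟩ := (Set.toFinite {N : Subgroup G | IsPLocal p N}).exists_le_maximal hL
  exact ⟨M, hM1, hM2.1, fun N hN hMN => le_antisymm (hM2.2 hN hMN) hMN⟩

/-- The image in the ambient group of a Sylow subgroup of `M`. -/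
abbrev hatS {M : Subgroup G} (R : Sylow p M) : Subgroup G := (R : Subgroup M).map M.subtype

theorem hatS_isSylowIn {M : Subgroup G} (R : Sylow p M) : IsSylowIn p (hatS R) M :=
  isSylowIn_of_sylow R

theorem le_hatS_iff {M D : Subgroup G} (hD : D ≤ M) (R : Sylow p M) :
    D ≤ hatS R ↔ D.subgroupOf M ≤ (R : Subgroup M) := by
  constructor
  · intro h x hx
    rw [Subgroup.mem_subgroupOf] at hx
    obtain ⟨y, hy, hxy⟩ := h hx
    have : y = x := Subtype.ext hxy
    rwa [← this]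
  · intro h x hx
    exact ⟨⟨x, hD hx⟩, h (by simpa [Subgroup.mem_subgroupOf] using hx), rfl⟩

theorem le_of_normalizer_eq {M Q : Subgroup G} (hM : M = normalizer (Q : Set G)) (hQ : IsPGroup p Q)
    (R : Sylow p M) : Q ≤ hatS R := by
  have hQM : Q ≤ M := hM ▸ Subgroup.le_normalizer
  have hQ' : IsPGroup p (Q.subgroupOf M) := isPGroup_subgroupOf hQ
  obtain ⟨T, hT⟩ := hQ'.exists_le_sylow
  obtain ⟨m, rfl⟩ := MulAction.exists_smul_eq M T R
  rw [le_hatS_iff hQM, coe_smul_sylow]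
  intro x hx
  rw [mem_conj_iff]
  apply hT
  rw [Subgroup.mem_subgroupOf] at hx ⊢
  have hm : (m : G) ∈ normalizer (Q : Set G) := hM ▸ m.2
  have := (Subgroup.mem_normalizer_iff.mp ((normalizer (Q : Set G)).inv_mem hm) (x : G)).mp hx
  simpa using this

/-- What one step of a chain inside a subgroup `M` amounts to. -/
theorem step_data {M D : Subgroup G} {f : Subgroup G → Set (Subgroup G)} (hf : IsNormalizerFunctor p f)
    (hD : D ≤ M) {R R' : Sylow p M}
    (h : FStep p ((fun X : Subgroup G => X.subgroupOf M) '' functorFamily p f M) (D.subgroupOf M) R R') :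
    ∃ (R₀ : Sylow p M) (F : Subgroup G) (x : G), F ∈ f (hatS R₀) ∧ x ∈ M ∧
      x ∈ normalizer (F : Set G) ∧ hatS R' ≤ normalizer (F : Set G) ∧ hatS R ≤ normalizer (F : Set G) ∧
      (hatS R').map (MulAut.conj x⁻¹).toMonoidHom = hatS R ∧ D ≤ hatS R' ∧ D ≤ hatS R := by
  obtain ⟨X, x, h1, h2, h3, h4, h5, h6⟩ := h
  rw [mem_sylowMembers_iff] at h1 h2
  obtain ⟨⟨Y, ⟨R₀, F, hF, rfl⟩, rfl⟩, h1⟩ := h1
  obtain ⟨-, h2⟩ := h2
  have hf' := (hf (hatS R₀) (hatS_isSylowIn R₀).isPGroup).1 F hF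
  have hR₀ : (R₀ : Subgroup M) ≤ (M ⊓ normalizer (F : Set G)).subgroupOf M := by
    intro y hy
    rw [Subgroup.mem_subgroupOf]
    exact ⟨y.2, hf'.2 (Subgroup.le_normalizer (⟨y, hy, rfl⟩ : (y : G) ∈ hatS R₀))⟩
  have hRF : (R : Subgroup M) ≤ (M ⊓ normalizer (F : Set G)).subgroupOf M := le_of_sylow_of_isSylowIn hR₀ h1
  have hRF' : (R' : Subgroup M) ≤ (M ⊓ normalizer (F : Set G)).subgroupOf M := le_of_sylow_of_isSylowIn hR₀ h2
  have hmap : ∀ T : Sylow p M, (T : Subgroup M) ≤ (M ⊓ normalizer (F : Set G)).subgroupOf M →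
      hatS T ≤ normalizer (F : Set G) := by
    rintro T hT _ ⟨y, hy, rfl⟩
    have := hT hy
    rw [Subgroup.mem_subgroupOf] at this
    exact this.2
  have hx3 : (x : G) ∈ M ⊓ normalizer (F : Set G) := Subgroup.mem_subgroupOf.mp h3
  refine ⟨R₀, F, x, hF, x.2, hx3.2, hmap _ hRF', hmap _ hRF, ?_, ?_, ?_⟩
  · rw [subgroupConjRight_eq] at h4
    have e : hatS R = ((R' : Subgroup M).map (MulAut.conj x⁻¹).toMonoidHom).map M.subtype := by
      rw [h4]
    rw [e]
    ext z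
    simp only [Subgroup.mem_map]
    constructor
    · rintro ⟨_, ⟨y, hy, rfl⟩, rfl⟩
      refine ⟨x⁻¹ * y * x, ⟨y, hy, by simp⟩, by simp⟩
    · rintro ⟨_, ⟨y, hy, rfl⟩, rfl⟩
      refine ⟨y, ⟨y, hy, rfl⟩, by simp⟩
  · rw [le_hatS_iff hD]; exact h5.trans inf_le_left
  · rw [le_hatS_iff hD]; exact h6

theorem mem_family {f : Subgroup G → Set (Subgroup G)} (S₀ : Sylow p G) {F : Subgroup G}
    (hF : F ∈ f (S₀ : Subgroup G)) : (⊤ ⊓ normalizer (F : Set G)) ∈ functorFamily p f ⊤ := by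
  refine ⟨(isSylowIn_of_sylow_le S₀ le_top).toSylow, F, ?_, rfl⟩
  rw [IsSylowIn.coe_toSylow, Subgroup.map_subgroupOf_eq_of_le le_top]
  exact hF

/-- A conjugation step inside a member. -/
theorem step_of_mem {𝓖 : Set (Subgroup G)} {X D : Subgroup G} (hX : X ∈ 𝓖) {C : Sylow p G} {y : G}
    (hy : y ∈ X) (hC : IsSylowIn p ((C : Subgroup G) ⊓ X) X) (hDX : D ≤ X) (hD1 : D ≤ (C : Subgroup G))
    (hD2 : D ≤ ((y • C : Sylow p G) : Subgroup G)) : FStep p 𝓖 D C (y • C) := by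
  refine ⟨X, y, mem_sylowMembers_iff.mpr ⟨hX, hC⟩, mem_sylowMembers_iff.mpr ⟨hX, isSylowIn_smul_inf hC hy⟩,
    hy, ?_, le_inf hD2 hDX, hD1⟩
  rw [coe_smul_sylow, subgroupConjRight_eq, conj_mul_conj, inv_mul_cancel, conj_one']

theorem top_family_normal {f : Subgroup G → Set (Subgroup G)} (hf : IsNormalizerFunctor p f) :
    IsNormalSet (functorFamily p f ⊤) := by
  rintro X ⟨P, F, hF, rfl⟩ g
  obtain ⟨S₀, hS₀⟩ := (hatS_isSylowIn P).exists_sylow_eq (Classical.arbitrary _) le_top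
  have hF' : F ∈ f (S₀ : Subgroup G) := by rw [hS₀]; exact hF
  have h1 := (hf (S₀ : Subgroup G) S₀.2).2 g⁻¹
  have h2 : F.map (MulAut.conj g⁻¹).toMonoidHom ∈ f ((g⁻¹ • S₀ : Sylow p G) : Subgroup G) := by
    rw [coe_smul_sylow, h1]
    exact ⟨F, hF', rfl⟩
  have := mem_family (g⁻¹ • S₀) h2
  convert this using 1
  rw [subgroupConjRight_eq, top_inf_eq, top_inf_eq, conj_normalizer]

theorem FLink.conj {𝓖 : Set (Subgroup G)} (h𝓖 : IsNormalSet 𝓖) {D : Subgroup G} {A B : Sylow p G} (g : G)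
    (h : FLink p 𝓖 D A B) :
    FLink p 𝓖 (D.map (MulAut.conj g).toMonoidHom) (g • A) (g • B) := by
  induction h with
  | refl => exact Relation.ReflTransGen.refl
  | tail _ hbc ih =>
    refine ih.tail ?_
    obtain ⟨X, x, h1, h2, h3, h4, h5, h6⟩ := hbc
    have h1' := conjRight_mem_sylowMembers h𝓖 g⁻¹ h1
    have h2' := conjRight_mem_sylowMembers h𝓖 g⁻¹ h2
    rw [subgroupConjRight_eq, inv_inv] at h1' h2'
    rw [subgroupConjRight_eq, inv_inv] at h1' h2'
    refine ⟨X.map (MulAut.conj g).toMonoidHom, g * x * g⁻¹, ?_, ?_, conj_mem_conj h3, ?_, ?_, ?_⟩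
    · rw [coe_smul_sylow]; exact h1'
    · rw [coe_smul_sylow]; exact h2'
    · rw [subgroupConjRight_eq] at h4 ⊢
      rw [coe_smul_sylow, coe_smul_sylow, ← h4, conj_mul_conj, conj_mul_conj]
      congr 2
      group
    · rw [coe_smul_sylow]
      exact (conj_mono g h5).trans (by
        rw [Subgroup.map_inf _ _ _ (MulEquiv.injective _)])
    · rw [coe_smul_sylow]
      exact conj_mono g h6

end Sylow

end Cfsg.Agent.Lib.FF
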