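import Mathlib

/-!
# Eigenvectors and eigenfunctionals for an operator `t` with `t ^ (p-1) = 1` in characteristic `p`
-/

set_option autoImplicit false
set_option linter.unusedSectionVars false
set_option linter.unusedVariables false

namespace Cfsg.Agent.Lib.FF

open Module

section Eigen

variable {k Q : Type*} [Field k] [AddCommGroup Q] [Module k Q] {p : ℕ} [hp : Fact p.Prime]

/-- The operator `F_a = ∑_{i<p-1} t^i a^(p-2-i)`. -/
noncomputable def eigF (t : Module.End k Q) (p : ℕ) (a : k) : Module.End k Q :=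
  ∑ i ∈ Finset.range (p - 1), t ^ i * algebraMap k (Module.End k Q) (a ^ (p - 2 - i))

theorem eig_mul (t : Module.End k Q) (a : k) :
    (t - algebraMap k _ a) * eigF t p a = t ^ (p - 1) - algebraMap k _ (a ^ (p - 1)) := by
  have hc : Commute t (algebraMap k (Module.End k Q) a) := (Algebra.commutes a t).symm
  have h1 := hc.mul_geom_sum₂ (p - 1)
  rw [map_pow]
  rw [← h1]
  congr 1
  unfold eigF
  refine Finset.sum_congr rfl fun i hi => ?_
  have hi' := Finset.mem_range.mp hi
  have : p - 1 - 1 - i = p - 2 - i := by omega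
  rw [map_pow, this]

theorem eigF_comm (t : Module.End k Q) (a : k) : Commute (eigF t p a) t := by
  unfold eigF
  refine Commute.sum_left _ _ _ fun i _ => ?_
  exact ((Commute.refl t).pow_left i).mul_left (Algebra.commutes _ t)

theorem charP_of_natCast_eq_zero (h0 : (p : k) = 0) : CharP k p :=
  (CharP.charP_iff_prime_eq_zero hp.out).mpr h0

/-- Existence of an eigenvector. -/
theorem exists_eigen (h0 : (p : k) = 0) (t : Module.End k Q) (ht : t ^ (p - 1) = 1) {w : Q} (hw : w ≠ 0) :
    ∃ (a : k) (q : Q), a ≠ 0 ∧ q ≠ 0 ∧ t q = a • q := by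
  classical
  have := charP_of_natCast_eq_zero (k := k) (p := p) h0
  let c : ZMod p →+* k := ZMod.castHom (dvd_refl p) k
  have hcard : Fintype.card (ZMod p) = p := ZMod.card p
  have hsum : ∑ a : ZMod p, algebraMap k (Module.End k Q) (c a) * eigF t p (c a) = -1 := by
    unfold eigF
    simp only [Finset.mul_sum]
    rw [Finset.sum_comm]
    have hterm : ∀ i ∈ Finset.range (p - 1),
        ∑ a : ZMod p, algebraMap k (Module.End k Q) (c a) *
          (t ^ i * algebraMap k (Module.End k Q) (c a ^ (p - 2 - i))) =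
        if i = 0 then -1 else 0 := by
      intro i hi
      have hi' := Finset.mem_range.mp hi
      have h1 : ∀ a : ZMod p, algebraMap k (Module.End k Q) (c a) *
          (t ^ i * algebraMap k (Module.End k Q) (c a ^ (p - 2 - i))) =
          t ^ i * algebraMap k (Module.End k Q) (c (a ^ (p - 1 - i))) := by
        intro a
        have h2 : p - 1 - i = (p - 2 - i) + 1 := by omega
        have hcomm := Algebra.commutes (c a) (t ^ i)
        rw [← mul_assoc, hcomm, mul_assoc, ← map_mul]
        congr 2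
        rw [h2, pow_succ, map_mul, map_pow]
        ring
      simp only [h1]
      rw [← Finset.mul_sum, ← map_sum, ← map_sum]
      split_ifs with hi0
      · subst hi0
        have h3 : ∑ a : ZMod p, a ^ (p - 1 - 0) = -1 := by
          have h4 : ∀ a : ZMod p, a ^ (p - 1 - 0) = if a = 0 then 0 else 1 := by
            intro a
            split_ifs with ha
            · subst ha
              apply zero_pow
              have := hp.out.two_le
              omega
            · exact ZMod.pow_card_sub_one_eq_one ha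
          simp only [h4]
          rw [Finset.sum_ite, Finset.sum_const_zero, zero_add, Finset.sum_const, nsmul_eq_mul, mul_one]
          rw [Finset.filter_ne', Finset.card_erase_of_mem (Finset.mem_univ _), Finset.card_univ, hcard]
          rw [Nat.cast_sub hp.out.one_le]
          simp
        rw [h3]
        simp
      · have h3 : ∑ a : ZMod p, a ^ (p - 1 - i) = 0 :=
          FiniteField.sum_pow_lt_card_sub_one (ZMod p) (p - 1 - i) (by rw [hcard]; omega)
        rw [h3]
        simp
    rw [Finset.sum_congr rfl hterm]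
    have hp1 : 0 < p - 1 := by
      have := hp.out.two_le
      omega
    rw [Finset.sum_ite_eq' (Finset.range (p - 1)) 0]
    simp [hp1]
  have hnz : ∃ a : ZMod p, c a ≠ 0 ∧ eigF t p (c a) w ≠ 0 := by
    by_contra hall
    push Not at hall
    have h4 := congrArg (fun f : Module.End k Q => f w) hsum
    simp only [LinearMap.sum_apply, Module.End.mul_apply, Module.algebraMap_end_apply] at h4
    have h5 : ∀ a : ZMod p, c a • eigF t p (c a) w = 0 := by
      intro a
      by_cases ha : c a = 0
      · rw [ha, zero_smul]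
      · rw [hall a ha, smul_zero]
    simp only [h5, Finset.sum_const_zero] at h4
    apply hw
    have h6 : (-1 : Module.End k Q) w = -w := rfl
    rw [h6] at h4
    exact neg_eq_zero.mp h4.symm
  obtain ⟨a, ha, hq⟩ := hnz
  refine ⟨c a, eigF t p (c a) w, ha, hq, ?_⟩
  have h7 := congrArg (fun f : Module.End k Q => f w) (eig_mul (p := p) t (c a))
  have ha1 : (c a) ^ (p - 1) = 1 := by
    rw [← map_pow]
    have hane : a ≠ 0 := by
      rintro rfl
      simp at ha
    rw [ZMod.pow_card_sub_one_eq_one hane, map_one]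
  rw [ht, ha1, map_one, sub_self] at h7
  have h8 : t (eigF t p (c a) w) - c a • eigF t p (c a) w = 0 := h7
  exact sub_eq_zero.mp h8

/-- An eigenvector together with an eigenfunctional. -/
theorem exists_eigen_dual (h0 : (p : k) = 0) (t : Module.End k Q) (ht : t ^ (p - 1) = 1) [Nontrivial Q] :
    ∃ (τ : k) (q₀ : Q) (h : Q →ₗ[k] k), τ ≠ 0 ∧ t q₀ = τ • q₀ ∧ h q₀ = 1 ∧ ∀ q, h (t q) = τ * h q := by
  classical
  obtain ⟨w, hw⟩ := exists_ne (0 : Q)
  obtain ⟨τ, q₀, hτ, hq₀, hq⟩ := exists_eigen h0 t ht hw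
  have hτ1 : τ ^ (p - 1) = 1 := by
    have h1 : (t ^ (p - 1)) q₀ = τ ^ (p - 1) • q₀ := by
      have : ∀ n : ℕ, (t ^ n) q₀ = τ ^ n • q₀ := by
        intro n
        induction n with
        | zero => simp
        | succ n ih =>
          rw [pow_succ, Module.End.mul_apply, hq, map_smul, ih, smul_smul, pow_succ]
          ring_nf
      exact this _
    rw [ht] at h1
    have h2 : ((1 : k) - τ ^ (p - 1)) • q₀ = 0 := by
      rw [sub_smul, one_smul, ← h1]
      simp
    have h3 := (smul_eq_zero.mp h2).resolve_right hq₀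
    exact (sub_eq_zero.mp h3).symm
  -- a functional with `h₀ q₀ = 1`
  obtain ⟨h₀, hh₀⟩ : ∃ h₀ : Q →ₗ[k] k, h₀ q₀ ≠ 0 := by
    by_contra hall
    push Not at hall
    exact hq₀ ((Module.forall_dual_apply_eq_zero_iff k q₀).mp hall)
  set F := eigF t p τ with hF
  have hFq : F q₀ = (((p - 1 : ℕ) : k) * τ ^ (p - 2)) • q₀ := by
    rw [hF, eigF, LinearMap.sum_apply]
    have h1 : ∀ i ∈ Finset.range (p - 1),
        (t ^ i * algebraMap k (Module.End k Q) (τ ^ (p - 2 - i))) q₀ = τ ^ (p - 2) • q₀ := by
      intro i hi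
      have hi' := Finset.mem_range.mp hi
      have h2 : ∀ n : ℕ, (t ^ n) q₀ = τ ^ n • q₀ := by
        intro n
        induction n with
        | zero => simp
        | succ n ih =>
          rw [pow_succ, Module.End.mul_apply, hq, map_smul, ih, smul_smul, pow_succ]
          ring_nf
      rw [Module.End.mul_apply, Module.algebraMap_end_apply, map_smul, h2, smul_smul, ← pow_add]
      congr 2
      omega
    rw [Finset.sum_congr rfl h1, Finset.sum_const, Finset.card_range, ← Nat.cast_smul_eq_nsmul k, smul_smul]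
  have hcoef : ((p - 1 : ℕ) : k) * τ ^ (p - 2) ≠ 0 := by
    refine mul_ne_zero ?_ (pow_ne_zero _ hτ)
    have h1 : ((p - 1 : ℕ) : k) = -1 := by
      have h2 : ((p - 1 + 1 : ℕ) : k) = 0 := by
        rw [Nat.sub_add_cancel hp.out.one_le]
        exact h0
      push_cast at h2
      exact eq_neg_of_add_eq_zero_left h2
    rw [h1]
    simp
  set c := (((p - 1 : ℕ) : k) * τ ^ (p - 2) * h₀ q₀)⁻¹ with hc
  refine ⟨τ, q₀, c • (h₀ ∘ₗ F), hτ, hq, ?_, ?_⟩
  · simp only [LinearMap.smul_apply, LinearMap.comp_apply, hFq, map_smul, smul_eq_mul]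
    rw [hc]
    exact inv_mul_cancel₀ (mul_ne_zero hcoef hh₀)
  · intro q
    simp only [LinearMap.smul_apply, LinearMap.comp_apply, smul_eq_mul]
    have h5 : (F * (t - algebraMap k _ τ)) q = 0 := by
      have hcomm : Commute F (t - algebraMap k (Module.End k Q) τ) :=
        (eigF_comm t τ).sub_right (Algebra.commutes τ F).symm
      rw [hcomm.eq]
      rw [eig_mul (p := p) t τ, ht, hτ1, map_one, sub_self]
      rfl
    have h6 : F (t q) = τ • F q := by
      have : F (t q - τ • q) = 0 := h5
      rw [map_sub, map_smul, sub_eq_zero] at this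
      exact this
    rw [h6, map_smul, smul_eq_mul]
    ring

/-- An eigenvector modulo a subspace, and an eigenfunctional vanishing on the subspace. -/
theorem exists_eigen_sub [FiniteDimensional k Q] (h0 : (p : k) = 0) (t : Module.End k Q) {S T : Submodule k Q}
    (hTS : T ≤ S) (htS : ∀ s ∈ S, t s ∈ S) (htT : ∀ s ∈ T, t s ∈ T)
    (hpow : ∀ s ∈ S, (t ^ (p - 1)) s - s ∈ T) {s₁ : Q} (hs₁ : s₁ ∈ S) (hs₁T : s₁ ∉ T) :
    ∃ (τ : k) (s₀ : Q) (h : S →ₗ[k] k), τ ≠ 0 ∧ s₀ ∈ S ∧ s₀ ∉ T ∧ t s₀ - τ • s₀ ∈ T ∧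
      (∀ s : S, (s : Q) ∈ T → h s = 0) ∧ (∀ hs : s₀ ∈ S, h ⟨s₀, hs⟩ = 1) ∧
      ∀ s : S, h ⟨t s, htS s s.2⟩ = τ * h s := by
  classical
  let T' : Submodule k S := T.comap S.subtype
  let tS : Module.End k S := t.restrict htS
  have htS' : T' ≤ T'.comap tS := by
    intro s hs
    exact htT _ hs
  let tQ : Module.End k (S ⧸ T') := T'.mapQ T' tS htS'
  have hpowS : ∀ n (s : S), ((tS ^ n) s : Q) = (t ^ n) (s : Q) := by
    intro n s
    induction n generalizing s with
    | zero => simp
    | succ n ih =>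
      rw [pow_succ, pow_succ, Module.End.mul_apply, Module.End.mul_apply, ih]
      rfl
  have hQpow : ∀ n (s : S), (tQ ^ n) (Submodule.Quotient.mk s) = Submodule.Quotient.mk ((tS ^ n) s) := by
    intro n s
    induction n generalizing s with
    | zero => simp
    | succ n ih =>
      rw [pow_succ, pow_succ, Module.End.mul_apply, Module.End.mul_apply, ← ih]
      rfl
  have htQ : tQ ^ (p - 1) = 1 := by
    refine LinearMap.ext fun q => ?_
    obtain ⟨s, rfl⟩ := Submodule.Quotient.mk_surjective _ q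
    rw [hQpow, Module.End.one_apply, Submodule.Quotient.eq]
    show ((tS ^ (p - 1)) s - s : S).1 ∈ T
    rw [Submodule.coe_sub, hpowS]
    exact hpow s s.2
  have hnt : Nontrivial (S ⧸ T') := by
    refine ⟨Submodule.Quotient.mk ⟨s₁, hs₁⟩, 0, fun h => hs₁T ?_⟩
    rw [Submodule.Quotient.mk_eq_zero] at h
    exact h
  obtain ⟨τ, q₀, hQ, hτ, hq₀, hq₀1, hqt⟩ := exists_eigen_dual h0 tQ htQ
  obtain ⟨s₀, rfl⟩ := Submodule.Quotient.mk_surjective _ q₀
  refine ⟨τ, s₀, hQ ∘ₗ T'.mkQ, hτ, s₀.2, ?_, ?_, ?_, ?_, ?_⟩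
  · intro hs
    have h1 : (Submodule.Quotient.mk s₀ : S ⧸ T') = 0 := (Submodule.Quotient.mk_eq_zero _).mpr hs
    rw [h1, map_zero] at hq₀1
    exact zero_ne_one hq₀1
  · have h1 : tQ (Submodule.Quotient.mk s₀) = Submodule.Quotient.mk (tS s₀) := rfl
    rw [h1, ← Submodule.Quotient.mk_smul, Submodule.Quotient.eq] at hq₀
    exact hq₀
  · intro s hs
    have h1 : (Submodule.Quotient.mk s : S ⧸ T') = 0 := (Submodule.Quotient.mk_eq_zero _).mpr hs
    show hQ (Submodule.Quotient.mk s) = 0
    rw [h1, map_zero]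
  · intro hs
    exact hq₀1
  · intro s
    exact hqt (Submodule.Quotient.mk s)

end Eigen

end Cfsg.Agent.Lib.FF
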