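import Cfsg.Agent.Lib.FF.TateCount
import Cfsg.Agent.Lib.FF.DefOneEigen

/-!
# Rank one equivariant endomorphisms on Tate cohomology

Given an operator `t` normalizing the operator `X` of order `p` on a lattice `L`, we construct an
endomorphism commuting with `X` which acts on `W` or on `W'` by a rank one idempotent commuting with
`t`, and by zero on the other one.
-/

set_option autoImplicit false
set_option linter.unusedSectionVars false
set_option linter.unusedVariables false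

namespace Cfsg.Agent.Lib.FF

open Module Polynomial

section Abs

variable {R : Type*} [CommRing R] {L : Type*} [AddCommGroup L] [Module R L]
variable {k V : Type*} [Field k] [AddCommGroup V] [Module k V]
variable {p : ℕ} (d : RedData p R k L V) {X : Module.End R L}

theorem mem_range_nrm_of_red (htf : ∀ v : L, (p : R) • v = 0 → v = 0) (hX : X ^ p = 1) {y : L}
    (hy : y ∈ LinearMap.ker (X - 1)) (h : d.red y ∈ (⊤ : Submodule k V).map (d.bar (nrm X p))) :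
    y ∈ LinearMap.range (nrm X p) := by
  by_contra hne
  exact red_notMem_nrm d htf hX hy (fun v hv => hne ⟨v, hv⟩) h

theorem mem_range_y_of_red [Fact p.Prime] (htf : ∀ v : L, (p : R) • v = 0 → v = 0) (hX : X ^ p = 1) {y : L}
    (hy : y ∈ LinearMap.ker (nrm X p)) (h : d.red y ∈ (⊤ : Submodule k V).map (d.bar (X - 1))) :
    y ∈ LinearMap.range (X - 1) := by
  by_contra hne
  exact red_notMem_y d htf hX hy (fun v hv => hne ⟨v, hv⟩) h

theorem map_top_bar (E : Module.End R L) :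
    (⊤ : Submodule k V).map (d.bar E) = d.imS (LinearMap.range E) := by
  rw [← d.imS_top, d.map_bar_imS, LinearMap.range_eq_map]

/-- Conjugating a line-type endomorphism by an operator acting on the line by a scalar. -/
theorem equi_conj {S₀ T₀ : Submodule R L} (hpure : ∀ y ∈ S₀, d.red y ∈ d.imS T₀ → y ∈ T₀)
    (hTS : T₀ ≤ S₀) {n n' : Module.End R L} (hn : ∀ v, n (n' v) = v) (hnS : ∀ v ∈ S₀, n v ∈ S₀)
    (hn'S : ∀ v ∈ S₀, n' v ∈ S₀) (hnT : ∀ v ∈ T₀, n v ∈ T₀) {g : Module.End R L} {a : L} (ha : a ∈ S₀)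
    {ĥ : V → k} (hg : ∀ v ∈ S₀, ∃ r, ∃ t ∈ T₀, d.σ r = ĥ (d.red v) ∧ g v = r • a + t) {τ : k}
    (hna : d.red (n a) - τ • d.red a ∈ d.imS T₀) (hhn : ∀ v ∈ S₀, ĥ (d.red (n v)) = τ * ĥ (d.red v)) :
    ∀ v ∈ S₀, n (g (n' v)) - g v ∈ T₀ := by
  intro v hv
  have hv' := hn'S v hv
  obtain ⟨r', t', ht', hr', hg'⟩ := hg _ hv'
  obtain ⟨r, t, ht, hr, hg₁⟩ := hg _ hv
  have hgv' : g (n' v) ∈ S₀ := by
    rw [hg']
    exact S₀.add_mem (S₀.smul_mem _ ha) (hTS ht')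
  have hgv : g v ∈ S₀ := by
    rw [hg₁]
    exact S₀.add_mem (S₀.smul_mem _ ha) (hTS ht)
  apply hpure _ (S₀.sub_mem (hnS _ hgv') hgv)
  have h1 : d.σ r = τ * d.σ r' := by
    rw [hr, hr', ← hhn _ hv', hn]
  rw [map_sub, hg', hg₁, map_add, map_add, map_add, map_smul, d.red_smul, d.red_smul, h1]
  have h2 : d.σ r' • d.red (n a) + d.red (n t') - ((τ * d.σ r') • d.red a + d.red t) =
      d.σ r' • (d.red (n a) - τ • d.red a) + (d.red (n t') - d.red t) := by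
    rw [smul_sub, smul_smul, mul_comm (d.σ r') τ]
    abel
  rw [h2]
  exact (d.imS T₀).add_mem ((d.imS T₀).smul_mem _ hna)
    ((d.imS T₀).sub_mem (d.red_mem_imS (hnT _ ht')) (d.red_mem_imS ht))

end Abs

section Family

variable {R : Type*} [CommRing R] {L : Type*} [AddCommGroup L] [Module R L]
variable {k V : Type*} [Field k] [AddCommGroup V] [Module k V] [FiniteDimensional k V]
variable {p : ℕ} [hp : Fact p.Prime] (d : RedData p R k L V) {X t : Module.End R L}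

/-- Stability of a pair of submodules under `X` and `t`. -/
structure PairStable (S₀ T₀ : Submodule R L) (X t : Module.End R L) : Prop where
  le : T₀ ≤ S₀
  tS : ∀ v ∈ S₀, t v ∈ S₀
  tT : ∀ v ∈ T₀, t v ∈ T₀
  XS : ∀ v ∈ S₀, X v ∈ S₀
  XT : ∀ v ∈ T₀, X v ∈ T₀
  Xmod : ∀ v ∈ S₀, X v - v ∈ T₀

namespace PairStable

variable {S₀ T₀ : Submodule R L} (hP : PairStable S₀ T₀ X t)
include hP

theorem pow_tS (i : ℕ) : ∀ v ∈ S₀, (t ^ i) v ∈ S₀ := by
  induction i with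
  | zero => simp
  | succ i ih =>
    intro v hv
    rw [pow_succ]
    exact ih _ (hP.tS v hv)

theorem pow_tT (i : ℕ) : ∀ v ∈ T₀, (t ^ i) v ∈ T₀ := by
  induction i with
  | zero => simp
  | succ i ih =>
    intro v hv
    rw [pow_succ]
    exact ih _ (hP.tT v hv)

theorem pow_XS (i : ℕ) : ∀ v ∈ S₀, (X ^ i) v ∈ S₀ := by
  induction i with
  | zero => simp
  | succ i ih =>
    intro v hv
    rw [pow_succ]
    exact ih _ (hP.XS v hv)

theorem pow_XT (i : ℕ) : ∀ v ∈ T₀, (X ^ i) v ∈ T₀ := by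
  induction i with
  | zero => simp
  | succ i ih =>
    intro v hv
    rw [pow_succ]
    exact ih _ (hP.XT v hv)

theorem pow_Xmod (i : ℕ) : ∀ v ∈ S₀, (X ^ i) v - v ∈ T₀ := by
  induction i with
  | zero => simp
  | succ i ih =>
    intro v hv
    rw [pow_succ]
    have h1 := ih _ (hP.XS v hv)
    have h2 := hP.Xmod v hv
    have h3 : (X ^ i * X) v - v = ((X ^ i) (X v) - X v) + (X v - v) := by
      show (X ^ i) (X v) - v = _
      abel
    rw [h3]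
    exact T₀.add_mem h1 h2

end PairStable

/-- Equivariant line data on the subquotient `S₀ / T₀`. -/
theorem exists_line_data {S₀ T₀ : Submodule R L} (hP : PairStable S₀ T₀ X t)
    {j₀ : ℕ} (htp : t ^ (p - 1) = X ^ j₀) {a₁ : L} (ha₁ : a₁ ∈ S₀) (ha₁T : d.red a₁ ∉ d.imS T₀) :
    ∃ (τ : k) (a : L) (ĥ : d.imS S₀ →ₗ[k] k), τ ≠ 0 ∧ a ∈ S₀ ∧ d.red a ∉ d.imS T₀ ∧
      d.red (t a) - τ • d.red a ∈ d.imS T₀ ∧
      (∀ s : d.imS S₀, (s : V) ∈ d.imS T₀ → ĥ s = 0) ∧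
      (∃ hs : d.red a ∈ d.imS S₀, ĥ ⟨d.red a, hs⟩ = 1) ∧
      ∀ s : d.imS S₀, ∀ hs : d.bar t s ∈ d.imS S₀, ĥ ⟨d.bar t s, hs⟩ = τ * ĥ s := by
  have h0 : (p : k) = 0 := by
    have := d.σ_p
    simpa using this
  have htS : ∀ s ∈ d.imS S₀, d.bar t s ∈ d.imS S₀ := by
    rintro _ ⟨v, hv, rfl⟩
    rw [d.bar_red]
    exact d.red_mem_imS (hP.tS v hv)
  have htT : ∀ s ∈ d.imS T₀, d.bar t s ∈ d.imS T₀ := by
    rintro _ ⟨v, hv, rfl⟩
    rw [d.bar_red]
    exact d.red_mem_imS (hP.tT v hv)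
  have hpow : ∀ s ∈ d.imS S₀, ((d.bar t : Module.End k V) ^ (p - 1)) s - s ∈ d.imS T₀ := by
    rintro _ ⟨v, hv, rfl⟩
    rw [← d.bar_pow, d.bar_red, htp, ← map_sub]
    exact d.red_mem_imS (hP.pow_Xmod j₀ v hv)
  obtain ⟨τ, s₀, ĥ, hτ, hs₀, hs₀T, h1, h2, h3, h4⟩ := exists_eigen_sub h0 (d.bar t) (d.imS_mono hP.le) htS htT hpow
    (d.red_mem_imS ha₁) ha₁T
  obtain ⟨a, ha, rfl⟩ := d.mem_imS.mp hs₀
  refine ⟨τ, a, ĥ, hτ, ha, hs₀T, ?_, h2, ⟨hs₀, h3 hs₀⟩, ?_⟩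
  · rw [← d.bar_red]
    exact h1
  · intro s hs
    exact h4 s

/-- Powers: the scalar on the line and on the functional. -/
theorem line_data_pow {S₀ T₀ : Submodule R L} (hP : PairStable S₀ T₀ X t) {τ : k} {a : L} (ha : a ∈ S₀)
    {ĥ : d.imS S₀ →ₗ[k] k} (h1 : d.red (t a) - τ • d.red a ∈ d.imS T₀)
    (h2 : ∀ s : d.imS S₀, (s : V) ∈ d.imS T₀ → ĥ s = 0)
    (h3 : ∀ s : d.imS S₀, ∀ hs : d.bar t s ∈ d.imS S₀, ĥ ⟨d.bar t s, hs⟩ = τ * ĥ s) (i j : ℕ) :
    d.red ((X ^ j * t ^ i) a) - τ ^ i • d.red a ∈ d.imS T₀ ∧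
      ∀ (v : L) (hv : v ∈ S₀) (hv' : d.red ((X ^ j * t ^ i) v) ∈ d.imS S₀),
        ĥ ⟨d.red ((X ^ j * t ^ i) v), hv'⟩ = τ ^ i * ĥ ⟨d.red v, d.red_mem_imS hv⟩ := by
  have key1 : ∀ i : ℕ, d.red ((t ^ i) a) - τ ^ i • d.red a ∈ d.imS T₀ := by
    intro i
    induction i with
    | zero => simp
    | succ i ih =>
      have h4 : (t ^ (i + 1)) a = t ((t ^ i) a) := by
        rw [pow_succ']
        rfl
      have h5 : d.red (t ((t ^ i) a)) = d.bar t (d.red ((t ^ i) a)) := (d.bar_red _ _).symm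
      have h6 : d.bar t (d.red ((t ^ i) a) - τ ^ i • d.red a) ∈ d.imS T₀ := by
        obtain ⟨u, hu, hu'⟩ := d.mem_imS.mp ih
        rw [← hu', d.bar_red]
        exact d.red_mem_imS (hP.tT u hu)
      simp only [map_sub, map_smul, d.bar_red] at h6
      rw [h4]
      have h7 : d.red (t ((t ^ i) a)) - τ ^ (i + 1) • d.red a =
          (d.red (t ((t ^ i) a)) - τ ^ i • d.red (t a)) + τ ^ i • (d.red (t a) - τ • d.red a) := by
        rw [smul_sub, smul_smul, ← pow_succ]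
        abel
      rw [h7]
      exact (d.imS T₀).add_mem h6 ((d.imS T₀).smul_mem _ h1)
  have hS : ∀ i, ∀ v ∈ S₀, d.red ((t ^ i) v) ∈ d.imS S₀ := fun i v hv =>
    d.red_mem_imS (hP.pow_tS i v hv)
  have key2 : ∀ i : ℕ, ∀ (v : L) (hv : v ∈ S₀),
      ĥ ⟨d.red ((t ^ i) v), hS i v hv⟩ = τ ^ i * ĥ ⟨d.red v, d.red_mem_imS hv⟩ := by
    intro i
    induction i with
    | zero =>
      intro v hv
      simp
    | succ i ih =>
      intro v hv
      have h4 : d.red ((t ^ (i + 1)) v) = d.bar t (d.red ((t ^ i) v)) := by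
        rw [d.bar_red, pow_succ']
        rfl
      have h5 := h3 ⟨d.red ((t ^ i) v), hS i v hv⟩ (by
        show d.bar t (d.red ((t ^ i) v)) ∈ _
        rw [← h4]
        exact hS (i + 1) v hv)
      have h6 : (⟨d.red ((t ^ (i + 1)) v), hS (i + 1) v hv⟩ : d.imS S₀) =
          ⟨d.bar t (d.red ((t ^ i) v)), by rw [← h4]; exact hS (i + 1) v hv⟩ := Subtype.ext h4
      rw [h6, h5, ih v hv, pow_succ]
      ring
  constructor
  · have h4 : d.red ((X ^ j * t ^ i) a) - τ ^ i • d.red a =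
        d.red ((X ^ j) ((t ^ i) a) - (t ^ i) a) + (d.red ((t ^ i) a) - τ ^ i • d.red a) := by
      rw [map_sub, Module.End.mul_apply]
      abel
    rw [h4]
    exact (d.imS T₀).add_mem (d.red_mem_imS (hP.pow_Xmod j _ (hP.pow_tS i a ha))) (key1 i)
  · intro v hv hv'
    have h4 : ĥ ⟨d.red ((X ^ j * t ^ i) v), hv'⟩ - ĥ ⟨d.red ((t ^ i) v), hS i v hv⟩ = 0 := by
      rw [← map_sub]
      apply h2
      show d.red ((X ^ j * t ^ i) v) - d.red ((t ^ i) v) ∈ _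
      rw [← map_sub, Module.End.mul_apply]
      exact d.red_mem_imS (hP.pow_Xmod j _ (hP.pow_tS i v hv))
    rw [sub_eq_zero] at h4
    rw [h4, key2 i v hv]

end Family

section Lines

variable {R : Type*} [CommRing R] {L : Type*} [AddCommGroup L] [Module R L]
variable {k V : Type*} [Field k] [AddCommGroup V] [Module k V] [FiniteDimensional k V]
variable {p : ℕ} [hp : Fact p.Prime] (d : RedData p R k L V) {X t : Module.End R L}

/-- The line-type endomorphism on `W`. -/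
theorem exists_g_W [Module.Free R L] (hpc : ∀ a b : R, (p : R) * a = (p : R) * b → a = b)
    (htf : ∀ v : L, (p : R) • v = 0 → v = 0) (hX : X ^ p = 1)
    (hP : PairStable (LinearMap.ker (X - 1)) (LinearMap.range (nrm X p)) X t) {j₀ : ℕ}
    (htp : t ^ (p - 1) = X ^ j₀) {a₁ : L} (ha₁ : a₁ ∈ LinearMap.ker (X - 1))
    (ha₁T : a₁ ∉ LinearMap.range (nrm X p)) :
    ∃ (g : Module.End R L) (a : L) (ℓ : V → k), Commute g X ∧ a ∈ LinearMap.ker (X - 1) ∧
      a ∉ LinearMap.range (nrm X p) ∧ ℓ (d.red a) = 1 ∧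
      (∀ v ∈ LinearMap.ker (X - 1), ∃ r, d.σ r = ℓ (d.red v) ∧ g v = r • a) ∧
      (∀ v ∈ LinearMap.ker (nrm X p), g v = 0) ∧
      ∀ i j i' j' : ℕ, (∀ v, (X ^ j * t ^ i) ((X ^ j' * t ^ i') v) = v) →
        ∀ v ∈ LinearMap.ker (X - 1), (X ^ j * t ^ i) (g ((X ^ j' * t ^ i') v)) - g v ∈
          LinearMap.range (nrm X p) := by
  classical
  have hred : d.red a₁ ∉ d.imS (LinearMap.range (nrm X p)) := by
    rw [← map_top_bar]
    intro h
    exact ha₁T (mem_range_nrm_of_red d htf hX ha₁ h)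
  obtain ⟨τ, a, ĥ, hτ, ha, haT, h1, h2, ⟨hs, h3⟩, h4⟩ := exists_line_data d hP htp ha₁ hred
  obtain ⟨h₁, hh₁⟩ := LinearMap.exists_extend ĥ
  have hh₁' : ∀ (u : V) (hu : u ∈ d.imS (LinearMap.ker (X - 1))), h₁ u = ĥ ⟨u, hu⟩ := by
    intro u hu
    have := congrArg (fun f => f ⟨u, hu⟩) hh₁
    exact this
  have hN : ∀ u, h₁ (d.bar (nrm X p) u) = 0 := by
    intro u
    obtain ⟨v, rfl⟩ := d.red_surj u
    rw [d.bar_red]
    have hm := hP.le (LinearMap.mem_range_self (nrm X p) v)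
    rw [hh₁' _ (d.red_mem_imS hm)]
    apply h2
    exact d.red_mem_imS (LinearMap.mem_range_self _ _)
  obtain ⟨h, g, hh, hgX, hgA, hgB⟩ := exists_lift_W d hpc hX h₁ hN ha
  refine ⟨g, a, h₁, hgX, ha, ?_, ?_, ?_, hgB, ?_⟩
  · intro h'
    exact haT (d.red_mem_imS h')
  · rw [hh₁' _ hs]
    exact h3
  · intro v hv
    exact ⟨h v, hh v, hgA v hv⟩
  · intro i j i' j' hinv v hv
    have hnS : ∀ i j : ℕ, ∀ v ∈ LinearMap.ker (X - 1), (X ^ j * t ^ i) v ∈ LinearMap.ker (X - 1) :=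
      fun i j v hv => hP.pow_XS j _ (hP.pow_tS i v hv)
    have hnT : ∀ v ∈ LinearMap.range (nrm X p), (X ^ j * t ^ i) v ∈ LinearMap.range (nrm X p) :=
      fun v hv => hP.pow_XT j _ (hP.pow_tT i v hv)
    have hdata := line_data_pow d hP ha h1 h2 (fun s hs' => by
      have := h4 s hs'
      exact this) i j
    refine equi_conj d (S₀ := LinearMap.ker (X - 1)) (T₀ := LinearMap.range (nrm X p))
      (fun y hy hy' => mem_range_nrm_of_red d htf hX hy (by rw [map_top_bar]; exact hy')) hP.le hinv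
      (hnS i j) (hnS i' j') hnT ha (ĥ := h₁) ?_ (τ := τ ^ i) hdata.1 ?_ v hv
    · intro v hv
      exact ⟨h v, 0, Submodule.zero_mem _, hh v, by rw [hgA v hv, add_zero]⟩
    · intro v hv
      have hv' := d.red_mem_imS (hnS i j v hv)
      rw [hh₁' _ hv', hdata.2 v hv hv', hh₁' _ (d.red_mem_imS hv)]

/-- The line-type endomorphism on `W'`. -/
theorem exists_g_W' [Module.Free R L]
    (htf : ∀ v : L, (p : R) • v = 0 → v = 0) (hX : X ^ p = 1)
    (hP : PairStable (LinearMap.ker (nrm X p)) (LinearMap.range (X - 1)) X t) {j₀ : ℕ}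
    (htp : t ^ (p - 1) = X ^ j₀) {b₁ : L} (hb₁ : b₁ ∈ LinearMap.ker (nrm X p))
    (hb₁T : b₁ ∉ LinearMap.range (X - 1)) :
    ∃ (g : Module.End R L) (b : L) (ℓ : V → k), Commute g X ∧ b ∈ LinearMap.ker (nrm X p) ∧
      b ∉ LinearMap.range (X - 1) ∧ ℓ (d.red b) = 1 ∧
      (∀ v ∈ LinearMap.ker (nrm X p), ∃ r, ∃ t ∈ LinearMap.range (X - 1), d.σ r = ℓ (d.red v) ∧ g v = r • b + t) ∧
      (∀ v ∈ LinearMap.ker (X - 1), g v = 0) ∧
      ∀ i j i' j' : ℕ, (∀ v, (X ^ j * t ^ i) ((X ^ j' * t ^ i') v) = v) →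
        ∀ v ∈ LinearMap.ker (nrm X p), (X ^ j * t ^ i) (g ((X ^ j' * t ^ i') v)) - g v ∈
          LinearMap.range (X - 1) := by
  classical
  have hred : d.red b₁ ∉ d.imS (LinearMap.range (X - 1)) := by
    rw [← map_top_bar]
    intro h
    exact hb₁T (mem_range_y_of_red d htf hX hb₁ h)
  obtain ⟨τ, b, ĥ, hτ, hb, hbT, h1, h2, ⟨hs, h3⟩, h4⟩ := exists_line_data d hP htp hb₁ hred
  obtain ⟨g, hgX, hgA, hgB⟩ := exists_lift_W' d htf hX hb ĥ (by
    rintro u hu ⟨v, rfl⟩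
    apply h2
    rw [← map_top_bar]
    exact ⟨v, trivial, rfl⟩)
  let ℓ : V → k := fun u => if hu : u ∈ d.imS (LinearMap.ker (nrm X p)) then ĥ ⟨u, hu⟩ else 0
  have hℓ : ∀ (u : V) (hu : u ∈ d.imS (LinearMap.ker (nrm X p))), ℓ u = ĥ ⟨u, hu⟩ := fun u hu => by
    simp only [ℓ, dif_pos hu]
  have hg' : ∀ v ∈ LinearMap.ker (nrm X p), ∃ r, ∃ t ∈ LinearMap.range (X - 1), d.σ r = ℓ (d.red v) ∧ g v = r • b + t := by
    intro v hv
    obtain ⟨r, hr⟩ := d.σ_surj (ℓ (d.red v))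
    rw [hℓ _ (d.red_mem_imS hv)] at hr
    obtain ⟨t', ht', ht''⟩ := hgB v hv r hr
    refine ⟨r, (X - 1) t', LinearMap.mem_range_self _ _, ?_, ?_⟩
    · rw [hℓ _ (d.red_mem_imS hv)]
      exact hr
    · rw [← ht'']
      abel
  refine ⟨g, b, ℓ, hgX, hb, ?_, ?_, hg', hgA, ?_⟩
  · intro h'
    exact hbT (d.red_mem_imS h')
  · rw [hℓ _ hs]
    exact h3
  · intro i j i' j' hinv v hv
    have hnS : ∀ i j : ℕ, ∀ v ∈ LinearMap.ker (nrm X p), (X ^ j * t ^ i) v ∈ LinearMap.ker (nrm X p) :=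
      fun i j v hv => hP.pow_XS j _ (hP.pow_tS i v hv)
    have hnT : ∀ v ∈ LinearMap.range (X - 1), (X ^ j * t ^ i) v ∈ LinearMap.range (X - 1) :=
      fun v hv => hP.pow_XT j _ (hP.pow_tT i v hv)
    have hdata := line_data_pow d hP hb h1 h2 (fun s hs' => by
      have := h4 s hs'
      exact this) i j
    refine equi_conj d (S₀ := LinearMap.ker (nrm X p)) (T₀ := LinearMap.range (X - 1))
      (fun y hy hy' => mem_range_y_of_red d htf hX hy (by rw [map_top_bar]; exact hy')) hP.le hinv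
      (hnS i j) (hnS i' j') hnT hb (ĥ := ℓ) hg' (τ := τ ^ i) hdata.1 ?_ v hv
    · intro v hv
      have hv' := d.red_mem_imS (hnS i j v hv)
      rw [hℓ _ hv', hdata.2 v hv hv', hℓ _ (d.red_mem_imS hv)]

/-- The rank formula from an endomorphism acting like a multiple of a line-type map on `W`. -/
theorem rank_W [Finite k] (htf : ∀ v : L, (p : R) • v = 0 → v = 0) (hX : X ^ p = 1)
    {f g : Module.End R L} (hf : Commute f X) {a : L} {ℓ : V → k} {c₀ : R} (hc₀ : d.σ c₀ ≠ 0)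
    (ha : a ∈ LinearMap.ker (X - 1)) (haN : a ∉ LinearMap.range (nrm X p)) (hℓa : ℓ (d.red a) = 1)
    (hgA : ∀ v ∈ LinearMap.ker (X - 1), ∃ r, d.σ r = ℓ (d.red v) ∧ g v = r • a)
    (hgB : ∀ v ∈ LinearMap.ker (nrm X p), g v = 0)
    (hfA : ∀ v ∈ LinearMap.ker (X - 1), ∃ w, f v - c₀ • g v = nrm X p w)
    (hfB : ∀ v ∈ LinearMap.ker (nrm X p), ∃ w, f v - c₀ • g v = (X - 1) w) (hV : Finite (Module.End k V))
    (M : ℕ) (hM : IsIdempotentElem (d.bar (f ^ (M + 1)) : Module.End k V)) :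
    ((p : ℤ) - 1) * rk (d.bar (f ^ (M + 1))) (d.imS (LinearMap.ker (X - 1))) -
        rk (d.bar (f ^ (M + 1))) (d.imS (LinearMap.ker (nrm X p))) = (p : ℤ) - 1 := by
  refine tate_W d htf hX hf ha (fun v hv => haN ⟨v, hv⟩) (fun u => d.σ c₀ * ℓ u) ?_ ?_ ?_ M hM
  · intro v hv
    obtain ⟨r, hr, hg⟩ := hgA v hv
    obtain ⟨w, hw⟩ := hfA v hv
    refine ⟨c₀ * r, w, ?_, ?_⟩
    · rw [map_mul, hr]
    · rw [← hw, hg, mul_smul]
  · rw [hℓa, mul_one]
    exact hc₀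
  · intro v hv
    obtain ⟨w, hw⟩ := hfB v hv
    rw [hgB v hv, smul_zero, sub_zero] at hw
    exact ⟨w, hw⟩

/-- The rank formula from an endomorphism acting like a multiple of a line-type map on `W'`. -/
theorem rank_W' [Finite k] (htf : ∀ v : L, (p : R) • v = 0 → v = 0) (hX : X ^ p = 1)
    {f g : Module.End R L} (hf : Commute f X) {b : L} {ℓ : V → k} {c₀ : R} (hc₀ : d.σ c₀ ≠ 0)
    (hb : b ∈ LinearMap.ker (nrm X p)) (hbN : b ∉ LinearMap.range (X - 1)) (hℓb : ℓ (d.red b) = 1)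
    (hgB : ∀ v ∈ LinearMap.ker (nrm X p), ∃ r, ∃ t ∈ LinearMap.range (X - 1), d.σ r = ℓ (d.red v) ∧ g v = r • b + t)
    (hgA : ∀ v ∈ LinearMap.ker (X - 1), g v = 0)
    (hfA : ∀ v ∈ LinearMap.ker (X - 1), ∃ w, f v - c₀ • g v = nrm X p w)
    (hfB : ∀ v ∈ LinearMap.ker (nrm X p), ∃ w, f v - c₀ • g v = (X - 1) w)
    (M : ℕ) (hM : IsIdempotentElem (d.bar (f ^ (M + 1)) : Module.End k V)) :
    ((p : ℤ) - 1) * rk (d.bar (f ^ (M + 1))) (d.imS (LinearMap.ker (X - 1))) -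
        rk (d.bar (f ^ (M + 1))) (d.imS (LinearMap.ker (nrm X p))) = -((p : ℤ) - 1) := by
  refine tate_W' d htf hX hf hb (fun v hv => hbN ⟨v, hv⟩) (fun u => d.σ c₀ * ℓ u) ?_ ?_ ?_ M hM
  · intro v hv
    obtain ⟨r, t, ⟨t', rfl⟩, hr, hg⟩ := hgB v hv
    obtain ⟨w, hw⟩ := hfB v hv
    refine ⟨c₀ * r, w + c₀ • t', ?_, ?_⟩
    · rw [map_mul, hr]
    · rw [map_add, ← hw, hg, smul_add, mul_smul, map_smul]
      abel
  · rw [hℓb, mul_one]
    exact hc₀
  · intro v hv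
    obtain ⟨w, hw⟩ := hfA v hv
    rw [hgA v hv, smul_zero, sub_zero] at hw
    exact ⟨w, hw⟩

end Lines

end Cfsg.Agent.Lib.FF
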