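import Cfsg.Agent.Lib.FF.DefOneRing

/-!
# An unramified subring containing roots of unity of order prime to `p`
-/

set_option autoImplicit false
set_option linter.unusedSectionVars false
set_option linter.unusedVariables false

namespace Cfsg.Agent.Lib.FF

open Cfsg Cfsg.Agent.Lib.Block

section Unram

variable {M : Ideal AlgInt} {p : ℕ}

/-- The cyclotomic subring. -/
noncomputable def cycA (ω : ℂ) : Subring ℂ := Subring.closure {ω}

theorem mem_cycA_self (ω : ℂ) : ω ∈ cycA ω := Subring.subset_closure rfl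

/-- Frobenius in the cyclotomic ring. -/
theorem frob_cycA (hp : p.Prime) {ω : ℂ} {f : ℕ} (hf : 0 < f) (hω : ω ^ (p ^ f) = ω) :
    ∀ a ∈ cycA ω, ∃ b ∈ cycA ω, a ^ (p ^ f) - a = p * b := by
  have hq : p ^ f ≠ 0 := pow_ne_zero _ hp.ne_zero
  have hA : ∀ a c : ℂ, a ∈ cycA ω → c ∈ cycA ω → ∃ r ∈ cycA ω, (a + c) ^ (p ^ f) = a ^ (p ^ f) + c ^ (p ^ f) + p * r := by
    intro a c ha hc
    obtain ⟨r, hr⟩ := exists_add_pow_prime_pow_eq hp (⟨a, ha⟩ : cycA ω) ⟨c, hc⟩ f
    refine ⟨a * c * r, (cycA ω).mul_mem ((cycA ω).mul_mem ha hc) r.2, ?_⟩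
    have := congrArg (Subtype.val) hr
    simp only [Subring.coe_add, Subring.coe_pow, Subring.coe_mul, Subring.coe_natCast] at this
    rw [this]
    ring
  intro a ha
  have hmul : ∀ a c : ℂ, (∃ b ∈ cycA ω, a ^ (p ^ f) - a = p * b) → (∃ b ∈ cycA ω, c ^ (p ^ f) - c = p * b) →
      a ∈ cycA ω → c ∈ cycA ω → ∃ b ∈ cycA ω, (a * c) ^ (p ^ f) - a * c = p * b := by
    rintro a c ⟨b, hb, h1⟩ ⟨d, hd, h2⟩ ha hc
    refine ⟨b * c + a * d + p * b * d, ?_, ?_⟩
    · have hp' : (p : ℂ) ∈ cycA ω := natCast_mem _ p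
      exact (cycA ω).add_mem ((cycA ω).add_mem ((cycA ω).mul_mem hb hc) ((cycA ω).mul_mem ha hd))
        ((cycA ω).mul_mem ((cycA ω).mul_mem hp' hb) hd)
    · have h3 : a ^ (p ^ f) = a + p * b := by linear_combination h1
      have h4 : c ^ (p ^ f) = c + p * d := by linear_combination h2
      rw [mul_pow, h3, h4]
      ring
  have hneg1 : ∃ b ∈ cycA ω, (-1 : ℂ) ^ (p ^ f) - (-1) = p * b := by
    rcases Nat.even_or_odd (p ^ f) with h | h
    · have h2 : p = 2 := by
        have h3 : Even p := (Nat.even_pow.mp h).1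
        exact (hp.even_iff.mp h3)
      refine ⟨1, (cycA ω).one_mem, ?_⟩
      rw [h.neg_one_pow, h2]
      push_cast
      ring
    · refine ⟨0, (cycA ω).zero_mem, ?_⟩
      rw [h.neg_one_pow]
      ring
  induction ha using Subring.closure_induction with
  | mem a h =>
    rw [Set.mem_singleton_iff] at h
    subst h
    exact ⟨0, (cycA a).zero_mem, by rw [hω]; ring⟩
  | zero => exact ⟨0, (cycA ω).zero_mem, by rw [zero_pow hq]; ring⟩
  | one => exact ⟨0, (cycA ω).zero_mem, by rw [one_pow]; ring⟩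
  | add a c ha hc h1 h2 =>
    obtain ⟨b, hb, h1⟩ := h1
    obtain ⟨d, hd, h2⟩ := h2
    obtain ⟨r, hr, h3⟩ := hA a c ha hc
    refine ⟨b + d + r, (cycA ω).add_mem ((cycA ω).add_mem hb hd) hr, ?_⟩
    rw [h3]
    linear_combination h1 + h2
  | neg a ha h1 =>
    have h := hmul (-1) a hneg1 h1 ((cycA ω).neg_mem (cycA ω).one_mem) ha
    simpa using h
  | mul a c ha hc h1 h2 => exact hmul a c h1 h2 ha hc

/-- The elements of the cyclotomic ring are integer combinations of powers. -/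
theorem cycA_eq_sum {ω : ℂ} {n : ℕ} (hn : 0 < n) (hω : ω ^ n = 1) :
    ∀ a ∈ cycA ω, ∃ c : ℕ → ℤ, a = ∑ i ∈ Finset.range n, (c i : ℂ) * ω ^ i := by
  have hpow : ∀ k : ℕ, ω ^ k = ω ^ (k % n) := by
    intro k
    conv_lhs => rw [← Nat.div_add_mod k n, pow_add, pow_mul, hω, one_pow, one_mul]
  let T : Set ℂ := (fun i => ω ^ i) '' (Finset.range n : Set ℕ)
  let G₀ : AddSubgroup ℂ := AddSubgroup.closure T
  have hT : ∀ k : ℕ, ω ^ k ∈ G₀ := by
    intro k
    rw [hpow]
    exact AddSubgroup.subset_closure ⟨k % n, by simpa using Nat.mod_lt k hn, rfl⟩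
  have hmul1 : ∀ (k : ℕ) (g : ℂ), g ∈ G₀ → ω ^ k * g ∈ G₀ := by
    intro k g hg
    induction hg using AddSubgroup.closure_induction with
    | mem g h =>
      obtain ⟨i, -, rfl⟩ := h
      show ω ^ k * ω ^ i ∈ G₀
      rw [← pow_add]
      exact hT _
    | zero =>
      rw [mul_zero]
      exact G₀.zero_mem
    | add a b _ _ h1 h2 =>
      rw [mul_add]
      exact G₀.add_mem h1 h2
    | neg a _ h1 =>
      rw [mul_neg]
      exact G₀.neg_mem h1
  have hmul2 : ∀ g h : ℂ, g ∈ G₀ → h ∈ G₀ → g * h ∈ G₀ := by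
    intro g h hg hh
    induction hg using AddSubgroup.closure_induction with
    | mem g h' =>
      obtain ⟨i, -, rfl⟩ := h'
      exact hmul1 i h hh
    | zero =>
      rw [zero_mul]
      exact G₀.zero_mem
    | add a b _ _ h1 h2 =>
      rw [add_mul]
      exact G₀.add_mem h1 h2
    | neg a _ h1 =>
      rw [neg_mul]
      exact G₀.neg_mem h1
  have hAG : ∀ a ∈ cycA ω, a ∈ G₀ := by
    intro a ha
    induction ha using Subring.closure_induction with
    | mem a h =>
      rw [Set.mem_singleton_iff] at h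
      subst h
      have := hT 1
      rwa [pow_one] at this
    | zero => exact G₀.zero_mem
    | one =>
      have := hT 0
      rwa [pow_zero] at this
    | add a c _ _ h1 h2 => exact G₀.add_mem h1 h2
    | neg a _ h1 => exact G₀.neg_mem h1
    | mul a c _ _ h1 h2 => exact hmul2 a c h1 h2
  have hsum : ∀ g ∈ G₀, ∃ c : ℕ → ℤ, g = ∑ i ∈ Finset.range n, (c i : ℂ) * ω ^ i := by
    intro g hg
    induction hg using AddSubgroup.closure_induction with
    | mem g h =>
      obtain ⟨i, hi, rfl⟩ := h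
      classical
      refine ⟨fun j => if j = i then 1 else 0, ?_⟩
      rw [Finset.sum_eq_single i]
      · simp
      · intro j _ hj
        simp [hj]
      · intro h
        exact absurd hi (by simpa using h)
    | zero => exact ⟨0, by simp⟩
    | add u v hu hv h1 h2 =>
      obtain ⟨c, hc⟩ := h1
      obtain ⟨d, hd⟩ := h2
      refine ⟨c + d, ?_⟩
      rw [hc, hd, ← Finset.sum_add_distrib]
      refine Finset.sum_congr rfl fun i _ => ?_
      simp only [Pi.add_apply]
      push_cast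
      ring
    | neg u hu h1 =>
      obtain ⟨c, hc⟩ := h1
      refine ⟨-c, ?_⟩
      rw [hc, ← Finset.sum_neg_distrib]
      refine Finset.sum_congr rfl fun i _ => ?_
      simp only [Pi.neg_apply]
      push_cast
      ring
  intro a ha
  exact hsum a (hAG a ha)

/-- Elements of the cyclotomic ring reduced modulo `p`: a finite set of representatives. -/
theorem cycA_reps (hp : 0 < p) {ω : ℂ} {n : ℕ} (hn : 0 < n) (hω : ω ^ n = 1) :
    ∃ F : Finset ℂ, (∀ w ∈ F, w ∈ cycA ω) ∧ ∀ a ∈ cycA ω, ∃ w ∈ F, ∃ u ∈ cycA ω, a = w + p * u := by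
  classical
  refine ⟨(Finset.univ : Finset (Fin n → Fin p)).image fun c => ∑ i : Fin n, (((c i : ℕ) : ℂ)) * ω ^ (i : ℕ), ?_, ?_⟩
  · intro w hw
    obtain ⟨c, -, rfl⟩ := Finset.mem_image.mp hw
    exact (cycA ω).sum_mem fun i _ => (cycA ω).mul_mem (natCast_mem _ _) ((cycA ω).pow_mem (mem_cycA_self ω) _)
  · intro a ha
    obtain ⟨c, hc⟩ := cycA_eq_sum hn hω a ha
    have hp' : (0 : ℤ) < p := by exact_mod_cast hp
    have hlt : ∀ i : ℕ, (c i % p).toNat < p := by
      intro i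
      have h1 := Int.emod_lt_of_pos (c i) hp'
      have h2 := Int.emod_nonneg (c i) hp'.ne'
      omega
    refine ⟨∑ i : Fin n, (((⟨(c i % p).toNat, hlt i⟩ : Fin p) : ℕ) : ℂ) * ω ^ (i : ℕ),
      Finset.mem_image.mpr ⟨fun i => ⟨(c i % p).toNat, hlt i⟩, Finset.mem_univ _, rfl⟩,
      ∑ i : Fin n, ((c i / p : ℤ) : ℂ) * ω ^ (i : ℕ), ?_, ?_⟩
    · exact (cycA ω).sum_mem fun i _ => (cycA ω).mul_mem (intCast_mem _ _) ((cycA ω).pow_mem (mem_cycA_self ω) _)
    · rw [hc, Finset.mul_sum, ← Finset.sum_add_distrib, Finset.sum_range]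
      refine Finset.sum_congr rfl fun i _ => ?_
      have h1 : ((c i : ℤ) : ℂ) = (((c i % p).toNat : ℕ) : ℂ) + p * ((c i / p : ℤ) : ℂ) := by
        have h2 := Int.emod_add_mul_ediv (c i) p
        have h3 : (((c i % p).toNat : ℕ) : ℤ) = c i % p := Int.toNat_of_nonneg (Int.emod_nonneg _ hp'.ne')
        have h4 : c i = (((c i % p).toNat : ℕ) : ℤ) + (p : ℤ) * (c i / p) := by
          rw [h3]
          exact h2.symm
        have h5 := congrArg (Int.cast : ℤ → ℂ) h4
        push_cast at h5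
        exact h5
      rw [h1]
      ring

theorem cycA_local [M.IsPrime] {ω : ℂ} (hloc : MemLocalRing M ω) : ∀ a ∈ cycA ω, MemLocalRing M a := by
  have h : cycA ω ≤ localRing M := by
    refine (Subring.closure_le).mpr ?_
    intro y hy
    rw [Set.mem_singleton_iff.mp hy]
    exact hloc
  exact fun a ha => h ha

/-- The localization of the cyclotomic ring. -/
noncomputable def cycO (M : Ideal AlgInt) [M.IsPrime] (ω : ℂ) (hloc : MemLocalRing M ω) : Subring ℂ where
  carrier := {z | ∃ a ∈ cycA ω, ∃ s ∈ cycA ω, ¬ MemLocalIdeal M s ∧ z * s = a}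
  mul_mem' := by
    rintro z z' ⟨a, ha, s, hs, hs', h1⟩ ⟨a', ha', t, ht, ht', h2⟩
    have hsl := cycA_local hloc s hs
    have htl := cycA_local hloc t ht
    refine ⟨a * a', (cycA ω).mul_mem ha ha', s * t, (cycA ω).mul_mem hs ht, not_memLocalIdeal_mul hsl htl hs' ht', ?_⟩
    rw [← h1, ← h2]
    ring
  one_mem' := ⟨1, (cycA ω).one_mem, 1, (cycA ω).one_mem, not_memLocalIdeal_one, by ring⟩
  add_mem' := by
    rintro z z' ⟨a, ha, s, hs, hs', h1⟩ ⟨a', ha', t, ht, ht', h2⟩
    have hsl := cycA_local hloc s hs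
    have htl := cycA_local hloc t ht
    refine ⟨a * t + a' * s, (cycA ω).add_mem ((cycA ω).mul_mem ha ht) ((cycA ω).mul_mem ha' hs), s * t,
      (cycA ω).mul_mem hs ht, not_memLocalIdeal_mul hsl htl hs' ht', ?_⟩
    rw [← h1, ← h2]
    ring
  zero_mem' := ⟨0, (cycA ω).zero_mem, 1, (cycA ω).one_mem, not_memLocalIdeal_one, by ring⟩
  neg_mem' := by
    rintro z ⟨a, ha, s, hs, hs', h1⟩
    refine ⟨-a, (cycA ω).neg_mem ha, s, hs, hs', ?_⟩
    rw [← h1]
    ring

theorem mem_cycO [M.IsPrime] {ω : ℂ} {hloc : MemLocalRing M ω} {z : ℂ} :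
    z ∈ cycO M ω hloc ↔ ∃ a ∈ cycA ω, ∃ s ∈ cycA ω, ¬ MemLocalIdeal M s ∧ z * s = a := Iff.rfl

theorem cycA_le_cycO [M.IsPrime] {ω : ℂ} (hloc : MemLocalRing M ω) {a : ℂ} (ha : a ∈ cycA ω) :
    a ∈ cycO M ω hloc :=
  ⟨a, ha, 1, (cycA ω).one_mem, not_memLocalIdeal_one, by ring⟩

theorem cycO_unram [M.IsPrime] (hM : IsPModular p M) {ω : ℂ} (hloc : MemLocalRing M ω) {n : ℕ} (hn : 0 < n)
    (hω : ω ^ n = 1) (hpn : ¬ p ∣ n) : UnramRing M p (cycO M ω hloc) := by
  have hp := isPModular_prime hM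
  have hcop : Nat.Coprime p n := (Nat.Prime.coprime_iff_not_dvd hp).mpr hpn
  set f := Nat.totient n with hfdef
  have hf : 0 < f := Nat.totient_pos.mpr hn
  have hpow : ∀ k : ℕ, ω ^ k = ω ^ (k % n) := by
    intro k
    conv_lhs => rw [← Nat.div_add_mod k n, pow_add, pow_mul, hω, one_pow, one_mul]
  have hωq : ω ^ (p ^ f) = ω := by
    rw [hpow]
    have h1 : p ^ f % n = 1 % n := Nat.ModEq.pow_totient hcop
    rw [h1, ← hpow, pow_one]
  have hfrob := frob_cycA hp hf hωq
  set q := p ^ f with hq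
  have hq2 : 2 ≤ q := by
    calc 2 ≤ p := hp.two_le
      _ = p ^ 1 := (pow_one p).symm
      _ ≤ p ^ f := Nat.pow_le_pow_right hp.pos hf
  have hsl : ∀ s ∈ cycA ω, MemLocalRing M s := cycA_local hloc
  refine ⟨?_, ?_, ?_, ?_⟩
  · rintro z ⟨a, ha, s, hs, hs', h1⟩
    have h0 := ne_zero_of_not_memLocalIdeal hs'
    have h2 : z = a * s⁻¹ := by
      rw [← h1]
      field_simp
    rw [h2]
    exact memLocalRing_mul (hsl a ha) (memLocalRing_inv (hsl s hs) hs')
  · rintro z ⟨a, ha, s, hs, hs', h1⟩ hzI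
    have haI : MemLocalIdeal M a := by
      rw [← h1]
      exact memLocalIdeal_mul_right hzI (hsl s hs)
    obtain ⟨b, hb, hab⟩ := hfrob a ha
    have hq1 : q = (q - 2) + 1 + 1 := by omega
    have ht : a ^ (q - 1) - 1 ∈ cycA ω := (cycA ω).sub_mem ((cycA ω).pow_mem ha _) (cycA ω).one_mem
    have ht' : ¬ MemLocalIdeal M (a ^ (q - 1) - 1) := by
      intro h
      have h2 : MemLocalIdeal M (a ^ (q - 1)) := by
        have h3 : q - 1 = (q - 2) + 1 := by omega
        rw [h3, pow_succ]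
        exact memLocalIdeal_mul_left ((localRing M).pow_mem (hsl a ha) _) haI
      have h3 := memLocalIdeal_sub h2 h
      rw [sub_sub_cancel] at h3
      exact not_memLocalIdeal_one h3
    have h0 := ne_zero_of_not_memLocalIdeal hs'
    have h0' := ne_zero_of_not_memLocalIdeal ht'
    have hat : a * (a ^ (q - 1) - 1) = p * b := by
      rw [← hab]
      have h3 : a ^ q = a * a ^ (q - 1) := by
        conv_lhs => rw [show q = (q - 1) + 1 by omega, pow_succ]
        ring
      rw [h3]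
      ring
    refine ⟨b / ((a ^ (q - 1) - 1) * s), ⟨b, hb, (a ^ (q - 1) - 1) * s, (cycA ω).mul_mem ht hs,
      not_memLocalIdeal_mul (hsl _ ht) (hsl s hs) ht' hs', ?_⟩, ?_⟩
    · field_simp
    · have h3 : z = a / s := by
        rw [← h1]
        field_simp
      rw [h3, div_eq_iff h0]
      have h5 : (p : ℂ) * (b / ((a ^ (q - 1) - 1) * s)) * s = p * b / (a ^ (q - 1) - 1) := by
        field_simp
      rw [h5, eq_div_iff h0']
      exact hat
  · rintro z ⟨a, ha, s, hs, hs', h1⟩ hz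
    have ha' : ¬ MemLocalIdeal M a := by
      intro h
      rw [← h1] at h
      exact hz (memLocalIdeal_of_mul_unit (hsl s hs) hs' h)
    have hz0 := ne_zero_of_not_memLocalIdeal hz
    refine ⟨s, hs, a, ha, ha', ?_⟩
    rw [← h1]
    field_simp
  · obtain ⟨F, hF, hrep⟩ := cycA_reps hp.pos hn hω
    refine ⟨F, fun w hw => cycA_le_cycO hloc (hF w hw), ?_⟩
    rintro z ⟨a, ha, s, hs, hs', h1⟩
    obtain ⟨b, hb, hsb⟩ := hfrob s hs
    have h0 := ne_zero_of_not_memLocalIdeal hs'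
    obtain ⟨w, hw, u, hu, h3⟩ := hrep (a * s ^ (q - 2)) ((cycA ω).mul_mem ha ((cycA ω).pow_mem hs _))
    have hc : b / s ∈ cycO M ω hloc := ⟨b, hb, s, hs, hs', by field_simp⟩
    have hz : z ∈ cycO M ω hloc := ⟨a, ha, s, hs, hs', h1⟩
    refine ⟨w, hw, u - b / s * z, (cycO M ω hloc).sub_mem (cycA_le_cycO hloc hu)
      ((cycO M ω hloc).mul_mem hc hz), ?_⟩
    have h5 : s ^ q = s * s ^ (q - 2) * s := by
      conv_lhs => rw [show q = (q - 2) + 1 + 1 by omega, pow_succ, pow_succ]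
      ring
    have h6 : s * s ^ (q - 2) = 1 + p * (b / s) := by
      have h7 : s * s ^ (q - 2) * s = s + p * b := by
        rw [← h5]
        linear_combination hsb
      field_simp
      linear_combination h7
    have h8 : z * (s * s ^ (q - 2)) = a * s ^ (q - 2) := by
      rw [← h1]
      ring
    rw [h6, h3] at h8
    linear_combination h8

/-- **An unramified subring containing the roots of unity of order dividing `n`**, with `p` not dividing
`n`. -/
theorem exists_unram (hM : IsPModular p M) {n : ℕ} (hn : 0 < n) (hpn : ¬ p ∣ n) :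
    ∃ O : Subring ℂ, UnramRing M p O ∧ ∀ z : ℂ, z ^ n = 1 → z ∈ O := by
  have := isPModular_isPrime hM
  let ω : ℂ := Complex.exp (2 * Real.pi * Complex.I / n)
  have hprim : IsPrimitiveRoot ω n := Complex.isPrimitiveRoot_exp n hn.ne'
  have hloc : MemLocalRing M ω :=
    memLocalRing_of_isIntegral (IsIntegral.of_pow hn (by rw [hprim.pow_eq_one]; exact isIntegral_one))
  refine ⟨cycO M ω hloc, cycO_unram hM hloc hn hprim.pow_eq_one hpn, ?_⟩
  intro z hz
  haveI : NeZero n := ⟨hn.ne'⟩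
  obtain ⟨i, -, rfl⟩ := hprim.eq_pow_of_pow_eq_one hz
  exact cycA_le_cycO hloc ((cycA ω).pow_mem (mem_cycA_self ω) _)

end Unram

end Cfsg.Agent.Lib.FF
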