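import Cfsg.Agent.Lib.FF.DefOneKey
import Cfsg.Agent.Lib.FF.DefOneUnram
import Cfsg.Agent.Lib.SmallSimple.BrauerB
import Cfsg.Agent.Lib.Block.Principal

/-!
# Group theory for defect one

The normal complement `K` of `⟨x⟩` in the centralizer of `x`, its idempotent `eK`, a generator of the
normalizer modulo the centralizer.
-/

set_option autoImplicit false
set_option linter.unusedSectionVars false
set_option linter.unusedVariables false
set_option maxSynthPendingDepth 3

namespace Cfsg.Agent.Lib.FF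

open Module Polynomial Cfsg Cfsg.Agent.Lib.Block

section Group

variable {G : Type*} [Group G] {p : ℕ} {x : G}

/-- A generator modulo the centralizer. -/
theorem exists_t0 [Finite G] [hp : Fact p.Prime] (hx : orderOf x = p) :
    ∃ t₀ ∈ Subgroup.normalizer ((Subgroup.zpowers x : Subgroup G) : Set G),
      (∀ n ∈ Subgroup.normalizer ((Subgroup.zpowers x : Subgroup G) : Set G), ∃ i : ℕ,
        Commute ((t₀ ^ i)⁻¹ * n) x) ∧ Commute (t₀ ^ (p - 1)) x := by
  classical
  let f := (Subgroup.zpowers x).normalizerMonoidHom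
  have hcard : Nat.card (Subgroup.zpowers x) = p := by rw [Nat.card_zpowers, hx]
  have : IsCyclic (MulAut (Subgroup.zpowers x)) := by
    have e := IsCyclic.mulAutMulEquiv (Subgroup.zpowers x)
    rw [hcard] at e
    exact isCyclic_of_surjective e.symm e.symm.surjective
  obtain ⟨g, hg⟩ := IsCyclic.exists_generator (α := f.range)
  obtain ⟨t, ht⟩ := g.2
  have hker : ∀ m : Subgroup.normalizer ((Subgroup.zpowers x : Subgroup G) : Set G), f m = 1 → Commute (m : G) x := by
    intro m hm
    have h1 := (MonoidHom.mem_ker.mpr hm)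
    rw [Subgroup.normalizerMonoidHom_ker] at h1
    have h2 : (m : G) ∈ Subgroup.centralizer ((Subgroup.zpowers x : Subgroup G) : Set G) := h1
    rw [Subgroup.mem_centralizer_iff] at h2
    exact (h2 x (Subgroup.mem_zpowers x)).symm
  refine ⟨t, t.2, ?_, ?_⟩
  · intro n hn
    have h1 : (⟨f ⟨n, hn⟩, ⟨_, rfl⟩⟩ : f.range) ∈ Subgroup.zpowers g := hg _
    have h2 : (⟨f ⟨n, hn⟩, ⟨_, rfl⟩⟩ : f.range) ∈ Submonoid.powers g := mem_powers_iff_mem_zpowers.mpr h1
    obtain ⟨i, hi⟩ := h2
    refine ⟨i, ?_⟩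
    have h3 : f ⟨n, hn⟩ = (f t) ^ i := by
      have := congrArg Subtype.val hi
      rw [ht]
      simpa using this.symm
    have h4 := hker ((t ^ i)⁻¹ * ⟨n, hn⟩) (by
      rw [map_mul, map_inv, map_pow, h3, inv_mul_cancel])
    simpa using h4
  · have h1 : (f t) ^ (p - 1) = 1 := by
      have h2 : Nat.card (MulAut (Subgroup.zpowers x)) = p - 1 := by
        rw [IsCyclic.card_mulAut, hcard, Nat.totient_prime hp.out]
      rw [← h2]
      exact pow_card_eq_one'
    have h4 := hker (t ^ (p - 1)) (by rw [map_pow, h1])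
    simpa using h4

/-- A normal complement of `⟨x⟩` in the centralizer of `x`. -/
structure CompK (x : G) (p : ℕ) (K : Subgroup G) : Prop where
  comm : ∀ c ∈ K, Commute c x
  decomp : ∀ y, Commute y x → ∃ j : ℕ, ∃ c ∈ K, y = x ^ j * c
  ndvd : ¬ p ∣ Nat.card K
  reg : ∀ y, Commute y x → ¬ p ∣ orderOf y → y ∈ K

theorem exists_compK [Fintype G] [hp : Fact p.Prime] (hx : orderOf x = p) (hsyl : ¬ p ^ 2 ∣ Nat.card G) :
    ∃ K : Subgroup G, CompK x p K := by
  classical
  have hpr := hp.out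
  obtain ⟨N, hN, hN', hidx, -⟩ := Cfsg.Agent.Lib.SmallSimple.BB.exists_complement (p := p) (x := x) hx hsyl
  let C := Subgroup.centralizer ({x} : Set G)
  have hxC : x ∈ C := by
    show x ∈ Subgroup.centralizer ({x} : Set G)
    rw [Subgroup.mem_centralizer_singleton_iff]
  let z : C := ⟨x, hxC⟩
  have hzo : orderOf z = p := by
    rw [← Subgroup.orderOf_coe]
    exact hx
  have hzN : z ∉ N := by
    intro h
    apply hN'
    have h1 : orderOf (⟨z, h⟩ : N) = p := by
      rw [← Subgroup.orderOf_coe]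
      exact hzo
    rw [← h1]
    exact orderOf_dvd_natCard _
  have hmemC : ∀ y, Commute y x → y ∈ C := by
    intro y hy
    show y ∈ Subgroup.centralizer ({x} : Set G)
    rw [Subgroup.mem_centralizer_singleton_iff]
    exact hy.eq
  have hcop : ∀ y : G, y ∈ N.map C.subtype → ¬ p ∣ orderOf y := by
    rintro _ ⟨c, hc, rfl⟩ hd
    apply hN'
    have h1 : orderOf (⟨c, hc⟩ : N) = orderOf c := by
      rw [← Subgroup.orderOf_coe]
    have h2 : orderOf c = orderOf (C.subtype c) := by
      show orderOf c = orderOf (c : G)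
      rw [Subgroup.orderOf_coe]
    rw [h2] at h1
    rw [← h1] at hd
    exact hd.trans (orderOf_dvd_natCard _)
  have hdecomp : ∀ y, Commute y x → ∃ j : ℕ, ∃ c ∈ N.map C.subtype, y = x ^ j * c := by
    intro y hy
    have hcard : Nat.card (C ⧸ N) = p := by rw [← Subgroup.index_eq_card, hidx]
    have hne : ((z : C) : C ⧸ N) ≠ 1 := by
      intro h
      exact hzN ((QuotientGroup.eq_one_iff _).mp h)
    have h1 : ((⟨y, hmemC y hy⟩ : C) : C ⧸ N) ∈ Subgroup.zpowers ((z : C) : C ⧸ N) :=
      mem_zpowers_of_prime_card (Nat.Prime.ne_zero hpr |> fun _ => hcard) hne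
    have h2 := mem_powers_iff_mem_zpowers.mpr h1
    obtain ⟨j, hj⟩ := h2
    refine ⟨j, (x ^ j)⁻¹ * y, ?_, by group⟩
    have h3 : ((z ^ j : C) : C ⧸ N) = ((⟨y, hmemC y hy⟩ : C) : C ⧸ N) := by
      rw [← hj]
      rfl
    have h4 := QuotientGroup.eq.mp h3
    refine ⟨_, h4, ?_⟩
    simp [z]
  refine ⟨N.map C.subtype, ?_, hdecomp, ?_, ?_⟩
  · rintro _ ⟨c, -, rfl⟩
    have : (c : G) * x = x * c := Subgroup.mem_centralizer_singleton_iff.mp c.2
    exact this
  · intro hd
    apply hN'
    have h1 : Nat.card (N.map C.subtype) = Nat.card N :=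
      Nat.card_congr (N.equivMapOfInjective _ C.subtype_injective).toEquiv.symm
    rwa [h1] at hd
  · intro y hy hyp
    obtain ⟨j, c, hc, rfl⟩ := hdecomp y hy
    have hcx : Commute c x := by
      obtain ⟨c', -, rfl⟩ := hc
      have : (c' : G) * x = x * c' := Subgroup.mem_centralizer_singleton_iff.mp c'.2
      exact this
    have hcy : Commute (x ^ j) c := (hcx.symm.pow_left j)
    have h1 : (x ^ j) ^ (orderOf (x ^ j * c) * orderOf c) = 1 := by
      have h2 : (x ^ j * c) ^ (orderOf (x ^ j * c) * orderOf c) = 1 := by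
        rw [pow_mul, pow_orderOf_eq_one, one_pow]
      rw [hcy.mul_pow] at h2
      have h3 : c ^ (orderOf (x ^ j * c) * orderOf c) = 1 := by
        rw [mul_comm, pow_mul, pow_orderOf_eq_one, one_pow]
      rw [h3, mul_one] at h2
      exact h2
    have h4 : orderOf (x ^ j) ∣ orderOf (x ^ j * c) * orderOf c := orderOf_dvd_of_pow_eq_one h1
    have h5 : orderOf (x ^ j) ∣ p := by
      rw [← hx]
      exact orderOf_dvd_of_pow_eq_one (by rw [← pow_mul, mul_comm, pow_mul, pow_orderOf_eq_one, one_pow])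
    have h6 : orderOf (x ^ j) = 1 := by
      rcases (Nat.dvd_prime hpr).mp h5 with h | h
      · exact h
      · exfalso
        rw [h] at h4
        rcases (Nat.Prime.dvd_mul hpr).mp h4 with h7 | h7
        · exact hyp h7
        · exact hcop c hc h7
    rw [orderOf_eq_one_iff.mp h6, one_mul]
    exact hc

namespace CompK

variable {K : Subgroup G} (hK : CompK x p K)
include hK

theorem conj_mem [Fintype G] [hp : Fact p.Prime] {n : G} (hn : n ∈ Subgroup.normalizer ((Subgroup.zpowers x : Subgroup G) : Set G))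
    {c : G} (hc : c ∈ K) : n * c * n⁻¹ ∈ K := by
  apply hK.reg
  · have h1 : n⁻¹ * x * n ∈ Subgroup.zpowers x := by
      have := (Subgroup.mem_normalizer_iff.mp (Subgroup.inv_mem _ hn) x).mp (Subgroup.mem_zpowers x)
      simpa using this
    obtain ⟨k, hk⟩ := Subgroup.mem_zpowers_iff.mp h1
    have hcx : Commute c (x ^ k) := (hK.comm c hc).zpow_right k
    show n * c * n⁻¹ * x = x * (n * c * n⁻¹)
    have h2 : n⁻¹ * x = x ^ k * n⁻¹ := by
      rw [hk]
      group
    have h3 : x * n = n * x ^ k := by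
      rw [hk]
      group
    calc n * c * n⁻¹ * x = n * c * (n⁻¹ * x) := by group
      _ = n * c * (x ^ k * n⁻¹) := by rw [h2]
      _ = n * (c * x ^ k) * n⁻¹ := by group
      _ = n * (x ^ k * c) * n⁻¹ := by rw [hcx.eq]
      _ = (n * x ^ k) * c * n⁻¹ := by group
      _ = x * n * c * n⁻¹ := by rw [h3]
      _ = x * (n * c * n⁻¹) := by group
  · have h1 : orderOf (n * c * n⁻¹) = orderOf c := orderOf_conj _ _
    rw [h1]
    intro hd
    apply hK.ndvd
    have h2 : orderOf (⟨c, hc⟩ : K) = orderOf c := Subgroup.orderOf_mk _ _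
    rw [← h2] at hd
    exact hd.trans (orderOf_dvd_natCard _)

end CompK

/-- The idempotent of `K`. -/
noncomputable def eK [Fintype G] (K : Subgroup G) : MonoidAlgebra ℂ G :=
  open Classical in ofFun fun g => if g ∈ K then (Nat.card K : ℂ)⁻¹ else 0

section EK

variable [Fintype G] {K : Subgroup G}

open Classical in
theorem coeff_eK (g : G) : (eK K).coeff g = if g ∈ K then (Nat.card K : ℂ)⁻¹ else 0 := by
  unfold eK
  rw [coeff_ofFun]

theorem single_mul_eK {c : G} (hc : c ∈ K) : MonoidAlgebra.single c (1 : ℂ) * eK K = eK K := by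
  classical
  apply ext_coeff
  intro g
  rw [MonoidAlgebra.coeff_single_mul_apply, one_mul, coeff_eK, coeff_eK]
  have : c⁻¹ * g ∈ K ↔ g ∈ K := by
    rw [Subgroup.mul_mem_cancel_left _ (K.inv_mem hc)]
  simp only [this]

theorem eK_mul_eK : eK K * eK K = eK K := by
  classical
  have h1 : eK K = ∑ g, (eK K).coeff g • MonoidAlgebra.single g (1 : ℂ) := by
    conv_lhs => rw [eq_sum_single (eK K)]
    refine Finset.sum_congr rfl fun g _ => ?_
    rw [MonoidAlgebra.smul_single, smul_eq_mul, mul_one]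
  have h2 : eK K * eK K = ∑ g, (eK K).coeff g • eK K := by
    have h3 : eK K * eK K = (∑ g, (eK K).coeff g • MonoidAlgebra.single g (1 : ℂ)) * eK K :=
      congrArg (· * eK K) h1
    rw [h3, Finset.sum_mul]
    refine Finset.sum_congr rfl fun g _ => ?_
    by_cases hg : g ∈ K
    · rw [smul_mul_assoc, single_mul_eK hg]
    · rw [coeff_eK, if_neg hg, zero_smul, zero_smul, zero_mul]
  rw [h2, ← Finset.sum_smul]
  have h3 : ∑ g, (eK K).coeff g = 1 := by
    simp only [coeff_eK]
    rw [← Finset.sum_filter, Finset.sum_const, nsmul_eq_mul]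
    have h4 : (Finset.univ.filter fun g => g ∈ K).card = Nat.card K := by
      rw [Nat.card_eq_fintype_card, Fintype.card_subtype]
    rw [h4]
    exact mul_inv_cancel₀ (by exact_mod_cast Nat.card_pos.ne')
  rw [h3, one_smul]

theorem eK_comm_single [hp : Fact p.Prime] (hK : CompK x p K) {n : G}
    (hn : n ∈ Subgroup.normalizer ((Subgroup.zpowers x : Subgroup G) : Set G)) :
    MonoidAlgebra.single n (1 : ℂ) * eK K = eK K * MonoidAlgebra.single n (1 : ℂ) := by
  classical
  apply ext_coeff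
  intro g
  rw [MonoidAlgebra.coeff_single_mul_apply, MonoidAlgebra.coeff_mul_single_apply, one_mul, mul_one, coeff_eK, coeff_eK]
  have : n⁻¹ * g ∈ K ↔ g * n⁻¹ ∈ K := by
    constructor
    · intro h
      have := hK.conj_mem hn h
      have h2 : n * (n⁻¹ * g) * n⁻¹ = g * n⁻¹ := by group
      rwa [h2] at this
    · intro h
      have := hK.conj_mem (Subgroup.inv_mem _ hn) h
      have h2 : n⁻¹ * (g * n⁻¹) * n⁻¹⁻¹ = n⁻¹ * g := by group
      rwa [h2] at this
  simp only [this]

theorem coefIn_eK {O : Subring ℂ} {M : Ideal AlgInt} (hM : IsPModular p M) (hO : UnramRing M p O)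
    (hK : CompK x p K) : CoefIn O (eK K) := by
  classical
  have := isPModular_isPrime hM
  intro g
  rw [coeff_eK]
  split_ifs
  · exact hO.inv_mem _ (natCast_mem _ _) (not_memLocalIdeal_natCast hM hK.ndvd)
  · exact O.zero_mem

/-- The data for the key rank theorem. -/
theorem exists_edata [hp : Fact p.Prime] {O : Subring ℂ} {M : Ideal AlgInt} (hM : IsPModular p M) (hO : UnramRing M p O)
    (hx : orderOf x = p) (hK : CompK x p K) :
    ∃ (t₀ : G) (s s' j₀ : ℕ), EData O x t₀ p s s' j₀ (eK K) := by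
  classical
  obtain ⟨t₀, ht₀, hgen, htp⟩ := exists_t0 (p := p) hx
  have h_s : ∀ a c : G, MonoidAlgebra.single (a * c) (1 : ℂ) =
      MonoidAlgebra.single a (1 : ℂ) * MonoidAlgebra.single c (1 : ℂ) := by
    intro a c
    rw [MonoidAlgebra.single_mul_single, mul_one]
  have hconj : ∀ n ∈ Subgroup.normalizer ((Subgroup.zpowers x : Subgroup G) : Set G), ∀ j : ℕ, ∃ j' : ℕ,
      n * x ^ j * n⁻¹ = x ^ j' := by
    intro n hn j
    have h1 : n * x ^ j * n⁻¹ ∈ Subgroup.zpowers x :=
      (Subgroup.mem_normalizer_iff.mp hn _).mp (Subgroup.pow_mem _ (Subgroup.mem_zpowers x) j)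
    obtain ⟨j', hj'⟩ := mem_powers_iff_mem_zpowers.mpr h1
    exact ⟨j', hj'.symm⟩
  obtain ⟨s, hs⟩ := hconj t₀ ht₀ 1
  obtain ⟨s', hs'⟩ := hconj t₀⁻¹ (Subgroup.inv_mem _ ht₀) 1
  obtain ⟨j₀, c₀, hc₀, ht⟩ := hK.decomp _ htp
  refine ⟨t₀, s, s', j₀, hx, by simpa using hs, by simpa using hs', coefIn_eK hM hO hK, eK_mul_eK,
    fun n hn => eK_comm_single hK hn, ?_, ?_⟩
  · intro n hn
    obtain ⟨i, hi⟩ := hgen n hn
    obtain ⟨j, c, hc, hy⟩ := hK.decomp _ hi
    obtain ⟨j', hj'⟩ := hconj (t₀ ^ i) (Subgroup.pow_mem _ ht₀ i) j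
    refine ⟨i, j', ?_⟩
    have h1 : n = x ^ j' * t₀ ^ i * c := by
      rw [← hj']
      have h2 : n = t₀ ^ i * (x ^ j * c) := by
        rw [← hy]
        group
      rw [h2]
      group
    conv_lhs => rw [h1]
    rw [h_s, mul_assoc, single_mul_eK hc]
  · rw [ht, h_s, mul_assoc, single_mul_eK hc₀]

end EK

end Group

end Cfsg.Agent.Lib.FF
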