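import Cfsg.Agent.Lib.FF.DefOneLat2

/-!
# The key rank theorem for defect one

From a central idempotent `a` with coefficients rational over an unramified ring and an idempotent `e₁`
of the group ring commuting with the normalizer of a subgroup of prime order, the rank formula gives
multiplicities on the characters in `a` with
`∑ r χ * tr χ ((Nh - 1) * e₁) = ± (p - 1)`.
-/

set_option autoImplicit false
set_option linter.unusedSectionVars false
set_option linter.unusedVariables false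
set_option maxSynthPendingDepth 3

namespace Cfsg.Agent.Lib.FF

open Module Polynomial Cfsg Cfsg.Agent.Lib.Block

section RedBasis

variable {R k L : Type*} [CommRing R] [Field k] [AddCommGroup L] [Module R L] {p : ℕ}

/-- The reduction data attached to a basis. -/
noncomputable def redOfBasis (σ : R →+* k) (hs : Function.Surjective σ) (hk : ∀ r, σ r = 0 ↔ ∃ s, r = (p : R) * s)
    {n : Type*} [Fintype n] (b : Module.Basis n R L) : RedData p R k L (n → k) where
  σ := σ
  σ_surj := hs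
  σ_ker := hk
  red :=
    { toFun := fun v i => σ (b.repr v i)
      map_zero' := by
        ext i
        simp
      map_add' := by
        intro v w
        ext i
        simp }
  red_smul r v := by
    ext i
    simp
  red_surj u := by
    classical
    choose c hc using fun i => hs (u i)
    refine ⟨∑ i, c i • b i, ?_⟩
    ext i
    show σ (b.repr (∑ i, c i • b i) i) = u i
    rw [b.repr_sum_self, hc]
  red_ker v := by
    classical
    constructor
    · intro h
      have h1 : ∀ i, ∃ s, b.repr v i = (p : R) * s := by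
        intro i
        have := congrFun h i
        exact (hk _).mp this
      choose c hc using h1
      refine ⟨∑ i, c i • b i, ?_⟩
      conv_lhs => rw [← b.sum_repr v]
      rw [Finset.smul_sum]
      refine Finset.sum_congr rfl fun i _ => ?_
      rw [hc, mul_smul]
    · rintro ⟨w, rfl⟩
      ext i
      have h : σ (p : R) = 0 := (hk _).mpr ⟨1, by simp⟩
      show σ (b.repr ((p : R) • w) i) = (0 : n → k) i
      rw [map_smul, Finsupp.smul_apply, smul_eq_mul, map_mul, h, zero_mul]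
      rfl

end RedBasis

section Residue

variable {O : Subring ℂ} {M : Ideal AlgInt} {p : ℕ}

theorem residue_zero_iff (hM : IsPModular p M) (hO : UnramRing M p O) [IsLocalRing O] (r : O) :
    IsLocalRing.residue O r = 0 ↔ ∃ s, r = (p : O) * s := by
  rw [IsLocalRing.residue_eq_zero_iff, IsLocalRing.mem_maximalIdeal]
  constructor
  · intro h
    rcases hO.isUnit_or_dvd hM r with h1 | ⟨s, hs⟩
    · exact absurd h1 h
    · exact ⟨s, hs⟩
  · rintro ⟨s, rfl⟩ h
    exact hO.not_isUnit_p hM (isUnit_of_mul_isUnit_left h)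

theorem residue_finite (hM : IsPModular p M) (hO : UnramRing M p O) [IsLocalRing O] :
    Finite (IsLocalRing.ResidueField O) := by
  obtain ⟨F, hF, hcov⟩ := hO.fin
  let φ : F → IsLocalRing.ResidueField O := fun w => IsLocalRing.residue O ⟨w, hF _ w.2⟩
  apply Finite.of_surjective φ
  intro t
  obtain ⟨r, rfl⟩ := IsLocalRing.residue_surjective t
  obtain ⟨w, hw, u, hu, hr⟩ := hcov r r.2
  refine ⟨⟨w, hw⟩, ?_⟩
  have h1 : r = (⟨w, hF w hw⟩ : O) + (p : O) * ⟨u, hu⟩ := by
    apply Subtype.ext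
    rw [hr]
    simp
  conv_rhs => rw [h1]
  rw [map_add, (residue_zero_iff hM hO _).mpr ⟨_, rfl⟩, add_zero]

end Residue

section EData

variable {G : Type*} [Group G] [Fintype G]

/-- The data of the idempotent `e₁`. -/
structure EData (O : Subring ℂ) (x t₀ : G) (p s s' j₀ : ℕ) (e₁ : MonoidAlgebra ℂ G) : Prop where
  hx : orderOf x = p
  hxs : t₀ * x * t₀⁻¹ = x ^ s
  hxs' : t₀⁻¹ * x * t₀ = x ^ s'
  hcoef : CoefIn O e₁
  hidem : e₁ * e₁ = e₁
  hN : ∀ n ∈ Subgroup.normalizer ((Subgroup.zpowers x : Subgroup G) : Set G),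
    MonoidAlgebra.single n (1 : ℂ) * e₁ = e₁ * MonoidAlgebra.single n (1 : ℂ)
  hform : ∀ n ∈ Subgroup.normalizer ((Subgroup.zpowers x : Subgroup G) : Set G), ∃ i j : ℕ,
    MonoidAlgebra.single n (1 : ℂ) * e₁ = MonoidAlgebra.single (x ^ j * t₀ ^ i) (1 : ℂ) * e₁
  htp : MonoidAlgebra.single (t₀ ^ (p - 1)) (1 : ℂ) * e₁ = MonoidAlgebra.single (x ^ j₀) (1 : ℂ) * e₁

variable {O : Subring ℂ} {x t₀ : G} {p s s' j₀ : ℕ} {e₁ a : MonoidAlgebra ℂ G}

theorem EData.repData (H : EData O x t₀ p s s' j₀ e₁) :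
    RepData (rhoL O a) (lmulL a e₁ H.hcoef) x t₀ p s s' j₀ where
  hee := by
    ext v
    simp only [Module.End.mul_apply, lmulL_coe, ← mul_assoc, H.hidem]
  hx := H.hx
  hxs := H.hxs
  hxs' := H.hxs'
  he n hn := by
    show _ * _ = _ * _
    ext v
    simp only [Module.End.mul_apply, lmulL_coe, rhoL_coe, ← mul_assoc, H.hN n hn]
  hform n hn := by
    obtain ⟨i, j, h⟩ := H.hform n hn
    refine ⟨i, j, ?_⟩
    ext v
    simp only [Module.End.mul_apply, lmulL_coe, rhoL_coe, ← mul_assoc, h]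
  htp := by
    ext v
    simp only [Module.End.mul_apply, lmulL_coe, rhoL_coe, ← mul_assoc, H.htp]

/-- The norm element. -/
noncomputable def Nh (x : G) (p : ℕ) : MonoidAlgebra ℂ G :=
  ∑ i ∈ Finset.range p, (MonoidAlgebra.single x (1 : ℂ)) ^ i

/-- The inclusion of the range of `e` into the group algebra. -/
noncomputable def iotaL {a : MonoidAlgebra ℂ G} (e : Module.End O (latL O a)) :
    LinearMap.range e →ₗ[O] MonoidAlgebra ℂ G :=
  (latL O a).subtype ∘ₗ (LinearMap.range e).subtype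

theorem iotaL_inj {a : MonoidAlgebra ℂ G} (e : Module.End O (latL O a)) : Function.Injective (iotaL e) :=
  (Subtype.val_injective).comp Subtype.val_injective

namespace EData

variable (H : EData O x t₀ p s s' j₀ e₁)
include H

theorem y_pow : (MonoidAlgebra.single x (1 : ℂ)) ^ p = 1 := by
  rw [MonoidAlgebra.single_pow, one_pow, ← H.hx, pow_orderOf_eq_one, MonoidAlgebra.one_def]

theorem y_mul_Nh : MonoidAlgebra.single x (1 : ℂ) * Nh x p = Nh x p := by
  have h := mul_geom_sum (MonoidAlgebra.single x (1 : ℂ)) p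
  rw [H.y_pow, sub_self, sub_mul, one_mul, sub_eq_zero] at h
  exact h

theorem pow_mul_Nh (i : ℕ) : (MonoidAlgebra.single x (1 : ℂ)) ^ i * Nh x p = Nh x p := by
  induction i with
  | zero => simp
  | succ i ih => rw [pow_succ, mul_assoc, H.y_mul_Nh, ih]

theorem Nh_mul_Nh : Nh x p * Nh x p = (p : ℂ) • Nh x p := by
  have h1 : Nh x p * Nh x p = ∑ i ∈ Finset.range p, (MonoidAlgebra.single x (1 : ℂ)) ^ i * Nh x p :=
    Finset.sum_mul _ _ _
  rw [h1]
  simp only [H.pow_mul_Nh]
  rw [Finset.sum_const, Finset.card_range, Nat.cast_smul_eq_nsmul]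

theorem e_comm_y : MonoidAlgebra.single x (1 : ℂ) * e₁ = e₁ * MonoidAlgebra.single x (1 : ℂ) :=
  H.hN x (Subgroup.le_normalizer (Subgroup.mem_zpowers x))

theorem e_comm_Nh : Nh x p * e₁ = e₁ * Nh x p := by
  have h : Commute (MonoidAlgebra.single x (1 : ℂ)) e₁ := H.e_comm_y
  have h2 : Commute (Nh x p) e₁ := by
    unfold Nh
    exact Commute.sum_left _ _ _ fun i _ => h.pow_left i
  exact h2.eq

end EData

/-- The generator on the range of `e₁`. -/
noncomputable abbrev XOne (H : EData O x t₀ p s s' j₀ e₁) (a : MonoidAlgebra ℂ G) :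
    Module.End O (LinearMap.range (lmulL a e₁ H.hcoef)) := (H.repData (a := a)).X₁

/-- `X - 1` on the range of `e₁`. -/
noncomputable abbrev YOne (H : EData O x t₀ p s s' j₀ e₁) (a : MonoidAlgebra ℂ G) :
    Module.End O (LinearMap.range (lmulL a e₁ H.hcoef)) :=
  XOne H a - 1

/-- The norm on the range of `e₁`. -/
noncomputable abbrev NOne (H : EData O x t₀ p s s' j₀ e₁) (a : MonoidAlgebra ℂ G) :
    Module.End O (LinearMap.range (lmulL a e₁ H.hcoef)) := nrm (XOne H a) p

/-- The two idempotents. -/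
noncomputable def piA (x : G) (p : ℕ) (e₁ : MonoidAlgebra ℂ G) : MonoidAlgebra ℂ G :=
  ((p : ℂ)⁻¹) • (Nh x p * e₁)

/-- The second idempotent. -/
noncomputable def piB (x : G) (p : ℕ) (e₁ : MonoidAlgebra ℂ G) : MonoidAlgebra ℂ G :=
  e₁ - piA x p e₁

namespace EData

variable (H : EData O x t₀ p s s' j₀ e₁)
include H

theorem piA_idem (hp : (p : ℂ) ≠ 0) : piA x p e₁ * piA x p e₁ = piA x p e₁ := by
  unfold piA
  rw [smul_mul_smul_comm]
  have h1 : Nh x p * e₁ * (Nh x p * e₁) = (Nh x p * Nh x p) * (e₁ * e₁) := by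
    calc Nh x p * e₁ * (Nh x p * e₁) = Nh x p * (e₁ * Nh x p) * e₁ := by noncomm_ring
      _ = Nh x p * (Nh x p * e₁) * e₁ := by rw [H.e_comm_Nh]
      _ = _ := by noncomm_ring
  rw [h1, H.Nh_mul_Nh, H.hidem, smul_mul_assoc, smul_smul]
  congr 1
  field_simp

theorem e_mul_piA : e₁ * piA x p e₁ = piA x p e₁ := by
  unfold piA
  have : e₁ * (Nh x p * e₁) = Nh x p * e₁ := by
    rw [← mul_assoc, ← H.e_comm_Nh, mul_assoc, H.hidem]
  rw [mul_smul_comm, this]

theorem piA_mul_e : piA x p e₁ * e₁ = piA x p e₁ := by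
  unfold piA
  rw [smul_mul_assoc, mul_assoc, H.hidem]

theorem piB_idem (hp : (p : ℂ) ≠ 0) : piB x p e₁ * piB x p e₁ = piB x p e₁ := by
  unfold piB
  rw [mul_sub, sub_mul, sub_mul, H.hidem, H.e_mul_piA, H.piA_mul_e, H.piA_idem hp]
  abel

theorem tr_formula (hp : (p : ℂ) ≠ 0) (φ : G → ℂ) :
    tr φ ((Nh x p - 1) * e₁) = ((p : ℂ) - 1) * tr φ (piA x p e₁) - tr φ (piB x p e₁) := by
  have h1 : (Nh x p - 1) * e₁ = ((p : ℂ) - 1) • piA x p e₁ - piB x p e₁ := by
    unfold piB piA
    rw [sub_mul, one_mul, sub_smul, one_smul, smul_smul]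
    have : (p : ℂ) * (p : ℂ)⁻¹ = 1 := mul_inv_cancel₀ hp
    rw [this, one_smul]
    abel
  rw [h1, tr_sub, tr_smul]

variable (hac : IsCentralElt a) (haa : a * a = a)

theorem iota_pow (v : LinearMap.range (lmulL a e₁ H.hcoef)) (i : ℕ) :
    iotaL _ (((H.repData (a := a)).X₁ ^ i) v) = (MonoidAlgebra.single x (1 : ℂ)) ^ i * iotaL _ v := by
  have h := (H.repData (a := a)).X₁_pow_coe i v
  have h2 := congrArg (fun w : latL O a => (w : MonoidAlgebra ℂ G)) h
  rw [MonoidAlgebra.single_pow, one_pow]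
  exact h2

theorem iota_X (v : LinearMap.range (lmulL a e₁ H.hcoef)) :
    iotaL _ ((H.repData (a := a)).X₁ v) = (MonoidAlgebra.single x (1 : ℂ)) * iotaL _ v := by
  have := H.iota_pow v 1
  simpa using this

theorem iota_nrm (v : LinearMap.range (lmulL a e₁ H.hcoef)) :
    iotaL _ (NOne H a v) = Nh x p * iotaL _ v := by
  unfold NOne nrm Nh
  rw [LinearMap.sum_apply, map_sum, Finset.sum_mul]
  exact Finset.sum_congr rfl fun i _ => H.iota_pow v i

theorem e_iota (v : LinearMap.range (lmulL a e₁ H.hcoef)) : e₁ * iotaL _ v = iotaL _ v := by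
  have h := idem_coe (H.repData (a := a)).hee v
  exact congrArg (fun w : latL O a => (w : MonoidAlgebra ℂ G)) h

include hac haa

theorem iota_a (v : LinearMap.range (lmulL a e₁ H.hcoef)) : iotaL _ v * a = iotaL _ v :=
  mul_a_of_mem hac haa (v : latL O a).2

omit H hac haa in
theorem idealS_le_of_single {π : MonoidAlgebra ℂ G} {T : Submodule ℂ (MonoidAlgebra ℂ G)}
    (h : ∀ g : G, π * (MonoidAlgebra.single g (1 : ℂ) * a) ∈ T) : idealS π a ≤ T := by
  intro u hu
  obtain ⟨ℓ, rfl⟩ := mem_idealS.mp hu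
  have h1 : ℓ = ∑ g, ℓ.coeff g • MonoidAlgebra.single g (1 : ℂ) := by
    conv_lhs => rw [eq_sum_single ℓ]
    refine Finset.sum_congr rfl fun g _ => ?_
    rw [MonoidAlgebra.smul_single, smul_eq_mul, mul_one]
  have h2 : π * ℓ * a = ∑ g, ℓ.coeff g • (π * (MonoidAlgebra.single g (1 : ℂ) * a)) := by
    conv_lhs => rw [h1]
    rw [Finset.mul_sum, Finset.sum_mul]
    refine Finset.sum_congr rfl fun g _ => ?_
    rw [mul_smul_comm, smul_mul_assoc, mul_assoc]
  rw [h2]
  exact Submodule.sum_mem _ fun g _ => Submodule.smul_mem _ _ (h g)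

/-- The generators of the range of `e`. -/
noncomputable def ug (H : EData O x t₀ p s s' j₀ e₁) (a : MonoidAlgebra ℂ G) (g : G) :
    LinearMap.range (lmulL a e₁ H.hcoef) :=
  ⟨lmulL a e₁ H.hcoef ⟨MonoidAlgebra.single g (1 : ℂ) * a, sg_mem g⟩, ⟨_, rfl⟩⟩

omit hac haa in
theorem iota_ug (g : G) : iotaL _ (H.ug a g) = e₁ * (MonoidAlgebra.single g (1 : ℂ) * a) := rfl

theorem mem_A (hp : (p : ℂ) ≠ 0) (v : LinearMap.range (lmulL a e₁ H.hcoef))
    (hv : v ∈ LinearMap.ker (YOne H a)) : iotaL _ v ∈ idealS (piA x p e₁) a := by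
  refine mem_idealS.mpr ⟨iotaL _ v, ?_⟩
  rw [mul_assoc, H.iota_a hac haa v]
  have h2 : NOne H a v = (p : O) • v := nrm_apply_of_ker (R := O) (X := XOne H a) hv
  have h3 := H.iota_nrm v
  rw [h2, map_smul] at h3
  unfold piA
  rw [smul_mul_assoc, mul_assoc, H.e_iota, ← h3]
  show (p : ℂ)⁻¹ • (((p : O) : ℂ) • iotaL _ v) = _
  rw [smul_smul]
  have : (p : ℂ)⁻¹ * (((p : O) : ℂ)) = 1 := by
    push_cast
    exact inv_mul_cancel₀ hp
  rw [this, one_smul]

theorem mem_B (hp : (p : ℂ) ≠ 0) (v : LinearMap.range (lmulL a e₁ H.hcoef))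
    (hv : v ∈ LinearMap.ker (NOne H a)) : iotaL _ v ∈ idealS (piB x p e₁) a := by
  refine mem_idealS.mpr ⟨iotaL _ v, ?_⟩
  rw [mul_assoc, H.iota_a hac haa v]
  have h3 := H.iota_nrm v
  rw [LinearMap.mem_ker.mp hv, map_zero] at h3
  unfold piB piA
  rw [sub_mul, H.e_iota, smul_mul_assoc, mul_assoc, H.e_iota, ← h3, smul_zero, sub_zero]

theorem span_A (hp : (p : ℂ) ≠ 0) : idealS (piA x p e₁) a ≤ Submodule.span ℂ
    (iotaL (lmulL a e₁ H.hcoef) '' (SetLike.coe (LinearMap.ker (YOne H a)))) := by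
  apply idealS_le_of_single
  intro g
  have hmem : NOne H a (H.ug a g) ∈ LinearMap.ker (YOne H a) := by
    refine LinearMap.mem_ker.mpr ?_
    exact congrArg (fun f : Module.End O (LinearMap.range (lmulL a e₁ H.hcoef)) => f (H.ug a g))
      (y_mul_nrm (H.repData (a := a)).X₁_pow)
  have h1 : piA x p e₁ * (MonoidAlgebra.single g (1 : ℂ) * a) =
      (p : ℂ)⁻¹ • iotaL _ (NOne H a (H.ug a g)) := by
    rw [H.iota_nrm, iota_ug]
    unfold piA
    rw [smul_mul_assoc, mul_assoc]
  rw [h1]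
  exact Submodule.smul_mem _ _ (Submodule.subset_span ⟨_, hmem, rfl⟩)

theorem span_B (hp : (p : ℂ) ≠ 0) : idealS (piB x p e₁) a ≤ Submodule.span ℂ
    (iotaL (lmulL a e₁ H.hcoef) '' (SetLike.coe (LinearMap.ker (NOne H a)))) := by
  apply idealS_le_of_single
  intro g
  set u := H.ug a g with hu
  have hmem : (p : O) • u - NOne H a u ∈ LinearMap.ker (NOne H a) := by
    refine LinearMap.mem_ker.mpr ?_
    have h2 : NOne H a u ∈ LinearMap.ker (YOne H a) := by
      refine LinearMap.mem_ker.mpr ?_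
      exact congrArg (fun f : Module.End O (LinearMap.range (lmulL a e₁ H.hcoef)) => f u)
        (y_mul_nrm (H.repData (a := a)).X₁_pow)
    rw [map_sub, map_smul, nrm_apply_of_ker (R := O) (X := XOne H a) h2, sub_self]
  have h1 : piB x p e₁ * (MonoidAlgebra.single g (1 : ℂ) * a) =
      (p : ℂ)⁻¹ • iotaL _ ((p : O) • u - NOne H a u) := by
    rw [map_sub, map_smul, H.iota_nrm, hu, iota_ug]
    show _ = (p : ℂ)⁻¹ • (((p : O) : ℂ) • (e₁ * (MonoidAlgebra.single g (1 : ℂ) * a)) - _)
    rw [smul_sub, smul_smul]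
    have : (p : ℂ)⁻¹ * (((p : O) : ℂ)) = 1 := by
      push_cast
      exact inv_mul_cancel₀ hp
    rw [this, one_smul]
    unfold piB piA
    rw [sub_mul, smul_mul_assoc, mul_assoc]
  rw [h1]
  exact Submodule.smul_mem _ _ (Submodule.subset_span ⟨_, hmem, rfl⟩)

end EData

section Key

variable {M : Ideal AlgInt}

theorem finrank_idealS (π : MonoidAlgebra ℂ G) (hπ : π * π = π) (A : Set (IrrCharacter G)) :
    (finrank ℂ (idealS π (blockElt A)) : ℂ) =
      ∑ χ : IrrCharacter G, tr (χ : G → ℂ) π * tr (χ : G → ℂ) (blockElt A) := by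
  have hεε := blockElt_mul_self A
  set ε := blockElt A
  set T : Module.End ℂ (MonoidAlgebra ℂ G) := LinearMap.mulLeft ℂ π ∘ₗ LinearMap.mulRight ℂ ε with hT
  have hTidem : IsIdempotentElem T := by
    show T * T = T
    refine LinearMap.ext fun w => ?_
    simp only [hT, Module.End.mul_apply, LinearMap.comp_apply, LinearMap.mulRight_apply,
      LinearMap.mulLeft_apply]
    calc π * (π * (w * ε) * ε) = (π * π) * w * (ε * ε) := by noncomm_ring
      _ = π * (w * ε) := by rw [hπ, hεε]; noncomm_ring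
  have htr : LinearMap.trace ℂ _ T = (finrank ℂ (LinearMap.range T) : ℂ) :=
    (LinearMap.IsIdempotentElem.isProj_range _ hTidem).trace
  rw [← trace_mulLeft_mulRight, htr]
  rfl

set_option maxHeartbeats 2000000 in
/-- **The key rank theorem.** -/
theorem EData.key_rank [hp : Fact p.Prime] (H : EData O x t₀ p s s' j₀ e₁) (hM : IsPModular p M)
    (hO : UnramRing M p O) (Ω : Set (IrrCharacter G)) (d₀ : ℂ) (hd : d₀ ≠ 0)
    (hrat : ∀ g, d₀ * (blockElt Ω).coeff g ∈ O) (hp2 : ¬ p ^ 2 ∣ Fintype.card G)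
    (hne : ∑ χ : IrrCharacter G, tr (χ : G → ℂ) (blockElt Ω) * tr (χ : G → ℂ) ((Nh x p - 1) * e₁) ≠ 0) :
    ∃ r : IrrCharacter G → ℕ, (∀ χ, χ ∉ Ω → r χ = 0) ∧
      (∑ χ : IrrCharacter G, tr (χ : G → ℂ) ((Nh x p - 1) * e₁) * (r χ : ℂ) = (p : ℂ) - 1 ∨
        ∑ χ : IrrCharacter G, tr (χ : G → ℂ) ((Nh x p - 1) * e₁) * (r χ : ℂ) = -((p : ℂ) - 1)) := by
  classical
  have := isPModular_isPrime hM
  have hDVR := hO.isDVR hM
  have hp0 : (p : ℂ) ≠ 0 := by exact_mod_cast hp.out.ne_zero
  set a := blockElt Ω with ha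
  have hac : IsCentralElt a := isCentralElt_blockElt Ω
  have haa : a * a = a := blockElt_mul_self Ω
  let D := H.repData (a := a)
  let e := lmulL a e₁ H.hcoef
  have : Module.Finite O (LinearMap.range e) := inferInstance
  have : Module.Free O (LinearMap.range e) := Module.free_of_finite_type_torsion_free'
  let b := Module.Free.chooseBasis O (LinearMap.range e)
  let n := Module.Free.ChooseBasisIndex O (LinearMap.range e)
  have : Fintype n := Module.Free.ChooseBasisIndex.fintype O (LinearMap.range e)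
  let k := IsLocalRing.ResidueField O
  have : Finite k := residue_finite hM hO
  let d : RedData p O k (LinearMap.range e) (n → k) := redOfBasis (IsLocalRing.residue O)
    IsLocalRing.residue_surjective (residue_zero_iff hM hO) b
  have hpc : ∀ u v : O, (p : O) * u = (p : O) * v → u = v := by
    intro u v h
    exact mul_left_cancel₀ (UnramRing.natCast_ne_zero hM) h
  have htf : ∀ v : LinearMap.range e, (p : O) • v = 0 → v = 0 := by
    intro v h
    exact (smul_eq_zero.mp h).resolve_left (UnramRing.natCast_ne_zero hM)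
  have hXp : XOne H a ^ p = 1 := D.X₁_pow
  have hpure_A : ∀ v, (p : O) • v ∈ LinearMap.ker (YOne H a) → v ∈ LinearMap.ker (YOne H a) := by
    intro v hv
    refine LinearMap.mem_ker.mpr (htf _ ?_)
    rw [← map_smul]
    exact LinearMap.mem_ker.mp hv
  have hpure_B : ∀ v, (p : O) • v ∈ LinearMap.ker (NOne H a) → v ∈ LinearMap.ker (NOne H a) := by
    intro v hv
    refine LinearMap.mem_ker.mpr (htf _ ?_)
    rw [← map_smul]
    exact LinearMap.mem_ker.mp hv
  have hι := iotaL_inj e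
  have hrat' : ∀ (s : LinearMap.range e) (g : G), d₀ * (iotaL e s).coeff g ∈ O :=
    fun s g => rat_of_mem hrat (s : latL O a).2 g
  have hπA := H.piA_idem hp0
  have hπB := H.piB_idem hp0
  have hWA : ∀ s ∈ LinearMap.ker (YOne H a), iotaL e s ∈ idealS (piA x p e₁) a :=
    fun s hs => H.mem_A hac haa hp0 s hs
  have hWB : ∀ s ∈ LinearMap.ker (NOne H a), iotaL e s ∈ idealS (piB x p e₁) a :=
    fun s hs => H.mem_B hac haa hp0 s hs
  have hspanA := H.span_A hac haa (a := a) hp0
  have hspanB := H.span_B hac haa (a := a) hp0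
  have himg : ∀ S : Submodule O (LinearMap.range e),
      iotaL e '' (S : Set _) = Set.range (iotaL e ∘ₗ S.subtype) := by
    intro S
    ext y
    constructor
    · rintro ⟨s, hs, rfl⟩
      exact ⟨⟨s, hs⟩, rfl⟩
    · rintro ⟨s, rfl⟩
      exact ⟨s, s.2, rfl⟩
  have finA : finrank O (LinearMap.ker (YOne H a)) = finrank ℂ (idealS (piA x p e₁) a) := by
    refine (charpoly_link (O := O) (S := LinearMap.ker (YOne H a)) (iotaL e ∘ₗ (LinearMap.ker (YOne H a)).subtype)
      (hι.comp Subtype.val_injective) d₀ hd (fun s g => hrat' _ g) _ (fun s => hWA _ s.2) (by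
        rw [← himg]
        exact hspanA) 1 (fun v hv => hv) 1 (fun s => rfl)).2
  have finB : finrank O (LinearMap.ker (NOne H a)) = finrank ℂ (idealS (piB x p e₁) a) := by
    refine (charpoly_link (O := O) (S := LinearMap.ker (NOne H a)) (iotaL e ∘ₗ (LinearMap.ker (NOne H a)).subtype)
      (hι.comp Subtype.val_injective) d₀ hd (fun s g => hrat' _ g) _ (fun s => hWB _ s.2) (by
        rw [← himg]
        exact hspanB) 1 (fun v hv => hv) 1 (fun s => rfl)).2
  have hdimA := finrank_idealS (piA x p e₁) hπA Ω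
  have hdimB := finrank_idealS (piB x p e₁) hπB Ω
  have hne2 : (∃ a₁ ∈ LinearMap.ker (YOne H a), a₁ ∉ LinearMap.range (NOne H a)) ∨
      ∃ b₁ ∈ LinearMap.ker (NOne H a), b₁ ∉ LinearMap.range (YOne H a) := by
    by_contra hcon
    push Not at hcon
    obtain ⟨h1, h2⟩ := hcon
    have h3 := tate_id d htf hXp h1 h2
    rw [finrank_imS d _ htf hpure_A, finrank_imS d _ htf hpure_B, finA, finB] at h3
    have h4 := congrArg (Int.cast : ℤ → ℂ) h3
    push_cast at h4
    rw [← ha] at hdimA hdimB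
    rw [hdimA, hdimB] at h4
    apply hne
    have h5 : ∀ χ : IrrCharacter G, tr (χ : G → ℂ) a * tr (χ : G → ℂ) ((Nh x p - 1) * e₁) =
        ((p : ℂ) - 1) * (tr (χ : G → ℂ) (piA x p e₁) * tr (χ : G → ℂ) a) -
          tr (χ : G → ℂ) (piB x p e₁) * tr (χ : G → ℂ) a := by
      intro χ
      rw [H.tr_formula hp0]
      ring
    simp only [h5]
    rw [Finset.sum_sub_distrib, ← Finset.mul_sum, h4, sub_self]
  obtain ⟨F, hFc, hrank⟩ := D.exists_F_rank d hpc htf hp2 hne2
  obtain ⟨μ, hμL, hμ⟩ := exists_lambda hac haa F hFc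
  have hF : Commute F e := by
    show F * e = e * F
    refine LinearMap.ext fun v => Subtype.ext ?_
    show ((F (e v) : latL O a) : MonoidAlgebra ℂ G) = e₁ * ((F v : latL O a) : MonoidAlgebra ℂ G)
    rw [hμ, hμ, lmulL_coe, mul_assoc]
  let f := resE e F hF
  have hVf : Finite (Module.End k (n → k)) := Module.finite_of_finite k
  obtain ⟨M', hM'⟩ := exists_idem_pow (d.bar f : Module.End k (n → k))
  have hidem : IsIdempotentElem (d.bar (f ^ (M' + 1)) : Module.End k (n → k)) := by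
    rw [d.bar_pow]
    exact hM'
  have hEcoe : ∀ s : LinearMap.range e, iotaL e ((f ^ (M' + 1)) s) = iotaL e s * μ ^ (M' + 1) := by
    intro s
    have h1 : f ^ (M' + 1) = resE e (F ^ (M' + 1)) (hF.pow_left _) := resE_pow e F hF _
    rw [h1]
    exact lat_pow_apply hμ (M' + 1) (s : latL O a)
  have hμ' : μ ^ (M' + 1) * a = μ ^ (M' + 1) := by
    rw [pow_succ, mul_assoc, mul_a_of_mem hac haa hμL]
  obtain ⟨r, hr0, hr⟩ := unit_root_count (μ ^ (M' + 1)) (MemLocalIdeal M) memLocalIdeal_zero Ω hμ'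
  refine ⟨r, hr0, ?_⟩
  have hfX : Commute f (XOne H a) := by
    show f * XOne H a = XOne H a * f
    refine LinearMap.ext fun v => Subtype.ext (Subtype.ext ?_)
    exact congrArg (fun g : Module.End O (latL O a) => ((g (v : latL O a) : latL O a) : MonoidAlgebra ℂ G)) (hFc x).eq
  have hcE : Commute (f ^ (M' + 1)) (XOne H a) := hfX.pow_left _
  have hE_A : ∀ v ∈ LinearMap.ker (YOne H a), (f ^ (M' + 1)) v ∈ LinearMap.ker (YOne H a) := by
    intro v hv
    refine LinearMap.mem_ker.mpr ?_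
    have h1 := congrArg (fun g : Module.End O (LinearMap.range e) => g v) (commute_y_of_commute hcE).eq
    simp only [Module.End.mul_apply] at h1
    rw [← h1, LinearMap.mem_ker.mp hv, map_zero]
  have hE_B : ∀ v ∈ LinearMap.ker (NOne H a), (f ^ (M' + 1)) v ∈ LinearMap.ker (NOne H a) := by
    intro v hv
    refine LinearMap.mem_ker.mpr ?_
    have h1 := congrArg (fun g : Module.End O (LinearMap.range e) => g v) (commute_nrm_of_commute (p := p) hcE).eq
    simp only [Module.End.mul_apply] at h1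
    rw [← h1, LinearMap.mem_ker.mp hv, map_zero]
  have hst_A := idealS_stable (π := piA x p e₁) hac hμ'
  have hst_B := idealS_stable (π := piB x p e₁) hac hμ'
  obtain ⟨rkA, -⟩ := rk_eq_countP hM hO d (LinearMap.ker (YOne H a)) htf hpure_A (f ^ (M' + 1)) hE_A hidem (iotaL e) hι d₀ hd
    hrat' (idealS (piA x p e₁) a) hWA hspanA (LinearMap.mulRight ℂ (μ ^ (M' + 1))) hst_A (fun s _ => (hEcoe s).symm)
  obtain ⟨rkB, -⟩ := rk_eq_countP hM hO d (LinearMap.ker (NOne H a)) htf hpure_B (f ^ (M' + 1)) hE_B hidem (iotaL e) hι d₀ hd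
    hrat' (idealS (piB x p e₁) a) hWB hspanB (LinearMap.mulRight ℂ (μ ^ (M' + 1))) hst_B (fun s _ => (hEcoe s).symm)
  have hrA := hr (piA x p e₁) hπA
  have hrB := hr (piB x p e₁) hπB
  rw [← rkA] at hrA
  rw [← rkB] at hrB
  have hsum : ∑ χ : IrrCharacter G, tr (χ : G → ℂ) ((Nh x p - 1) * e₁) * (r χ : ℂ) =
      ((p : ℂ) - 1) * (rk (d.bar (f ^ (M' + 1))) (d.imS (LinearMap.ker (YOne H a))) : ℂ) -
        (rk (d.bar (f ^ (M' + 1))) (d.imS (LinearMap.ker (NOne H a))) : ℂ) := by
    rw [hrA, hrB, Finset.mul_sum, ← Finset.sum_sub_distrib]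
    refine Finset.sum_congr rfl fun χ _ => ?_
    rw [H.tr_formula hp0]
    ring
  rw [hsum]
  rcases hrank hF M' hidem with h | h
  · left
    have h4 := congrArg (Int.cast : ℤ → ℂ) h
    push_cast at h4
    exact h4
  · right
    have h4 := congrArg (Int.cast : ℤ → ℂ) h
    push_cast at h4
    exact h4

end Key

end EData

end Cfsg.Agent.Lib.FF
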