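import Cfsg.Agent.Lib.Block.Local

/-!
# Roots of monic polynomials over the local ring and their reduction
-/

set_option autoImplicit false
set_option linter.unusedSectionVars false
set_option linter.unusedVariables false

namespace Cfsg.Agent.Lib.FF

open Cfsg Cfsg.Agent.Lib.Block Polynomial

section Root

variable {M : Ideal AlgInt} [M.IsPrime]

theorem exists_common_denominator (T : Finset ℕ) (c : ℕ → ℂ) (hc : ∀ i ∈ T, MemLocalRing M (c i)) :
    ∃ s : AlgInt, s ∉ M ∧ ∀ i ∈ T, ∃ a : AlgInt, (s : ℂ) * c i = a := by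
  classical
  induction T using Finset.induction_on with
  | empty => exact ⟨1, one_notMem, by simp⟩
  | insert i T hi ih =>
    obtain ⟨s, hs, h⟩ := ih fun j hj => hc j (Finset.mem_insert_of_mem hj)
    obtain ⟨a, b, hb, hab⟩ := hc i (Finset.mem_insert_self _ _)
    refine ⟨s * b, fun h1 => (Ideal.IsPrime.mem_or_mem ‹_› h1).elim hs hb, ?_⟩
    intro j hj
    rcases Finset.mem_insert.mp hj with rfl | hj
    · refine ⟨s * a, ?_⟩
      have hb0 := algInt_ne_zero_of_notMem hb
      rw [← hab]
      push_cast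
      field_simp
    · obtain ⟨a', ha'⟩ := h j hj
      refine ⟨a' * b, ?_⟩
      push_cast
      rw [← ha']
      ring

/-- A root of a monic polynomial with coefficients in the local ring lies in the local ring. -/
theorem memLocalRing_of_monic_root {G : ℂ[X]} (hG : G.Monic) (hc : ∀ i, MemLocalRing M (G.coeff i))
    {z : ℂ} (hz : G.IsRoot z) : MemLocalRing M z := by
  classical
  obtain ⟨s, hs, hsc⟩ := exists_common_denominator (M := M) (Finset.range (G.natDegree + 1)) G.coeff fun i _ => hc i
  have hs0 := algInt_ne_zero_of_notMem hs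
  set q := scaleRoots G (s : ℂ) with hq
  have hqmonic : q.Monic := (monic_scaleRoots_iff _).mpr hG
  have hqlift : q ∈ Polynomial.lifts (algebraMap AlgInt ℂ) := by
    rw [Polynomial.lifts_iff_coeff_lifts]
    intro i
    rw [hq, coeff_scaleRoots]
    by_cases hi : i ≤ G.natDegree
    · by_cases hi2 : i = G.natDegree
      · subst hi2
        refine ⟨1, ?_⟩
        simp [hG.coeff_natDegree]
      · obtain ⟨a, ha⟩ := hsc i (Finset.mem_range.mpr (by omega))
        refine ⟨a * s ^ (G.natDegree - i - 1), ?_⟩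
        have h1 : G.natDegree - i = (G.natDegree - i - 1) + 1 := by omega
        rw [h1, pow_succ]
        show ((a * s ^ (G.natDegree - i - 1) : AlgInt) : ℂ) = _
        push_cast
        rw [← ha]
        have h2 : G.natDegree - i - 1 + 1 - 1 = G.natDegree - i - 1 := by omega
        ring
    · refine ⟨0, ?_⟩
      rw [coeff_eq_zero_of_natDegree_lt (by omega)]
      simp
  obtain ⟨q', hq', -, hq'm⟩ := Polynomial.lifts_and_natDegree_eq_and_monic hqlift hqmonic
  have hroot : eval ((s : ℂ) * z) q = 0 := by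
    have := scaleRoots_eval₂_mul (p := G) (RingHom.id ℂ) z (s : ℂ)
    simp only [eval₂_id, RingHom.id_apply] at this
    have hz' : eval z G = 0 := hz
    rw [this, hz', mul_zero]
  have hint : IsIntegral AlgInt ((s : ℂ) * z) := by
    refine ⟨q', hq'm, ?_⟩
    rw [← aeval_def, aeval_def, ← eval_map, hq']
    exact hroot
  have hint2 : IsIntegral ℤ ((s : ℂ) * z) := isIntegral_trans _ hint
  refine ⟨⟨_, hint2⟩, s, hs, ?_⟩
  show (s : ℂ) * z / s = z
  field_simp

/-- The maximal ideal of the local ring. -/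
def localMax (M : Ideal AlgInt) [M.IsPrime] : Ideal (localRing M) where
  carrier := {z | MemLocalIdeal M (z : ℂ)}
  add_mem' := fun {a b} ha hb => memLocalIdeal_add ha hb
  zero_mem' := memLocalIdeal_zero
  smul_mem' := fun c {x} hx => memLocalIdeal_mul_left c.2 hx

theorem mem_localMax {z : localRing M} : z ∈ localMax M ↔ MemLocalIdeal M (z : ℂ) := Iff.rfl

instance localMax_isPrime : (localMax M).IsPrime where
  ne_top' := by
    intro h
    have : (1 : localRing M) ∈ localMax M := h ▸ Submodule.mem_top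
    exact not_memLocalIdeal_one (M := M) this
  mem_or_mem' := by
    intro x y hxy
    by_contra h
    push Not at h
    exact not_memLocalIdeal_mul x.2 y.2 h.1 h.2 hxy

theorem natTrailing_prod {κ : Type*} [CommRing κ] [IsDomain κ] [DecidableEq κ] (s : Multiset κ) :
    ((s.map fun a => X - C a).prod).natTrailingDegree = s.count 0 := by
  induction s using Multiset.induction_on with
  | empty => simp
  | cons a s ih =>
    rw [Multiset.map_cons, Multiset.prod_cons,
      natTrailingDegree_mul (X_sub_C_ne_zero a) (monic_multiset_prod_of_monic _ _ fun r _ => monic_X_sub_C r).ne_zero,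
      ih, Multiset.count_cons, add_comm]
    congr 1
    by_cases ha : a = 0
    · subst ha
      simp
    · rw [if_neg (Ne.symm ha)]
      apply natTrailingDegree_eq_zero_of_constantCoeff_ne_zero
      simpa using ha

/-- The multiplicity of the zero root modulo the maximal ideal counts the roots in the ideal. -/
theorem natTrailing_eq_count (O : Subring ℂ) (hO : ∀ z ∈ O, MemLocalRing M z) {k : Type*} [Field k]
    (σ : O →+* k) (hσ : ∀ r : O, σ r = 0 ↔ MemLocalIdeal M (r : ℂ)) (G : (↥O)[X]) (hG : G.Monic)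
    [DecidablePred (MemLocalIdeal M)] :
    (G.map σ).natTrailingDegree = Multiset.countP (MemLocalIdeal M) (G.map O.subtype).roots := by
  classical
  have hle : O ≤ localRing M := fun z hz => hO z hz
  let i : O →+* localRing M := Subring.inclusion hle
  let τ : localRing M →+* (localRing M ⧸ localMax M) := Ideal.Quotient.mk _
  have hτ : ∀ r : localRing M, τ r = 0 ↔ MemLocalIdeal M (r : ℂ) := fun r => Ideal.Quotient.eq_zero_iff_mem
  have hsupp : (G.map σ).natTrailingDegree = (G.map (τ.comp i)).natTrailingDegree := by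
    unfold natTrailingDegree trailingDegree
    congr 2
    ext n
    simp only [mem_support_iff, coeff_map, ne_eq, not_iff_not]
    rw [hσ, RingHom.comp_apply, hτ]
    rfl
  rw [hsupp]
  set m := (G.map O.subtype).roots with hm
  have hGm : (G.map O.subtype).Monic := hG.map _
  have hsplit : G.map O.subtype = (m.map fun a => X - C a).prod :=
    (IsAlgClosed.splits _).eq_prod_roots_of_monic hGm
  have hroot : ∀ r ∈ m, r ∈ localRing M := by
    intro r hr
    have h1 : (G.map O.subtype).IsRoot r := (mem_roots hGm.ne_zero).mp hr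
    refine memLocalRing_of_monic_root hGm (fun n => ?_) h1
    rw [coeff_map]
    exact hO _ (G.coeff n).2
  let m' : Multiset (localRing M) := m.pmap (fun r hr => ⟨r, hr⟩) hroot
  have hm' : m'.map (localRing M).subtype = m := by
    simp only [m', Multiset.map_pmap]
    simp [Multiset.pmap_eq_map]
  have hQ : G.map i = (m'.map fun a => X - C a).prod := by
    apply Polynomial.map_injective (localRing M).subtype Subtype.val_injective
    rw [Polynomial.map_map]
    have h2 : ((localRing M).subtype).comp i = O.subtype := rfl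
    rw [h2, hsplit, Polynomial.map_multiset_prod, Multiset.map_map]
    conv_lhs => rw [← hm']
    rw [Multiset.map_map]
    congr 1
    refine Multiset.map_congr rfl fun a _ => ?_
    simp
  have h3 : G.map (τ.comp i) = ((m'.map τ).map fun a => X - C a).prod := by
    rw [← Polynomial.map_map, hQ, Polynomial.map_multiset_prod, Multiset.map_map, Multiset.map_map]
    congr 1
    refine Multiset.map_congr rfl fun a _ => ?_
    simp
  rw [h3, natTrailing_prod, Multiset.count_map, ← hm', Multiset.countP_map]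
  congr 1
  refine Multiset.filter_congr fun a _ => ?_
  rw [eq_comm, hτ]
  rfl

end Root

section Unram

variable {M : Ideal AlgInt} {p : ℕ}

/-- A subring of the local ring in which `p` is a uniformizer, with finite residue field. -/
structure UnramRing (M : Ideal AlgInt) (p : ℕ) (O : Subring ℂ) : Prop where
  le_local : ∀ z ∈ O, MemLocalRing M z
  uniform : ∀ z ∈ O, MemLocalIdeal M z → ∃ w ∈ O, z = p * w
  inv_mem : ∀ z ∈ O, ¬ MemLocalIdeal M z → z⁻¹ ∈ O
  fin : ∃ F : Finset ℂ, (∀ w ∈ F, w ∈ O) ∧ ∀ z ∈ O, ∃ w ∈ F, ∃ u ∈ O, z = w + p * u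

variable {O : Subring ℂ}

theorem UnramRing.isUnit_iff (hM : IsPModular p M) (hO : UnramRing M p O) (r : O) :
    IsUnit r ↔ ¬ MemLocalIdeal M (r : ℂ) := by
  have := isPModular_isPrime hM
  constructor
  · rintro ⟨u, rfl⟩ h
    have h1 : ((u : O) : ℂ) * (((u⁻¹ : Oˣ) : O) : ℂ) = 1 := by
      rw [← Subring.coe_mul, Units.mul_inv]
      rfl
    have h2 := memLocalIdeal_mul_right h (hO.le_local _ (u⁻¹ : Oˣ).1.2)
    rw [h1] at h2
    exact not_memLocalIdeal_one h2
  · intro h
    have h0 := ne_zero_of_not_memLocalIdeal h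
    refine IsUnit.of_mul_eq_one ⟨_, hO.inv_mem _ r.2 h⟩ ?_
    apply Subtype.ext
    show (r : ℂ) * (r : ℂ)⁻¹ = 1
    exact mul_inv_cancel₀ h0

theorem UnramRing.natCast_ne_zero (hM : IsPModular p M) : ((p : ℕ) : O) ≠ 0 := by
  intro h
  have h1 : ((p : O) : ℂ) = 0 := by rw [h]; rfl
  have h2 : (p : ℂ) = 0 := by simpa using h1
  exact (isPModular_prime hM).ne_zero (by exact_mod_cast h2)

theorem UnramRing.dvd_iff (hM : IsPModular p M) (hO : UnramRing M p O) (r : O) :
    ((p : ℕ) : O) ∣ r ↔ MemLocalIdeal M (r : ℂ) := by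
  have := isPModular_isPrime hM
  constructor
  · rintro ⟨s, rfl⟩
    have h1 : (((p : O) * s : O) : ℂ) = (p : ℂ) * (s : ℂ) := by
      simp
    rw [h1]
    exact memLocalIdeal_mul_right (memLocalIdeal_p hM) (hO.le_local _ s.2)
  · intro h
    obtain ⟨w, hw, hrw⟩ := hO.uniform _ r.2 h
    refine ⟨⟨w, hw⟩, ?_⟩
    apply Subtype.ext
    rw [hrw]
    simp

theorem UnramRing.isUnit_or_dvd (hM : IsPModular p M) (hO : UnramRing M p O) (r : O) :
    IsUnit r ∨ ((p : ℕ) : O) ∣ r := by
  by_cases h : MemLocalIdeal M (r : ℂ)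
  · exact Or.inr ((hO.dvd_iff hM r).mpr h)
  · exact Or.inl ((hO.isUnit_iff hM r).mpr h)

theorem UnramRing.not_isUnit_p (hM : IsPModular p M) (hO : UnramRing M p O) :
    ¬ IsUnit ((p : ℕ) : O) := by
  rw [hO.isUnit_iff hM, not_not]
  have := memLocalIdeal_p hM
  simpa using this

theorem UnramRing.irreducible_p (hM : IsPModular p M) (hO : UnramRing M p O) :
    Irreducible ((p : ℕ) : O) := by
  refine ⟨hO.not_isUnit_p hM, ?_⟩
  intro a b hab
  rcases hO.isUnit_or_dvd hM a with ha | ⟨a', rfl⟩
  · exact Or.inl ha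
  rcases hO.isUnit_or_dvd hM b with hb | ⟨b', rfl⟩
  · exact Or.inr hb
  exfalso
  have h0 := UnramRing.natCast_ne_zero (O := O) hM
  have h1 : ((p : ℕ) : O) * (a' * b') = 1 := by
    apply mul_left_cancel₀ h0
    rw [mul_one]
    conv_rhs => rw [hab]
    ring
  exact hO.not_isUnit_p hM (IsUnit.of_mul_eq_one _ h1)

theorem UnramRing.exists_pow_mul (hM : IsPModular p M) (hO : UnramRing M p O) {x : O} (hx : x ≠ 0) :
    ∃ n : ℕ, ∃ u : Oˣ, x = ((p : ℕ) : O) ^ n * u := by
  classical
  have := isPModular_isPrime hM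
  have hex : ∃ k : ℕ, ¬ ((p : ℕ) : O) ^ k ∣ x := by
    by_contra h
    push Not at h
    apply hx
    apply Subtype.ext
    refine eq_zero_of_forall_pow_dvd hM fun k => ?_
    obtain ⟨s, hs⟩ := h k
    refine ⟨s, hO.le_local _ s.2, ?_⟩
    rw [hs]
    simp
  have hmin := Nat.find_spec hex
  set k := Nat.find hex with hk
  have hk0 : k ≠ 0 := by
    intro h
    rw [h] at hmin
    simp at hmin
  obtain ⟨n, hn⟩ : ∃ n, k = n + 1 := ⟨k - 1, by omega⟩
  have hdvd : ((p : ℕ) : O) ^ n ∣ x := by
    by_contra h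
    have := Nat.find_min' hex h
    omega
  obtain ⟨y, hy⟩ := hdvd
  rcases hO.isUnit_or_dvd hM y with ⟨u, rfl⟩ | ⟨y', rfl⟩
  · exact ⟨n, u, hy⟩
  · exfalso
    apply hmin
    rw [hn, hy]
    exact ⟨y', by ring⟩

theorem UnramRing.isDVR (hM : IsPModular p M) (hO : UnramRing M p O) : IsDiscreteValuationRing O := by
  apply IsDiscreteValuationRing.ofHasUnitMulPowIrreducibleFactorization
  refine ⟨((p : ℕ) : O), hO.irreducible_p hM, ?_⟩
  intro x hx
  obtain ⟨n, u, rfl⟩ := hO.exists_pow_mul hM hx
  exact ⟨n, ⟨u, rfl⟩⟩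

/-- In a finite monoid every element has an idempotent positive power. -/
theorem exists_idem_pow {A : Type*} [Monoid A] [Finite A] (a : A) :
    ∃ n : ℕ, IsIdempotentElem (a ^ (n + 1)) := by
  obtain ⟨i, j, hij, h⟩ := Finite.exists_ne_map_eq_of_infinite fun n : ℕ => a ^ n
  wlog hlt : i < j generalizing i j
  · exact this j i hij.symm h.symm (by omega)
  obtain ⟨d, rfl⟩ : ∃ d, j = i + (d + 1) := ⟨j - i - 1, by omega⟩
  have h1 : ∀ m, a ^ (i + m + (d + 1)) = a ^ (i + m) := by
    intro m
    have h2 : a ^ (i + m + (d + 1)) = a ^ (i + (d + 1)) * a ^ m := by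
      rw [← pow_add]
      congr 1
      ring
    rw [h2, ← h, ← pow_add]
  have h3 : ∀ m t, a ^ (i + m + t * (d + 1)) = a ^ (i + m) := by
    intro m t
    induction t with
    | zero => simp
    | succ t ih =>
      have : i + m + (t + 1) * (d + 1) = i + (m + t * (d + 1)) + (d + 1) := by ring
      rw [this, h1]
      have h4 : i + (m + t * (d + 1)) = i + m + t * (d + 1) := by ring
      rw [h4, ih]
  refine ⟨(d + 1) * (i + 1) - 1, ?_⟩
  have hpos : (d + 1) * (i + 1) - 1 + 1 = (d + 1) * (i + 1) := by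
    have : 0 < (d + 1) * (i + 1) := by positivity
    omega
  rw [hpos]
  show a ^ ((d + 1) * (i + 1)) * a ^ ((d + 1) * (i + 1)) = a ^ ((d + 1) * (i + 1))
  rw [← pow_add]
  have h5 : (d + 1) * (i + 1) = i + ((d + 1) * (i + 1) - i) := by
    have : i ≤ (d + 1) * (i + 1) := by nlinarith
    omega
  have h6 := h3 ((d + 1) * (i + 1) - i) (i + 1)
  rw [← h5] at h6
  have h7 : (d + 1) * (i + 1) + (d + 1) * (i + 1) = (d + 1) * (i + 1) + (i + 1) * (d + 1) := by ring
  rw [h7, h6]

end Unram

end Cfsg.Agent.Lib.FF
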