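import Cfsg.Agent.Lib.Block.Ortho

/-!
# Counting eigenvalues by a trace

For an endomorphism with annihilating polynomial `g₁ g₀`, with `g₁, g₀` coprime, the number of
eigenvalues (with multiplicity) which are roots of `g₁` is the rank of the projection.
-/

set_option autoImplicit false
set_option linter.unusedSectionVars false
set_option linter.unusedVariables false

namespace Cfsg.Agent.Lib.FF

open Module Polynomial

section Split

variable {U : Type*} [AddCommGroup U] [Module ℂ U] [FiniteDimensional ℂ U]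

theorem count_roots_split (Z : Module.End ℂ U) (P : ℂ → Prop) [DecidablePred P] {g₁ g₀ u₁ u₀ : ℂ[X]}
    (hc : u₁ * g₁ + u₀ * g₀ = 1) (h0 : aeval Z (g₁ * g₀) = 0) (h1 : ∀ r, g₁.IsRoot r → ¬ P r)
    (h2 : ∀ r, g₀.IsRoot r → P r) :
    Multiset.countP (fun r => ¬ P r) Z.charpoly.roots =
      finrank ℂ (LinearMap.range (aeval Z (u₀ * g₀))) := by
  classical
  set E : Module.End ℂ U := aeval Z (u₀ * g₀) with hE
  set E' : Module.End ℂ U := aeval Z (u₁ * g₁) with hE'
  have hsum : E' + E = 1 := by
    rw [hE, hE', ← map_add, hc, map_one]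
  have hprod : E * E' = 0 := by
    rw [hE, hE', ← map_mul]
    have : u₀ * g₀ * (u₁ * g₁) = (u₀ * u₁) * (g₁ * g₀) := by ring
    rw [this, map_mul, h0, mul_zero]
  have hidem : IsIdempotentElem E := by
    show E * E = E
    have : E = 1 - E' := eq_sub_of_add_eq' hsum
    nth_rewrite 2 [this]
    rw [mul_sub, hprod, mul_one, sub_zero]
  have hcompl : IsCompl (LinearMap.range E) (LinearMap.ker E) :=
    LinearMap.IsIdempotentElem.isCompl hidem
  have hcomm : ∀ q : ℂ[X], Commute Z (aeval Z q) := by
    intro q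
    have := (Polynomial.commute_X q).map (aeval Z)
    simpa using this
  have hEZ : Commute Z E := hcomm _
  have hφV : ∀ x ∈ LinearMap.range E, Z x ∈ LinearMap.range E := by
    rintro _ ⟨y, rfl⟩
    refine ⟨Z y, ?_⟩
    exact congrArg (fun f : Module.End ℂ U => f y) hEZ.eq.symm
  have hφW : ∀ x ∈ LinearMap.ker E, Z x ∈ LinearMap.ker E := by
    intro x hx
    rw [LinearMap.mem_ker] at hx ⊢
    have : E (Z x) = Z (E x) := congrArg (fun f : Module.End ℂ U => f x) hEZ.eq.symm
    rw [this, hx, map_zero]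
  let F := Z.restrict hφV
  let G := Z.restrict hφW
  let ψ := F.prodMap G
  let e := Submodule.prodEquivOfIsCompl _ _ hcompl
  let bV := Module.Free.chooseBasis ℂ (LinearMap.range E)
  let bW := Module.Free.chooseBasis ℂ (LinearMap.ker E)
  let b := bV.prod bW
  have hψ : ψ = e.symm.conj Z := by
    apply b.ext
    simp only [Basis.prod_apply, LinearMap.coe_inl, LinearMap.coe_inr, LinearMap.prodMap_apply,
      LinearEquiv.conj_apply, LinearEquiv.symm_symm, Submodule.coe_prodEquivOfIsCompl,
      LinearMap.coe_comp, LinearEquiv.coe_coe, Function.comp_apply, LinearMap.coprod_apply,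
      Submodule.coe_subtype, map_add, Sum.forall, Sum.elim_inl, map_zero, ZeroMemClass.coe_zero,
      add_zero, LinearEquiv.eq_symm_apply, and_self, Submodule.coe_prodEquivOfIsCompl',
      LinearMap.coe_restrict_apply, implies_true, Sum.elim_inr, zero_add, e, ψ, F, G, b]
  have hchar : Z.charpoly = F.charpoly * G.charpoly := by
    rw [← e.symm.charpoly_conj Z, ← hψ, LinearMap.charpoly_prodMap]
  have hFroots : ∀ r ∈ F.charpoly.roots, ¬ P r := by
    intro r hr
    have hroot : F.charpoly.IsRoot r := (mem_roots'.mp hr).2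
    have hev : Module.End.HasEigenvalue F r := (Module.End.hasEigenvalue_iff_isRoot_charpoly F r).mpr hroot
    obtain ⟨v, hv⟩ := hev.exists_hasEigenvector
    have hv1 : Z (v : U) = r • (v : U) := by
      have := congrArg Subtype.val hv.apply_eq_smul
      exact this
    have hv0 : (v : U) ≠ 0 := fun h => hv.2 (Subtype.ext h)
    have hveig : Z.HasEigenvector r (v : U) := ⟨Module.End.mem_eigenspace_iff.mpr hv1, hv0⟩
    have hev2 := Module.End.aeval_apply_of_hasEigenvector hveig (p := g₁)
    obtain ⟨w, hw⟩ := v.2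
    have h3 : (aeval Z g₁) (v : U) = 0 := by
      rw [← hw]
      have h4 : aeval Z g₁ * E = aeval Z (u₀ * (g₁ * g₀)) := by
        rw [hE, ← map_mul]
        congr 1
        ring
      have h5 := congrArg (fun f : Module.End ℂ U => f w) h4
      simp only [map_mul, h0, mul_zero, LinearMap.zero_apply] at h5
      exact h5
    rw [h3] at hev2
    have h6 : g₁.eval r = 0 := by
      by_contra hne
      exact hv0 ((smul_eq_zero.mp hev2.symm).resolve_left hne)
    exact h1 r h6
  have hGroots : ∀ r ∈ G.charpoly.roots, P r := by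
    intro r hr
    have hroot : G.charpoly.IsRoot r := (mem_roots'.mp hr).2
    have hev : Module.End.HasEigenvalue G r := (Module.End.hasEigenvalue_iff_isRoot_charpoly G r).mpr hroot
    obtain ⟨v, hv⟩ := hev.exists_hasEigenvector
    have hv1 : Z (v : U) = r • (v : U) := by
      have := congrArg Subtype.val hv.apply_eq_smul
      exact this
    have hv0 : (v : U) ≠ 0 := fun h => hv.2 (Subtype.ext h)
    have hveig : Z.HasEigenvector r (v : U) := ⟨Module.End.mem_eigenspace_iff.mpr hv1, hv0⟩
    have hev2 := Module.End.aeval_apply_of_hasEigenvector hveig (p := g₀)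
    have hvE : E (v : U) = 0 := LinearMap.mem_ker.mp v.2
    have h7 : (v : U) = E' (v : U) := by
      have := congrArg (fun f : Module.End ℂ U => f (v : U)) hsum
      simp only [LinearMap.add_apply, hvE, add_zero, Module.End.one_apply] at this
      exact this.symm
    have h3 : (aeval Z g₀) (v : U) = 0 := by
      rw [h7]
      have h4 : aeval Z g₀ * E' = aeval Z (u₁ * (g₁ * g₀)) := by
        rw [hE', ← map_mul]
        congr 1
        ring
      have h5 := congrArg (fun f : Module.End ℂ U => f (v : U)) h4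
      simp only [map_mul, h0, mul_zero, LinearMap.zero_apply] at h5
      exact h5
    rw [h3] at hev2
    have h6 : g₀.eval r = 0 := by
      by_contra hne
      exact hv0 ((smul_eq_zero.mp hev2.symm).resolve_left hne)
    exact h2 r h6
  rw [hchar, roots_mul (mul_ne_zero (LinearMap.charpoly_monic _).ne_zero (LinearMap.charpoly_monic _).ne_zero),
    Multiset.countP_add]
  have h8 : Multiset.countP (fun r => ¬ P r) G.charpoly.roots = 0 := by
    rw [Multiset.countP_eq_zero]
    intro r hr h9
    exact h9 (hGroots r hr)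
  have h9 : Multiset.countP (fun r => ¬ P r) F.charpoly.roots = F.charpoly.roots.card := by
    rw [Multiset.countP_eq_card]
    exact hFroots
  rw [h8, h9, add_zero]
  have h10 : F.charpoly.roots.card = F.charpoly.natDegree :=
    (IsAlgClosed.splits F.charpoly).natDegree_eq_card_roots.symm
  rw [h10, LinearMap.charpoly_natDegree]

end Split

section Poly

/-- Factor a split polynomial according to a predicate on its roots. -/
theorem exists_factor_of_pred (g : ℂ[X]) (hg : g.Monic) (P : ℂ → Prop) [DecidablePred P] :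
    ∃ g₁ g₀ u₁ u₀ : ℂ[X], g = g₁ * g₀ ∧ u₁ * g₁ + u₀ * g₀ = 1 ∧ (∀ r, g₁.IsRoot r → ¬ P r) ∧
      ∀ r, g₀.IsRoot r → P r := by
  classical
  let g₁ : ℂ[X] := ((g.roots.filter fun r => ¬ P r).map fun r => X - C r).prod
  let g₀ : ℂ[X] := ((g.roots.filter fun r => P r).map fun r => X - C r).prod
  have hprod : g = g₁ * g₀ := by
    have h1 : g = (g.roots.map fun r => X - C r).prod := by
      have := (IsAlgClosed.splits g).eq_prod_roots_of_monic hg
      exact this
    conv_lhs => rw [h1]
    have h2 : g.roots = (g.roots.filter fun r => ¬ P r) + (g.roots.filter fun r => P r) := by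
      rw [add_comm, Multiset.filter_add_not]
    conv_lhs => rw [h2]
    rw [Multiset.map_add, Multiset.prod_add]
  have hr1 : ∀ r, g₁.IsRoot r → ¬ P r := by
    intro r hr
    have h3 : g₁ ≠ 0 := (monic_multiset_prod_of_monic _ _ fun r _ => monic_X_sub_C r).ne_zero
    have h4 : r ∈ g₁.roots := (mem_roots h3).mpr hr
    rw [roots_multiset_prod_X_sub_C] at h4
    exact (Multiset.mem_filter.mp h4).2
  have hr0 : ∀ r, g₀.IsRoot r → P r := by
    intro r hr
    have h3 : g₀ ≠ 0 := (monic_multiset_prod_of_monic _ _ fun r _ => monic_X_sub_C r).ne_zero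
    have h4 : r ∈ g₀.roots := (mem_roots h3).mpr hr
    rw [roots_multiset_prod_X_sub_C] at h4
    exact (Multiset.mem_filter.mp h4).2
  have hcop : IsCoprime g₁ g₀ := by
    rw [Polynomial.isCoprime_iff_aeval_ne_zero_of_isAlgClosed ℂ ℂ]
    intro a
    by_cases ha : P a
    · left
      intro h
      exact hr1 a (by simpa [IsRoot] using h) ha
    · right
      intro h
      exact ha (hr0 a (by simpa [IsRoot] using h))
  obtain ⟨u₁, u₀, hu⟩ := hcop
  exact ⟨g₁, g₀, u₁, u₀, hprod, hu, hr1, hr0⟩

variable {U : Type*} [AddCommGroup U] [Module ℂ U]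

theorem aeval_restrict_apply (Z : Module.End ℂ U) {S : Submodule ℂ U} (h : ∀ v ∈ S, Z v ∈ S) (q : ℂ[X])
    (w : S) : ((aeval (Z.restrict h) q w : S) : U) = aeval Z q (w : U) := by
  induction q using Polynomial.induction_on' with
  | add p q hp hq =>
    simp only [map_add, LinearMap.add_apply, Submodule.coe_add, hp, hq]
  | monomial n a =>
    simp only [aeval_monomial, Module.End.mul_apply, Module.algebraMap_end_apply, Submodule.coe_smul]
    congr 1
    rw [Module.End.pow_restrict]
    rfl

end Poly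

section GroupAlg

open Cfsg MonoidAlgebra Cfsg.Agent.Lib.Block Cfsg.Agent.Lib.Char
open scoped ComplexConjugate

variable {G : Type*} [Group G] [Fintype G]

theorem repr_basis_eq (v : MonoidAlgebra ℂ G) (g : G) : (MonoidAlgebra.basis G ℂ).repr v g = v.coeff g := by
  rfl

theorem trace_eq_sum_coeff (T : Module.End ℂ (MonoidAlgebra ℂ G)) :
    LinearMap.trace ℂ _ T = ∑ g, (T (MonoidAlgebra.single g 1)).coeff g := by
  classical
  rw [LinearMap.trace_eq_matrix_trace ℂ (MonoidAlgebra.basis G ℂ), Matrix.trace]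
  refine Finset.sum_congr rfl fun g _ => ?_
  simp only [Matrix.diag, LinearMap.toMatrix_apply, MonoidAlgebra.basis_apply]
  rfl

open Classical in
/-- The fixed points of `g ↦ h g w`. -/
theorem card_fix_eq (h w : G) [Decidable (IsConj h w⁻¹)] :
    (Finset.univ.filter fun g : G => h * g * w = g).card =
      if IsConj h w⁻¹ then Nat.card (Subgroup.centralizer ({h} : Set G)) else 0 := by
  classical
  split_ifs with hc
  · obtain ⟨c, hc⟩ := isConj_iff.mp hc
    have hg₀ : c * h * c⁻¹ = w⁻¹ := hc
    rw [← Fintype.card_subtype, ← Nat.card_eq_fintype_card]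
    refine Nat.card_congr
      { toFun := fun g => ⟨g.1 * c, ?_⟩
        invFun := fun z => ⟨z.1 * c⁻¹, ?_⟩
        left_inv := fun g => Subtype.ext (by simp)
        right_inv := fun z => Subtype.ext (by simp) }
    · rw [mem_centralizer_singleton]
      have h1 : h * g.1 * w = g.1 := g.2
      have h2 : h * g.1 = g.1 * w⁻¹ := by
        rw [eq_mul_inv_iff_mul_eq]
        exact h1
      rw [← hg₀] at h2
      calc g.1 * c * h = g.1 * (c * h * c⁻¹) * c := by group
        _ = h * g.1 * c := by rw [h2]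
        _ = h * (g.1 * c) := by group
    · have h1 := mem_centralizer_singleton.mp z.2
      have h2 : w = c * h⁻¹ * c⁻¹ := by
        rw [← inv_inj, ← hg₀]
        group
      show h * (z.1 * c⁻¹) * w = z.1 * c⁻¹
      rw [h2]
      calc h * (z.1 * c⁻¹) * (c * h⁻¹ * c⁻¹) = (h * z.1) * h⁻¹ * c⁻¹ := by group
        _ = z.1 * c⁻¹ := by rw [← h1]; group
  · rw [Finset.card_eq_zero, Finset.filter_eq_empty_iff]
    intro g _ hg
    apply hc
    rw [isConj_iff]
    refine ⟨g⁻¹, ?_⟩
    have : h * g = g * w⁻¹ := by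
      rw [eq_mul_inv_iff_mul_eq]
      exact hg
    calc g⁻¹ * h * g⁻¹⁻¹ = g⁻¹ * (h * g) := by group
      _ = g⁻¹ * (g * w⁻¹) := by rw [this]
      _ = w⁻¹ := by group

open Classical in
theorem sum_irr_mul (h w : G) :
    ∑ χ : IrrCharacter G, (χ : G → ℂ) h * (χ : G → ℂ) w =
      ((Finset.univ.filter fun g : G => h * g * w = g).card : ℂ) := by
  classical
  have h1 := second_orthogonality h w⁻¹
  rw [card_fix_eq]
  have h2 : ∀ χ : IrrCharacter G, conj ((χ : G → ℂ) w⁻¹) = (χ : G → ℂ) w := by
    intro χ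
    rw [IsCharacter.map_inv' (IsIrrCharacter.isCharacter χ.2), Complex.conj_conj]
  simp only [h2] at h1
  rw [h1]
  split_ifs <;> simp

/-- **The trace of `ℓ ↦ a ℓ b`**. -/
theorem trace_mulLeft_mulRight (a b : MonoidAlgebra ℂ G) :
    LinearMap.trace ℂ _ (LinearMap.mulLeft ℂ a ∘ₗ LinearMap.mulRight ℂ b) =
      ∑ χ : IrrCharacter G, tr (χ : G → ℂ) a * tr (χ : G → ℂ) b := by
  classical
  rw [trace_eq_sum_coeff]
  have h1 : ∀ g, ((LinearMap.mulLeft ℂ a ∘ₗ LinearMap.mulRight ℂ b) (MonoidAlgebra.single g 1)).coeff g =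
      ∑ h, ∑ k, a.coeff h * b.coeff k * (if h * g * k = g then 1 else 0) := by
    intro g
    simp only [LinearMap.comp_apply, LinearMap.mulRight_apply, LinearMap.mulLeft_apply]
    conv_lhs => rw [eq_sum_single a, eq_sum_single b]
    rw [Finset.mul_sum, Finset.sum_mul, MonoidAlgebra.coeff_sum, Finset.sum_apply']
    refine Finset.sum_congr rfl fun h _ => ?_
    rw [Finset.mul_sum, MonoidAlgebra.coeff_sum, Finset.sum_apply']
    refine Finset.sum_congr rfl fun k _ => ?_
    rw [← mul_assoc, MonoidAlgebra.single_mul_single, MonoidAlgebra.single_mul_single,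
      MonoidAlgebra.coeff_single, mul_one]
    by_cases hk : h * g * k = g <;> simp [hk, Finsupp.single_apply]
  simp only [h1]
  have h2 : ∀ χ : IrrCharacter G, tr (χ : G → ℂ) a * tr (χ : G → ℂ) b =
      ∑ h, ∑ k, a.coeff h * b.coeff k * ((χ : G → ℂ) h * (χ : G → ℂ) k) := by
    intro χ
    unfold tr
    rw [Finset.sum_mul_sum]
    refine Finset.sum_congr rfl fun h _ => Finset.sum_congr rfl fun k _ => ?_
    ring
  simp only [h2]
  rw [Finset.sum_comm]
  conv_rhs => rw [Finset.sum_comm]
  refine Finset.sum_congr rfl fun h _ => ?_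
  rw [Finset.sum_comm]
  conv_rhs => rw [Finset.sum_comm]
  refine Finset.sum_congr rfl fun k _ => ?_
  rw [← Finset.mul_sum, ← Finset.mul_sum, sum_irr_mul]
  congr 1
  rw [Finset.card_filter]
  push_cast
  rfl

/-- The left ideal `π E e`. -/
noncomputable def idealS (π e : MonoidAlgebra ℂ G) : Submodule ℂ (MonoidAlgebra ℂ G) :=
  LinearMap.range (LinearMap.mulLeft ℂ π ∘ₗ LinearMap.mulRight ℂ e)

theorem mem_idealS {π e v : MonoidAlgebra ℂ G} : v ∈ idealS π e ↔ ∃ ℓ, π * ℓ * e = v := by
  unfold idealS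
  rw [LinearMap.mem_range]
  constructor
  · rintro ⟨ℓ, rfl⟩
    exact ⟨ℓ, by simp [mul_assoc]⟩
  · rintro ⟨ℓ, rfl⟩
    exact ⟨ℓ, by simp [mul_assoc]⟩

theorem idealS_stable {π e μ : MonoidAlgebra ℂ G} (he : IsCentralElt e) (hμ : μ * e = μ) :
    ∀ v ∈ idealS π e, (LinearMap.mulRight ℂ μ) v ∈ idealS π e := by
  intro v hv
  obtain ⟨ℓ, rfl⟩ := mem_idealS.mp hv
  refine mem_idealS.mpr ⟨ℓ * μ, ?_⟩
  simp only [LinearMap.mulRight_apply]
  have h1 : e * μ = μ := by rw [isCentralElt_commute he]; exact hμ
  calc π * (ℓ * μ) * e = π * ℓ * (μ * e) := by noncomm_ring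
    _ = π * ℓ * μ := by rw [hμ]
    _ = π * ℓ * (e * μ) := by rw [h1]
    _ = π * ℓ * e * μ := by noncomm_ring

theorem commute_aeval_of_commute {A : Type*} [Ring A] [Algebra ℂ A] {a z : A} (h : Commute a z) (q : ℂ[X]) :
    Commute a (aeval z q) := by
  induction q using Polynomial.induction_on' with
  | add p q hp hq =>
    rw [map_add]
    exact hp.add_right hq
  | monomial n c =>
    rw [aeval_monomial]
    exact (Algebra.commute_algebraMap_right c a).mul_right (h.pow_right n)

/-- The idempotent cutting out the eigenvalues outside `P`, and its trace on a left ideal. -/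
theorem unit_root_count (μ : MonoidAlgebra ℂ G) (P : ℂ → Prop) [DecidablePred P] (hP0 : P 0)
    (A : Set (IrrCharacter G)) (hμ : μ * blockElt A = μ) :
    ∃ r : IrrCharacter G → ℕ, (∀ χ, χ ∉ A → r χ = 0) ∧
      ∀ π : MonoidAlgebra ℂ G, π * π = π →
        (Multiset.countP (fun r => ¬ P r)
          (((LinearMap.mulRight ℂ μ).restrict
            (idealS_stable (π := π) (isCentralElt_blockElt A) hμ)).charpoly.roots) : ℂ) =
          ∑ χ : IrrCharacter G, tr (χ : G → ℂ) π * (r χ : ℂ) := by
  classical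
  set Z : Module.End ℂ (MonoidAlgebra ℂ G) := LinearMap.mulRight ℂ μ with hZ
  obtain ⟨g₁, g₀, u₁, u₀, hg, hc, h1, h2⟩ := exists_factor_of_pred Z.charpoly (LinearMap.charpoly_monic Z) P
  have h0 : aeval Z (g₁ * g₀) = 0 := by
    rw [← hg]
    exact LinearMap.aeval_self_charpoly Z
  set E₁ : Module.End ℂ (MonoidAlgebra ℂ G) := aeval Z (u₀ * g₀) with hE₁
  set E₂ : Module.End ℂ (MonoidAlgebra ℂ G) := aeval Z (u₁ * g₁) with hE₂
  have hsum : E₂ + E₁ = 1 := by
    rw [hE₁, hE₂, ← map_add, hc, map_one]
  have hprod : E₁ * E₂ = 0 := by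
    rw [hE₁, hE₂, ← map_mul]
    have : u₀ * g₀ * (u₁ * g₁) = (u₀ * u₁) * (g₁ * g₀) := by ring
    rw [this, map_mul, h0, mul_zero]
  have hidem : E₁ * E₁ = E₁ := by
    have : E₁ = 1 - E₂ := eq_sub_of_add_eq' hsum
    nth_rewrite 2 [this]
    rw [mul_sub, hprod, mul_one, sub_zero]
  set ε : MonoidAlgebra ℂ G := E₁ 1 with hε
  have hcommL : ∀ v : MonoidAlgebra ℂ G, Commute (LinearMap.mulLeft ℂ v : Module.End ℂ _) Z := by
    intro v
    show (LinearMap.mulLeft ℂ v : Module.End ℂ _) * Z = Z * LinearMap.mulLeft ℂ v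
    refine LinearMap.ext fun w => ?_
    simp [hZ, mul_assoc]
  have hE₁v : ∀ v, E₁ v = v * ε := by
    intro v
    have h3 := (commute_aeval_of_commute (hcommL v) (u₀ * g₀)).eq
    have h4 := congrArg (fun f : Module.End ℂ _ => f 1) h3
    simp only [Module.End.mul_apply, LinearMap.mulLeft_apply, mul_one] at h4
    exact h4.symm
  have hεε : ε * ε = ε := by
    rw [← hE₁v]
    have := congrArg (fun f : Module.End ℂ _ => f 1) hidem
    exact this
  have hg₁E : aeval Z g₁ * E₁ = 0 := by
    rw [hE₁, ← map_mul]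
    have : g₁ * (u₀ * g₀) = u₀ * (g₁ * g₀) := by ring
    rw [this, map_mul, h0, mul_zero]
  have hcent := isCentralElt_blockElt A
  have heμ : blockElt A * μ = μ := by rw [isCentralElt_commute hcent]; exact hμ
  have hεe : ε * blockElt A = ε := by
    by_contra hne
    set v := ε - ε * blockElt A with hv
    have hv0 : v ≠ 0 := sub_ne_zero.mpr (Ne.symm hne)
    have hZv : Z v = 0 := by
      simp only [hZ, LinearMap.mulRight_apply, hv]
      rw [sub_mul, mul_assoc, heμ, sub_self]
    have hveig : Z.HasEigenvector 0 v := ⟨Module.End.mem_eigenspace_iff.mpr (by simpa using hZv), hv0⟩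
    have hev2 := Module.End.aeval_apply_of_hasEigenvector hveig (p := g₁)
    have h5 : aeval Z g₁ v = 0 := by
      have h6 : v = E₁ (1 - blockElt A) := by
        rw [hE₁v, sub_mul, one_mul, isCentralElt_commute hcent, hv]
      rw [h6]
      exact congrArg (fun f : Module.End ℂ _ => f _) hg₁E
    rw [h5] at hev2
    have h6 : g₁.eval 0 = 0 := by
      by_contra hne'
      exact hv0 ((smul_eq_zero.mp hev2.symm).resolve_left hne')
    exact h1 0 h6 hP0
  have heε : blockElt A * ε = ε := by rw [isCentralElt_commute hcent]; exact hεe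
  -- the numbers `r χ`
  have hnat : ∀ χ : IrrCharacter G, ∃ n : ℕ, tr (χ : G → ℂ) ε = n := by
    rintro ⟨χ, hχ⟩
    obtain ⟨n, ρ, -, rfl⟩ := hχ
    refine ⟨finrank ℂ (LinearMap.range (ρ.asAlgebraHom ε)), ?_⟩
    show tr ρ.character ε = _
    rw [← trace_asAlgebraHom]
    have hi : IsIdempotentElem (ρ.asAlgebraHom ε : Module.End ℂ _) := by
      show ρ.asAlgebraHom ε * ρ.asAlgebraHom ε = _
      rw [← map_mul, hεε]
    exact (LinearMap.IsIdempotentElem.isProj_range _ hi).trace
  choose r hr using hnat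
  refine ⟨r, ?_, ?_⟩
  · intro χ hχ
    have h3 : tr (χ : G → ℂ) ε = 0 := by
      rw [← heε, tr_mul_central χ.2 hcent, om_blockElt_of_notMem hχ, zero_mul]
    rw [hr] at h3
    exact_mod_cast h3
  · intro π hπ
    have hst := idealS_stable (π := π) hcent hμ
    have h0S : aeval (Z.restrict hst) (g₁ * g₀) = 0 := by
      refine LinearMap.ext fun w => ?_
      apply Subtype.ext
      rw [aeval_restrict_apply, h0]
      rfl
    have hcount := count_roots_split (Z.restrict hst) P hc h0S h1 h2
    rw [hcount]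
    set T : Module.End ℂ (MonoidAlgebra ℂ G) := LinearMap.mulLeft ℂ π ∘ₗ LinearMap.mulRight ℂ ε with hT
    have hTidem : IsIdempotentElem T := by
      show T * T = T
      refine LinearMap.ext fun w => ?_
      simp only [hT, Module.End.mul_apply, LinearMap.comp_apply, LinearMap.mulRight_apply,
        LinearMap.mulLeft_apply]
      calc π * (π * (w * ε) * ε) = (π * π) * w * (ε * ε) := by noncomm_ring
        _ = π * (w * ε) := by rw [hπ, hεε]; noncomm_ring
    have htr : LinearMap.trace ℂ _ T = (finrank ℂ (LinearMap.range T) : ℂ) :=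
      (LinearMap.IsIdempotentElem.isProj_range _ hTidem).trace
    have htr2 := trace_mulLeft_mulRight π ε
    have hrange : finrank ℂ (LinearMap.range (aeval (Z.restrict hst) (u₀ * g₀))) =
        finrank ℂ (LinearMap.range T) := by
      have hmap : (LinearMap.range (aeval (Z.restrict hst) (u₀ * g₀))).map (idealS π (blockElt A)).subtype =
          LinearMap.range T := by
        apply le_antisymm
        · rintro _ ⟨_, ⟨w, rfl⟩, rfl⟩
          obtain ⟨ℓ, hℓ⟩ := mem_idealS.mp w.2
          refine ⟨ℓ, ?_⟩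
          show π * (ℓ * ε) = ((aeval (Z.restrict hst) (u₀ * g₀) w : _) : MonoidAlgebra ℂ G)
          rw [aeval_restrict_apply, ← hE₁, hE₁v, ← hℓ]
          calc π * (ℓ * ε) = π * ℓ * ε := by noncomm_ring
            _ = π * ℓ * (blockElt A * ε) := by rw [heε]
            _ = π * ℓ * blockElt A * ε := by noncomm_ring
        · rintro _ ⟨ℓ, rfl⟩
          refine ⟨_, ⟨⟨π * ℓ * blockElt A, mem_idealS.mpr ⟨ℓ, rfl⟩⟩, rfl⟩, ?_⟩
          show ((aeval (Z.restrict hst) (u₀ * g₀) _ : _) : MonoidAlgebra ℂ G) = π * (ℓ * ε)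
          rw [aeval_restrict_apply, ← hE₁, hE₁v]
          calc π * ℓ * blockElt A * ε = π * ℓ * (blockElt A * ε) := by noncomm_ring
            _ = π * (ℓ * ε) := by rw [heε]; noncomm_ring
      rw [← hmap]
      exact LinearEquiv.finrank_eq (Submodule.equivMapOfInjective _ (Submodule.injective_subtype _) _)
    rw [hrange, ← htr, htr2]
    simp only [hr]

end GroupAlg

end Cfsg.Agent.Lib.FF
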