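import Cfsg.Agent.Lib.FF.DefOneTr
import Cfsg.Agent.Lib.FF.DefOneRing
import Cfsg.Agent.Lib.FF.UnitRoots

/-!
# Lattices in the complex group algebra

Linear independence over a subring against complex linear independence, comparison of characteristic
polynomials on a lattice and on its complex span, the rank of an idempotent reduction as a count of
unit eigenvalues.
-/

set_option autoImplicit false
set_option linter.unusedSectionVars false
set_option linter.unusedVariables false

namespace Cfsg.Agent.Lib.FF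

open Module Polynomial Cfsg Cfsg.Agent.Lib.Block

section Indep

variable {G : Type*} [Group G] [Fintype G] (O : Subring ℂ)

theorem exists_denominators {ι' : Type*} [Fintype ι'] (y : ι' → ℂ)
    (hy : ∀ i, y i ∈ Subfield.closure (O : Set ℂ)) :
    ∃ D ∈ O, D ≠ 0 ∧ ∀ i, D * y i ∈ O := by
  classical
  have h1 : ∀ i, ∃ b ∈ O, b ≠ 0 ∧ b * y i ∈ O := by
    intro i
    obtain ⟨a, ha, b, hb, hab⟩ := Subfield.mem_closure_iff.mp (hy i)
    have ha' : a ∈ O := by
      have : Subring.closure (O : Set ℂ) = O := Subring.closure_eq O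
      rwa [this] at ha
    have hb' : b ∈ O := by
      have : Subring.closure (O : Set ℂ) = O := Subring.closure_eq O
      rwa [this] at hb
    by_cases hb0 : b = 0
    · refine ⟨1, O.one_mem, one_ne_zero, ?_⟩
      rw [← hab, hb0, div_zero, mul_zero]
      exact O.zero_mem
    · refine ⟨b, hb', hb0, ?_⟩
      rw [← hab, mul_div_cancel₀ _ hb0]
      exact ha'
  choose b hb hb0 hby using h1
  refine ⟨∏ i, b i, O.prod_mem fun i _ => hb i, Finset.prod_ne_zero_iff.mpr fun i _ => hb0 i, ?_⟩
  intro i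
  rw [← Finset.mul_prod_erase Finset.univ b (Finset.mem_univ i)]
  have : b i * ∏ j ∈ Finset.univ.erase i, b j = (∏ j ∈ Finset.univ.erase i, b j) * b i := mul_comm _ _
  rw [this, mul_assoc]
  exact O.mul_mem (O.prod_mem fun j _ => hb j) (hby i)

/-- Families with coefficients proportional to values in `O`: independence over `O` gives independence
over the complex numbers. -/
theorem linIndep_of_rat {ι' : Type*} [Fintype ι'] (v : ι' → MonoidAlgebra ℂ G) (hO : LinearIndependent O v)
    (d₀ : ℂ) (hd : d₀ ≠ 0) (hrat : ∀ i g, d₀ * (v i).coeff g ∈ O) : LinearIndependent ℂ v := by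
  classical
  rw [Fintype.linearIndependent_iff]
  intro c hc i
  let K₀ : Subfield ℂ := Subfield.closure (O : Set ℂ)
  have hle : ∀ z ∈ O, z ∈ K₀ := fun z hz => Subfield.subset_closure hz
  by_contra hne
  obtain ⟨ℓ, hℓ⟩ : ∃ ℓ : Module.Dual K₀ ℂ, ℓ (c i) ≠ 0 := by
    by_contra hall
    push Not at hall
    exact hne ((Module.forall_dual_apply_eq_zero_iff K₀ (c i)).mp hall)
  obtain ⟨D, hD, hD0, hDy⟩ := exists_denominators O (fun j => ((ℓ (c j) : K₀) : ℂ)) (fun j => (ℓ (c j)).2)
  have hsum : ∑ j, (⟨D * ((ℓ (c j) : K₀) : ℂ), hDy j⟩ : O) • v j = 0 := by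
    apply ext_coeff
    intro g
    have h1 : (∑ j, c j • v j).coeff g = 0 := by
      rw [hc]
      rfl
    rw [MonoidAlgebra.coeff_sum, Finset.sum_apply'] at h1
    simp only [MonoidAlgebra.coeff_smul, Finsupp.smul_apply, smul_eq_mul] at h1
    have h2 : ∑ j, ((⟨d₀ * (v j).coeff g, hle _ (hrat j g)⟩ : K₀) • c j) = 0 := by
      have : ∑ j, (d₀ * (v j).coeff g) * c j = 0 := by
        have : ∑ j, (d₀ * (v j).coeff g) * c j = d₀ * ∑ j, c j * (v j).coeff g := by
          rw [Finset.mul_sum]
          refine Finset.sum_congr rfl fun j _ => ?_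
          ring
        rw [this, h1, mul_zero]
      exact this
    have h3 := congrArg (fun u => ((ℓ u : K₀) : ℂ)) h2
    simp only [map_sum, map_smul, map_zero] at h3
    have h4 : ∑ j, (d₀ * (v j).coeff g) * ((ℓ (c j) : K₀) : ℂ) = 0 := by
      have : ((∑ j, (⟨d₀ * (v j).coeff g, hle _ (hrat j g)⟩ : K₀) • ℓ (c j) : K₀) : ℂ) = 0 := h3
      rw [← this]
      simp [AddSubmonoidClass.coe_finsetSum]
    rw [MonoidAlgebra.coeff_sum, Finset.sum_apply']
    show ∑ j, ((⟨D * ((ℓ (c j) : K₀) : ℂ), hDy j⟩ : O) • v j).coeff g = 0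
    have h5 : ∀ j, ((⟨D * ((ℓ (c j) : K₀) : ℂ), hDy j⟩ : O) • v j).coeff g =
        (D / d₀) * ((d₀ * (v j).coeff g) * ((ℓ (c j) : K₀) : ℂ)) := by
      intro j
      show (D * ((ℓ (c j) : K₀) : ℂ)) * (v j).coeff g = _
      field_simp
    simp only [h5]
    rw [← Finset.mul_sum, h4, mul_zero]
  have h1 := (Fintype.linearIndependent_iff.mp hO) _ hsum i
  have h2 : D * ((ℓ (c i) : K₀) : ℂ) = 0 := congrArg Subtype.val h1
  rcases mul_eq_zero.mp h2 with h3 | h3
  · exact hD0 h3
  · exact hℓ (Subtype.ext h3)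

end Indep

section Link

variable {G : Type*} [Group G] [Fintype G] {O : Subring ℂ}

/-- The characteristic polynomial on a lattice against the one on its complex span. -/
theorem charpoly_link {S : Type*} [AddCommGroup S] [Module O S] [Module.Free O S] [Module.Finite O S]
    (ι' : S →ₗ[O] MonoidAlgebra ℂ G) (hι : Function.Injective ι') (d₀ : ℂ) (hd : d₀ ≠ 0)
    (hrat : ∀ s g, d₀ * (ι' s).coeff g ∈ O) (W : Submodule ℂ (MonoidAlgebra ℂ G)) (hW : ∀ s, ι' s ∈ W)
    (hspan : W ≤ Submodule.span ℂ (Set.range ι')) (Z : Module.End ℂ (MonoidAlgebra ℂ G))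
    (hZ : ∀ v ∈ W, Z v ∈ W) (F : Module.End O S) (hF : ∀ s, Z (ι' s) = ι' (F s)) :
    F.charpoly.map O.subtype = (Z.restrict hZ).charpoly ∧ finrank O S = finrank ℂ W := by
  classical
  let b := Module.Free.chooseBasis O S
  let n := Module.Free.ChooseBasisIndex O S
  have : Fintype n := Module.Free.ChooseBasisIndex.fintype O S
  have hind : LinearIndependent O (fun i => ι' (b i)) := b.linearIndependent.map' ι' (LinearMap.ker_eq_bot.mpr hι)
  have hind2 : LinearIndependent ℂ (fun i => ι' (b i)) := linIndep_of_rat O _ hind d₀ hd (fun i g => hrat (b i) g)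
  let u : n → W := fun i => ⟨ι' (b i), hW _⟩
  have hindu : LinearIndependent ℂ u := by
    apply LinearIndependent.of_comp W.subtype
    exact hind2
  have hspanu : ⊤ ≤ Submodule.span ℂ (Set.range u) := by
    rintro ⟨w, hw⟩ -
    have h1 : w ∈ Submodule.span ℂ (Set.range fun i => ι' (b i)) := by
      have h2 : Submodule.span ℂ (Set.range ι') ≤ Submodule.span ℂ (Set.range fun i => ι' (b i)) := by
        refine Submodule.span_le.mpr ?_
        rintro _ ⟨s, rfl⟩
        have h3 : s = ∑ i, (b.repr s i) • b i := (b.sum_repr s).symm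
        rw [h3, map_sum]
        refine Submodule.sum_mem _ fun i _ => ?_
        rw [map_smul]
        have h4 : (b.repr s i) • ι' (b i) = ((b.repr s i : O) : ℂ) • ι' (b i) := rfl
        rw [h4]
        exact Submodule.smul_mem _ _ (Submodule.subset_span ⟨i, rfl⟩)
      exact h2 (hspan hw)
    have h2 : (⟨w, hw⟩ : W) ∈ (Submodule.span ℂ (Set.range u)) := by
      have h3 : Submodule.map W.subtype (Submodule.span ℂ (Set.range u)) =
          Submodule.span ℂ (Set.range fun i => ι' (b i)) := by
        rw [Submodule.map_span]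
        congr 1
        ext y
        simp [u]
        exact Iff.rfl
      rw [← h3] at h1
      obtain ⟨y, hy, hyw⟩ := h1
      have : y = ⟨w, hw⟩ := Subtype.ext hyw
      rwa [← this]
    exact h2
  let c : Module.Basis n ℂ W := Module.Basis.mk hindu hspanu
  have hc : ∀ i, c i = u i := fun i => Module.Basis.mk_apply _ _ _
  constructor
  · rw [← LinearMap.charpoly_toMatrix F b, ← LinearMap.charpoly_toMatrix (Z.restrict hZ) c,
      ← Matrix.charpoly_map]
    congr 1
    ext i j
    rw [Matrix.map_apply, LinearMap.toMatrix_apply, LinearMap.toMatrix_apply]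
    have h1 : (Z.restrict hZ) (c j) = ∑ i, ((b.repr (F (b j)) i : O) : ℂ) • c i := by
      apply Subtype.ext
      rw [hc]
      show Z (ι' (b j)) = ((∑ i, ((b.repr (F (b j)) i : O) : ℂ) • c i : W) : MonoidAlgebra ℂ G)
      rw [hF]
      conv_lhs => rw [← b.sum_repr (F (b j))]
      rw [map_sum, AddSubmonoidClass.coe_finsetSum]
      refine Finset.sum_congr rfl fun i _ => ?_
      rw [map_smul, Submodule.coe_smul, hc]
      rfl
    rw [h1]
    simp only [map_sum, map_smul, Finsupp.coe_finsetSum, Finset.sum_apply, Finsupp.smul_apply,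
      Module.Basis.repr_self, smul_eq_mul]
    simp only [Finsupp.single_apply, mul_ite, mul_one, mul_zero, Finset.sum_ite_eq', Finset.mem_univ, if_true]
    rfl
  · rw [Module.finrank_eq_card_basis b, Module.finrank_eq_card_basis c]

end Link

section RankLink

variable {G : Type*} [Group G] [Fintype G] {O : Subring ℂ} {M : Ideal AlgInt} {p : ℕ}
variable {k V L₁ : Type*} [Field k] [AddCommGroup V] [Module k V] [FiniteDimensional k V]
  [AddCommGroup L₁] [Module O L₁]

theorem sigma_zero_iff (hM : IsPModular p M) (hO : UnramRing M p O) (d : RedData p O k L₁ V) (r : O) :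
    d.σ r = 0 ↔ MemLocalIdeal M (r : ℂ) := by
  rw [d.σ_ker, ← hO.dvd_iff hM r]
  constructor
  · rintro ⟨s, hs⟩
    exact ⟨s, hs⟩
  · rintro ⟨s, hs⟩
    exact ⟨s, hs⟩

/-- The rank of an idempotent reduction on the image of a pure sublattice is the number of unit
eigenvalues on the complex span. -/
theorem rk_eq_countP (hM : IsPModular p M) (hO : UnramRing M p O) (d : RedData p O k L₁ V)
    (S : Submodule O L₁) [Module.Free O S] [Module.Finite O S]
    (htf : ∀ v : L₁, (p : O) • v = 0 → v = 0) (hpure : ∀ v, (p : O) • v ∈ S → v ∈ S)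
    (E' : Module.End O L₁) (hE : ∀ v ∈ S, E' v ∈ S) (hπ : IsIdempotentElem (d.bar E' : Module.End k V))
    (ι' : L₁ →ₗ[O] MonoidAlgebra ℂ G) (hι : Function.Injective ι') (d₀ : ℂ) (hd : d₀ ≠ 0)
    (hrat : ∀ s g, d₀ * (ι' s).coeff g ∈ O) (W : Submodule ℂ (MonoidAlgebra ℂ G)) (hW : ∀ s ∈ S, ι' s ∈ W)
    (hspan : W ≤ Submodule.span ℂ (ι' '' (S : Set L₁))) (Z : Module.End ℂ (MonoidAlgebra ℂ G))
    (hZ : ∀ v ∈ W, Z v ∈ W) (hF : ∀ s ∈ S, Z (ι' s) = ι' (E' s))
    [DecidablePred (MemLocalIdeal M)] :
    rk (d.bar E') (d.imS S) =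
        Multiset.countP (fun r => ¬ MemLocalIdeal M r) (Z.restrict hZ).charpoly.roots ∧
      finrank O S = finrank ℂ W := by
  classical
  have := isPModular_isPrime hM
  have h1 := natTrailing_add_rk d S htf hpure E' hE hπ
  have h2 := natTrailing_eq_count O hO.le_local d.σ (sigma_zero_iff hM hO d) (E'.restrict hE).charpoly
    (LinearMap.charpoly_monic _)
  have hlink := charpoly_link (O := O) (S := S) (ι' ∘ₗ S.subtype) (hι.comp Subtype.val_injective) d₀ hd
    (fun s g => hrat _ g) W (fun s => hW _ s.2) (by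
      intro v hv
      have h3 := hspan hv
      have h4 : ι' '' (S : Set L₁) = Set.range (ι' ∘ₗ S.subtype) := by
        ext y
        constructor
        · rintro ⟨s, hs, rfl⟩
          exact ⟨⟨s, hs⟩, rfl⟩
        · rintro ⟨s, rfl⟩
          exact ⟨s, s.2, rfl⟩
      rwa [h4] at h3) Z hZ (E'.restrict hE) (fun s => hF _ s.2)
  obtain ⟨h3, h4⟩ := hlink
  refine ⟨?_, h4⟩
  rw [h3] at h2
  rw [h2] at h1
  have h5 : Multiset.card (Z.restrict hZ).charpoly.roots = finrank ℂ W := by
    rw [← (Z.restrict hZ).charpoly_natDegree]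
    exact (IsAlgClosed.splits (Z.restrict hZ).charpoly).natDegree_eq_card_roots.symm
  have h6 := Multiset.card_eq_countP_add_countP (MemLocalIdeal M) (Z.restrict hZ).charpoly.roots
  omega

end RankLink

end Cfsg.Agent.Lib.FF
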