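import Cfsg.Agent.Lib.FF.DefOneLat

/-!
# The lattice generated by a central idempotent

For a subring `O` of the complex numbers and a central idempotent `a`, the `O`-span of the translates of
`a` in the group algebra, with left multiplications and the endomorphisms commuting with the group.
-/

set_option autoImplicit false
set_option linter.unusedSectionVars false
set_option linter.unusedVariables false

namespace Cfsg.Agent.Lib.FF

open Module Polynomial Cfsg Cfsg.Agent.Lib.Block

section Lat

variable {G : Type*} [Group G] [Fintype G] (O : Subring ℂ)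

/-- Coefficients in `O`. -/
def CoefIn (z : MonoidAlgebra ℂ G) : Prop := ∀ g, z.coeff g ∈ O

theorem coefIn_single (g : G) : CoefIn O (MonoidAlgebra.single g (1 : ℂ)) := by
  classical
  intro h
  rw [MonoidAlgebra.coeff_single, Finsupp.single_apply]
  split_ifs
  · exact O.one_mem
  · exact O.zero_mem

theorem coefIn_add {z w : MonoidAlgebra ℂ G} (hz : CoefIn O z) (hw : CoefIn O w) : CoefIn O (z + w) := by
  intro g
  rw [MonoidAlgebra.coeff_add, Finsupp.add_apply]
  exact O.add_mem (hz g) (hw g)

/-- The lattice spanned by the translates of `a`. -/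
noncomputable def latL (a : MonoidAlgebra ℂ G) : Submodule O (MonoidAlgebra ℂ G) :=
  Submodule.span O (Set.range fun g : G => MonoidAlgebra.single g (1 : ℂ) * a)

variable {O} {a : MonoidAlgebra ℂ G}

theorem sg_mem (g : G) : MonoidAlgebra.single g (1 : ℂ) * a ∈ latL O a :=
  Submodule.subset_span ⟨g, rfl⟩

theorem a_mem : a ∈ latL O a := by
  have := sg_mem (O := O) (a := a) (1 : G)
  rwa [← MonoidAlgebra.one_def, one_mul] at this

theorem single_mul_mem (g : G) {v : MonoidAlgebra ℂ G} (hv : v ∈ latL O a) :
    MonoidAlgebra.single g (1 : ℂ) * v ∈ latL O a := by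
  induction hv using Submodule.span_induction with
  | mem v h =>
    obtain ⟨h, rfl⟩ := h
    rw [← mul_assoc, MonoidAlgebra.single_mul_single, one_mul]
    exact sg_mem _
  | zero => simp
  | add v w _ _ h1 h2 =>
    rw [mul_add]
    exact Submodule.add_mem _ h1 h2
  | smul r v _ h1 =>
    rw [mul_smul_comm]
    exact Submodule.smul_mem _ _ h1

theorem mul_mem_lat {z v : MonoidAlgebra ℂ G} (hz : CoefIn O z) (hv : v ∈ latL O a) : z * v ∈ latL O a := by
  have h1 : z = ∑ g, (⟨z.coeff g, hz g⟩ : O) • MonoidAlgebra.single g (1 : ℂ) := by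
    conv_lhs => rw [eq_sum_single z]
    refine Finset.sum_congr rfl fun g _ => ?_
    show _ = (z.coeff g : ℂ) • MonoidAlgebra.single g (1 : ℂ)
    rw [MonoidAlgebra.smul_single, smul_eq_mul, mul_one]
  rw [h1, Finset.sum_mul]
  refine Submodule.sum_mem _ fun g _ => ?_
  rw [smul_mul_assoc]
  exact Submodule.smul_mem _ _ (single_mul_mem g hv)

theorem a_mul_of_mem (hac : IsCentralElt a) (haa : a * a = a) {v : MonoidAlgebra ℂ G} (hv : v ∈ latL O a) :
    a * v = v := by
  induction hv using Submodule.span_induction with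
  | mem v h =>
    obtain ⟨h, rfl⟩ := h
    rw [← mul_assoc, isCentralElt_commute hac, mul_assoc, haa]
  | zero => simp
  | add v w _ _ h1 h2 => rw [mul_add, h1, h2]
  | smul r v _ h1 => rw [mul_smul_comm, h1]

theorem mul_a_of_mem (hac : IsCentralElt a) (haa : a * a = a) {v : MonoidAlgebra ℂ G} (hv : v ∈ latL O a) :
    v * a = v := by
  rw [← isCentralElt_commute hac]
  exact a_mul_of_mem hac haa hv

theorem rat_of_mem {d₀ : ℂ} (hrat : ∀ g, d₀ * a.coeff g ∈ O) {v : MonoidAlgebra ℂ G} (hv : v ∈ latL O a) (g : G) :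
    d₀ * v.coeff g ∈ O := by
  induction hv using Submodule.span_induction with
  | mem v h =>
    obtain ⟨h, rfl⟩ := h
    rw [MonoidAlgebra.coeff_single_mul_apply, one_mul]
    exact hrat _
  | zero => 
    rw [MonoidAlgebra.coeff_zero, Finsupp.zero_apply, mul_zero]
    exact O.zero_mem
  | add v w _ _ h1 h2 =>
    rw [MonoidAlgebra.coeff_add, Finsupp.add_apply, mul_add]
    exact O.add_mem h1 h2
  | smul r v _ h1 =>
    have h2 : (r • v).coeff g = (r : ℂ) * v.coeff g := rfl
    rw [h2, mul_left_comm]
    exact O.mul_mem r.2 h1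

instance lat_finite (a : MonoidAlgebra ℂ G) : Module.Finite O (latL O a) :=
  Module.Finite.span_of_finite O (Set.finite_range _)

/-- Left multiplication by an element with coefficients in `O`. -/
noncomputable def lmulL (a z : MonoidAlgebra ℂ G) (hz : CoefIn O z) : Module.End O (latL O a) where
  toFun v := ⟨z * v, mul_mem_lat hz v.2⟩
  map_add' v w := Subtype.ext (by simp [mul_add])
  map_smul' r v := Subtype.ext (by simp [mul_smul_comm])

@[simp] theorem lmulL_coe (z : MonoidAlgebra ℂ G) (hz : CoefIn O z) (v : latL O a) :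
    ((lmulL a z hz v : latL O a) : MonoidAlgebra ℂ G) = z * v := rfl

/-- The action of the group on the lattice. -/
noncomputable def rhoL (O : Subring ℂ) (a : MonoidAlgebra ℂ G) : G →* Module.End O (latL O a) where
  toFun g := lmulL a (MonoidAlgebra.single g (1 : ℂ)) (coefIn_single O g)
  map_one' := by
    ext v
    simp [← MonoidAlgebra.one_def]
  map_mul' g h := by
    ext v
    simp [← mul_assoc, MonoidAlgebra.single_mul_single]

@[simp] theorem rhoL_coe (g : G) (v : latL O a) :
    ((rhoL O a g v : latL O a) : MonoidAlgebra ℂ G) = MonoidAlgebra.single g (1 : ℂ) * v := rfl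

/-- Endomorphisms commuting with the group are right multiplications. -/
theorem exists_lambda (hac : IsCentralElt a) (haa : a * a = a) (F : Module.End O (latL O a))
    (hF : ∀ g, Commute F (rhoL O a g)) :
    ∃ μ ∈ latL O a, ∀ v : latL O a, ((F v : latL O a) : MonoidAlgebra ℂ G) = v * μ := by
  let a₀ : latL O a := ⟨a, a_mem⟩
  refine ⟨F a₀, (F a₀).2, ?_⟩
  have key : ∀ (v : MonoidAlgebra ℂ G) (hv : v ∈ latL O a), ((F ⟨v, hv⟩ : latL O a) : MonoidAlgebra ℂ G) =
      v * ((F a₀ : latL O a) : MonoidAlgebra ℂ G) := by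
    intro v hv
    induction hv using Submodule.span_induction with
    | mem v h =>
      obtain ⟨g, rfl⟩ := h
      have h1 : (⟨MonoidAlgebra.single g (1 : ℂ) * a, sg_mem g⟩ : latL O a) = rhoL O a g a₀ := rfl
      rw [h1]
      have h2 := congrArg (fun f : Module.End O (latL O a) => f a₀) (hF g).eq
      simp only [Module.End.mul_apply] at h2
      rw [h2, rhoL_coe, mul_assoc, a_mul_of_mem hac haa (F a₀).2]
    | zero =>
      rw [zero_mul]
      have : (⟨0, Submodule.zero_mem _⟩ : latL O a) = 0 := rfl
      rw [this, map_zero]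
      rfl
    | add v w hv' hw' h1 h2 =>
      have : (⟨v + w, Submodule.add_mem _ hv' hw'⟩ : latL O a) = ⟨v, hv'⟩ + ⟨w, hw'⟩ := rfl
      rw [add_mul, ← h1, ← h2, this, map_add]
      rfl
    | smul r v hv' h1 =>
      have : (⟨r • v, Submodule.smul_mem _ r hv'⟩ : latL O a) = r • ⟨v, hv'⟩ := rfl
      rw [smul_mul_assoc, ← h1, this, map_smul]
      rfl
  intro v
  exact key v v.2

theorem lat_pow_apply {F : Module.End O (latL O a)} {μ : MonoidAlgebra ℂ G}
    (hF : ∀ v : latL O a, ((F v : latL O a) : MonoidAlgebra ℂ G) = v * μ) (n : ℕ) (v : latL O a) :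
    (((F ^ n) v : latL O a) : MonoidAlgebra ℂ G) = v * μ ^ n := by
  induction n with
  | zero => simp
  | succ n ih => rw [pow_succ', Module.End.mul_apply, hF, ih, pow_succ, mul_assoc]

end Lat

end Cfsg.Agent.Lib.FF
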