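import Cfsg.Agent.Lib.FF.DefOneGroup

/-!
# The principal block for defect one: the data and the key theorem

The Gram data of the vectors `c_a` on the principal block together with the values on `⟨x⟩`, and the key
rank theorem expressed in these terms.
-/

set_option autoImplicit false
set_option linter.unusedSectionVars false
set_option linter.style.haveILetI false
set_option linter.unusedSimpArgs false
set_option linter.unnecessarySimpa false
set_option linter.unusedVariables false
set_option maxSynthPendingDepth 3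

open scoped ComplexConjugate
open Subgroup

namespace Cfsg.Agent.Lib.FF

open Cfsg (classInner IsCharacter IsIrrCharacter IrrCharacter IsClassFunction indFun
  extendByZero IsGeneralizedCharacter IsPModular principalBlock IsPPart centralizerPPrimeCore pPrimeCore)
open Cfsg.Agent.Lib.Char
open Cfsg.Agent.Lib.Block hiding tr
open Cfsg.Agent.Lib.SmallSimple.Star
open Cfsg.Agent.Lib.SmallSimple.BL
open Cfsg.Agent.Lib.SmallSimple.BB
open Cfsg.Agent.Lib.Char (detHom detHom_apply)

universe u

variable {G : Type u} [Group G] {p : ℕ} {x : G} [Fintype G] {M : Ideal Cfsg.AlgInt} [hp : Fact p.Prime]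

open Classical in
/-- The data of the principal block, with the values on `⟨x⟩`. -/
theorem block_data' [Fintype (zpowers x)] (hM : IsPModular p M) (hx : orderOf x = p)
    (hsyl : ¬ p ^ 2 ∣ Nat.card G) (e : ℕ)
    (hN : Nat.card (normalizer ((zpowers x : Subgroup G) : Set G)) =
      e * Nat.card (centralizer ({x} : Set G))) :
    ∃ (deg : IrrCharacter G → ℕ) (c : Nt x → IrrCharacter G → ℤ) (n : IrrCharacter G → ℤ),
      (∀ χ : IrrCharacter G, (χ : G → ℂ) 1 = deg χ ∧ deg χ ≠ 0 ∧ deg χ ∣ Nat.card G) ∧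
      (∀ (a : Nt x) (χ : IrrCharacter G), χ ∉ principalBlock M G → c a χ = 0) ∧
      (∀ a b : Nt x, ip (c a) (c b) = (e : ℤ) + if Rel a.1 b.1 then 1 else 0) ∧
      (∀ (a : Nt x) (g : G), ¬ p ∣ orderOf g → ∑ χ, (c a χ : ℂ) * (χ : G → ℂ) g = 0) ∧
      (∀ a : Nt x, c a (oneIrr G) = -1) ∧
      (∀ χ : IrrCharacter G, χ ∈ principalBlock M G → (deg χ : ℤ) = p * n χ + ∑ a : Nt x, c a χ) ∧
      (∀ a : Nt x, (Finset.univ.filter fun b : Nt x => Rel a.1 b.1).card = e) ∧
      (Finset.univ : Finset (Nt x)).card + 1 = p ∧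
      (∀ χ : IrrCharacter G, χ ∈ principalBlock M G → ∀ u : zpowers x, u ≠ 1 →
        (χ : G → ℂ) u = ∑ a : Nt x, (c a χ : ℂ) * (a.1 : zpowers x → ℂ) u) := by
  haveI : Fintype (normalizer ((zpowers x : Subgroup G) : Set G)) := Fintype.ofFinite _
  have hpr := hp.out
  have hp0 : (p : ℂ) ≠ 0 := by exact_mod_cast hpr.ne_zero
  have hC0 : (Nat.card (centralizer ({x} : Set G)) : ℂ) ≠ 0 := by
    exact_mod_cast Nat.card_pos.ne'
  haveI := isPModular_isPrime hM
  choose deg hdeg using fun χ : IrrCharacter G => IsIrrCharacter_degree_dvd χ.2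
  choose m hm using fun (χ : IrrCharacter G) (l : IrrCharacter (zpowers x)) =>
    classInner_isCharacter_nat (IsIrrCharacter.isCharacter l.2)
      (IsCharacter.restrict (zpowers x) (IsIrrCharacter.isCharacter χ.2))
  have hform : ∀ (a : Nt x) (χ : IrrCharacter G), ((m χ a.1 : ℂ) - (m χ triv : ℂ)) =
      (p : ℂ)⁻¹ * ∑ u : zpowers x, ((a.1 : zpowers x → ℂ) u - 1) * conj ((χ : G → ℂ) u) := by
    intro a χ
    rw [← hm χ a.1, ← hm χ triv, classInner_def, classInner_def, Nat.card_zpowers, hx, ← mul_sub,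
      ← Finset.sum_sub_distrib]
    congr 1
    refine Finset.sum_congr rfl fun u _ => ?_
    show _ - 1 * _ = _
    ring
  let c : Nt x → IrrCharacter G → ℤ := fun a χ =>
    if χ ∈ principalBlock M G then (m χ a.1 : ℤ) - m χ triv else 0
  have hcC : ∀ (a : Nt x) (χ : IrrCharacter G), (c a χ : ℂ) = if χ ∈ principalBlock M G then
      (p : ℂ)⁻¹ * ∑ u : zpowers x, ((a.1 : zpowers x → ℂ) u - 1) * conj ((χ : G → ℂ) u) else 0 := by
    intro a χ
    by_cases hχ : χ ∈ principalBlock M G
    · simp only [c, if_pos hχ]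
      rw [← hform]
      push_cast
      rfl
    · simp only [c, if_neg hχ]
      simp
  have hone_mem : oneIrr G ∈ principalBlock M G := mem_blockOf_self (oneIrr G)
  have hf1 : ∀ a : Nt x, (a.1 : zpowers x → ℂ) 1 - 1 = 0 := fun a => by
    rw [deg_one]
    ring
  -- the Gram matrix
  have hgramC : ∀ a b : Nt x, ((ip (c a) (c b) : ℤ) : ℂ) = (e : ℂ) + if Rel a.1 b.1 then 1 else 0 := by
    intro a b
    set f : zpowers x → ℂ := fun u => (a.1 : zpowers x → ℂ) u - 1 with hf
    set f' : zpowers x → ℂ := fun u => (b.1 : zpowers x → ℂ) u - 1 with hf'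
    have hF1 : f 1 = 0 := hf1 a
    have hF1' : f' 1 = 0 := hf1 b
    let S : zpowers x → zpowers x → ℂ := fun u v => ∑ χ : IrrCharacter G, (if χ ∈ principalBlock M G then
          conj ((χ : G → ℂ) u) * (χ : G → ℂ) v else 0)
    let T : zpowers x → zpowers x → ℂ := fun u v =>
      ((Finset.univ.filter fun g : normalizer ((zpowers x : Subgroup G) : Set G) => cj g u = v).card : ℂ)
    have h1 : ((ip (c a) (c b) : ℤ) : ℂ) = (p : ℂ)⁻¹ * (p : ℂ)⁻¹ * ∑ u : zpowers x, ∑ v : zpowers x,
        f u * conj (f' v) * S u v := by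
      have h10 : ∀ χ : IrrCharacter G, (c a χ : ℂ) * (c b χ : ℂ) = (p : ℂ)⁻¹ * (p : ℂ)⁻¹ *
          ∑ u : zpowers x, ∑ v : zpowers x, f u * conj (f' v) *
            (if χ ∈ principalBlock M G then conj ((χ : G → ℂ) u) * (χ : G → ℂ) v else 0) := by
        intro χ
        by_cases hχ : χ ∈ principalBlock M G
        · have hconj : (c b χ : ℂ) = conj (c b χ : ℂ) := (map_intCast (starRingEnd ℂ) _).symm
          rw [hconj, hcC a χ, hcC b χ, if_pos hχ, if_pos hχ, map_mul, map_inv₀, Complex.conj_natCast,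
            map_sum]
          simp only [if_pos hχ, map_mul, Complex.conj_conj, map_sub, map_one]
          rw [mul_mul_mul_comm, Finset.sum_mul_sum]
          congr 1
          refine Finset.sum_congr rfl fun u _ => Finset.sum_congr rfl fun v _ => ?_
          simp only [f, f', map_sub, map_one]
          ring
        · simp only [c, if_neg hχ]
          simp
      simp only [ip]
      push_cast
      rw [Finset.sum_congr rfl fun χ _ => h10 χ, ← Finset.mul_sum]
      congr 1
      rw [Finset.sum_comm]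
      refine Finset.sum_congr rfl fun u _ => ?_
      rw [Finset.sum_comm]
      refine Finset.sum_congr rfl fun v _ => ?_
      rw [← Finset.mul_sum]
    have h2 : (∑ u : zpowers x, ∑ v : zpowers x, f u * conj (f' v) * S u v) *
        (Nat.card (centralizer ({x} : Set G)) : ℂ) =
        (p : ℂ) * ∑ u : zpowers x, ∑ v : zpowers x, f u * conj (f' v) * T u v := by
      rw [Finset.sum_mul, Finset.mul_sum]
      refine Finset.sum_congr rfl fun u _ => ?_
      rw [Finset.sum_mul, Finset.mul_sum]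
      refine Finset.sum_congr rfl fun v _ => ?_
      by_cases hu : u = 1
      · subst hu
        rw [hF1]
        ring
      by_cases hv : v = 1
      · subst hv
        rw [hF1']
        simp
      have h' : S u v * (Nat.card (centralizer ({x} : Set G)) : ℂ) = (p : ℂ) * T u v := by
        convert orth_count hM hx hsyl u v hu hv
      rw [mul_assoc, h']
      ring
    have h3 : ∑ u : zpowers x, ∑ v : zpowers x, f u * conj (f' v) * T u v =
        ∑ g : normalizer ((zpowers x : Subgroup G) : Set G), ∑ u : zpowers x,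
          f u * conj (f' (cj g u)) := by
      rw [Finset.sum_comm (s := (Finset.univ : Finset (normalizer ((zpowers x : Subgroup G) : Set G))))]
      refine Finset.sum_congr rfl fun u _ => ?_
      have h30 : ∀ v : zpowers x, f u * conj (f' v) * T u v =
          ∑ g : normalizer ((zpowers x : Subgroup G) : Set G),
            if cj g u = v then f u * conj (f' v) else 0 := by
        intro v
        simp only [T]
        rw [Finset.card_filter]
        push_cast
        rw [Finset.mul_sum]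
        refine Finset.sum_congr rfl fun g _ => ?_
        split_ifs <;> simp
      rw [Finset.sum_congr rfl fun v _ => h30 v, Finset.sum_comm]
      refine Finset.sum_congr rfl fun g _ => ?_
      rw [Finset.sum_ite_eq]
      simp
    have h4 : ∑ g : normalizer ((zpowers x : Subgroup G) : Set G), ∑ u : zpowers x,
          f u * conj (f' (cj g u)) = (p : ℂ) * ∑ g : normalizer ((zpowers x : Subgroup G) : Set G),
            ((if (b.1 : zpowers x → ℂ) ∘ cj g = a.1 then 1 else 0) + 1) := by
      rw [Finset.mul_sum]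
      refine Finset.sum_congr rfl fun g _ => ?_
      rw [← inner_twist a b g, classInner_def, Nat.card_zpowers, hx, ← mul_assoc, mul_inv_cancel₀ hp0,
        one_mul]
      rfl
    have h5 : (∑ g : normalizer ((zpowers x : Subgroup G) : Set G),
            (((if (b.1 : zpowers x → ℂ) ∘ cj g = a.1 then 1 else 0) + 1) : ℂ)) =
        (if Rel a.1 b.1 then (Nat.card (centralizer ({x} : Set G)) : ℂ) else 0) +
          (e : ℂ) * (Nat.card (centralizer ({x} : Set G)) : ℂ) := by
      rw [Finset.sum_add_distrib, Finset.sum_const, Finset.card_univ, nsmul_eq_mul, mul_one,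
        Finset.sum_boole, Fintype.card_eq_nat_card, hN]
      congr 1
      · by_cases hr : Rel a.1 b.1
        · rw [if_pos hr, ← card_fiber' hpr hx a.1 b.1 (ne_tr_of_ne b.1 b.2) hr,
            Nat.card_eq_fintype_card, Fintype.card_subtype]
        · rw [if_neg hr]
          have : (Finset.univ.filter fun g : normalizer ((zpowers x : Subgroup G) : Set G) =>
              (b.1 : zpowers x → ℂ) ∘ cj g = a.1) = ∅ := by
            rw [Finset.filter_eq_empty_iff]
            intro g _ hg
            exact hr ⟨g, hg⟩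
          rw [this]
          simp
      · push_cast
        rfl
    rw [h3, h4, h5] at h2
    have h6 : ((ip (c a) (c b) : ℤ) : ℂ) * (Nat.card (centralizer ({x} : Set G)) : ℂ) =
        ((e : ℂ) + if Rel a.1 b.1 then 1 else 0) * (Nat.card (centralizer ({x} : Set G)) : ℂ) := by
      rw [h1, mul_assoc, h2]
      by_cases hr : Rel a.1 b.1
      · simp only [if_pos hr]
        field_simp
        ring
      · simp only [if_neg hr]
        field_simp
        ring
    exact mul_right_cancel₀ hC0 h6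
  have hgram : ∀ a b : Nt x, ip (c a) (c b) = (e : ℤ) + if Rel a.1 b.1 then 1 else 0 := by
    intro a b
    have := hgramC a b
    have h2 : ((ip (c a) (c b) : ℤ) : ℂ) = (((e : ℤ) + if Rel a.1 b.1 then 1 else 0 : ℤ) : ℂ) := by
      rw [this]
      push_cast
      rfl
    exact_mod_cast h2
  have hreg : ∀ (a : Nt x) (g : G), ¬ p ∣ orderOf g → ∑ χ, (c a χ : ℂ) * (χ : G → ℂ) g = 0 := by
    intro a g hg
    have h1 : ∀ χ : IrrCharacter G, (c a χ : ℂ) * (χ : G → ℂ) g = (p : ℂ)⁻¹ * ∑ u : zpowers x,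
        ((a.1 : zpowers x → ℂ) u - 1) * (if χ ∈ principalBlock M G then
          conj ((χ : G → ℂ) u) * (χ : G → ℂ) g else 0) := by
      intro χ
      by_cases hχ : χ ∈ principalBlock M G
      · rw [hcC, if_pos hχ, mul_assoc, Finset.sum_mul]
        congr 1
        refine Finset.sum_congr rfl fun u _ => ?_
        rw [if_pos hχ]
        ring
      · simp only [hcC, if_neg hχ]
        simp
    rw [Finset.sum_congr rfl fun χ _ => h1 χ, ← Finset.mul_sum, Finset.sum_comm]
    have h2 : ∀ u : zpowers x, ∑ χ : IrrCharacter G, ((a.1 : zpowers x → ℂ) u - 1) *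
        (if χ ∈ principalBlock M G then conj ((χ : G → ℂ) u) * (χ : G → ℂ) g else 0) = 0 := by
      intro u
      rw [← Finset.mul_sum]
      by_cases hu : u = 1
      · subst hu
        rw [hf1 a, zero_mul]
      · have hu1 : (u : G) ≠ 1 := fun h0 => hu (Subtype.ext h0)
        have := orth_regular (M := M) hM hx u.2 hu1 hg
        convert mul_zero _
    rw [Finset.sum_congr rfl fun u _ => h2 u]
    simp
  have hone : ∀ a : Nt x, c a (oneIrr G) = -1 := by
    intro a
    have h1 := hm (oneIrr G) a.1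
    have h2 := hm (oneIrr G) triv
    have h3 : classInner (a.1 : zpowers x → ℂ) (fun _ : zpowers x => (1 : ℂ)) = 0 := by
      rw [classInner_irr a.1.2 isIrrCharacter_one, if_neg (ne_tr_of_ne a.1 a.2)]
    have h4 : classInner (Cfsg.Agent.Lib.SmallSimple.BL.tr : zpowers x → ℂ) (fun _ : zpowers x => (1 : ℂ)) = 1 := by
      rw [classInner_irr isIrrCharacter_one isIrrCharacter_one, if_pos rfl]
    have h5 : (m (oneIrr G) a.1 : ℂ) = 0 := by rw [← h1]; exact h3
    have h6 : (m (oneIrr G) triv : ℂ) = 1 := by rw [← h2]; exact h4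
    have h7 : m (oneIrr G) a.1 = 0 := by exact_mod_cast h5
    have h8 : m (oneIrr G) triv = 1 := by exact_mod_cast h6
    simp only [c, if_pos hone_mem, h7, h8]
    norm_num
  have hcls : ∀ a : Nt x, (Finset.univ.filter fun b : Nt x => Rel a.1 b.1).card = e := by
    intro a
    have h1 := card_orbit' hpr hx a
    rw [hN] at h1
    have h2 := Nat.eq_of_mul_eq_mul_right Nat.card_pos h1
    rw [h2, Nat.card_eq_fintype_card, Fintype.card_subtype]
  have hnt : (Finset.univ : Finset (Nt x)).card + 1 = p := by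
    rw [Finset.card_univ, ← Nat.card_eq_fintype_card]
    exact card_nt' hpr hx
  have hdform : ∀ i : IrrCharacter G, i ∈ principalBlock M G →
      (deg i : ℤ) = p * m i triv + ∑ a : Nt x, c a i := by
    intro i hi
    have h1 := congrFun (classFunction_eq_sum (fun u : zpowers x => (i : G → ℂ) u)
      (IsCharacter.isClassFunction (IsCharacter.restrict (zpowers x)
        (IsIrrCharacter.isCharacter i.2)))) 1
    rw [Finset.sum_apply] at h1
    simp only [Pi.smul_apply, smul_eq_mul, deg_one, mul_one, coe_one] at h1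
    rw [(hdeg i).1] at h1
    have h2 : ∀ l : IrrCharacter (zpowers x),
        classInner (fun u : zpowers x => (i : G → ℂ) u) (l : zpowers x → ℂ) = (m i l : ℂ) := by
      intro l
      rw [← conj_classInner, hm i l, Complex.conj_natCast]
    simp only [h2] at h1
    have h3 : deg i = ∑ l : IrrCharacter (zpowers x), m i l := by exact_mod_cast h1
    rw [Fintype.sum_eq_add_sum_subtype_ne (fun l => m i l) triv] at h3
    have h4 : ∑ a : Nt x, c a i = (∑ a : Nt x, (m i a.1 : ℤ)) - (p - 1 : ℕ) * m i triv := by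
      simp only [c, if_pos hi]
      rw [Finset.sum_sub_distrib, Finset.sum_const, nsmul_eq_mul]
      congr 3
      omega
    rw [h4, h3]
    have hp1 : ((p - 1 : ℕ) : ℤ) = (p : ℤ) - 1 := by
      have := hpr.pos
      omega
    rw [hp1]
    push_cast
    ring
  have hval : ∀ i : IrrCharacter G, i ∈ principalBlock M G → ∀ u : zpowers x, u ≠ 1 →
      (i : G → ℂ) u = ∑ a : Nt x, (c a i : ℂ) * (a.1 : zpowers x → ℂ) u := by
    intro i hi u hu
    have h1 := congrFun (classFunction_eq_sum (fun u : zpowers x => (i : G → ℂ) u)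
      (IsCharacter.isClassFunction (IsCharacter.restrict (zpowers x)
        (IsIrrCharacter.isCharacter i.2)))) u
    rw [Finset.sum_apply] at h1
    simp only [Pi.smul_apply, smul_eq_mul] at h1
    have h2 : ∀ l : IrrCharacter (zpowers x),
        classInner (fun u : zpowers x => (i : G → ℂ) u) (l : zpowers x → ℂ) = (m i l : ℂ) := by
      intro l
      rw [← conj_classInner, hm i l, Complex.conj_natCast]
    simp only [h2] at h1
    have hcol : ∑ l : IrrCharacter (zpowers x), (l : zpowers x → ℂ) u = 0 := by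
      have h3 := second_orthogonality u (1 : zpowers x)
      have hnc : ¬ IsConj u (1 : zpowers x) := by
        intro hc
        exact hu (isConj_one_right.mp hc.symm)
      rw [if_neg hnc] at h3
      simpa [deg_one] using h3
    rw [Fintype.sum_eq_add_sum_subtype_ne (fun l : IrrCharacter (zpowers x) => (l : zpowers x → ℂ) u) triv] at hcol
    rw [Fintype.sum_eq_add_sum_subtype_ne (fun l : IrrCharacter (zpowers x) => (m i l : ℂ) * (l : zpowers x → ℂ) u) triv] at h1
    have h5 : ∀ a : Nt x, (c a i : ℂ) * (a.1 : zpowers x → ℂ) u =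
        (m i a.1 : ℂ) * (a.1 : zpowers x → ℂ) u - (m i triv : ℂ) * (a.1 : zpowers x → ℂ) u := by
      intro a
      simp only [c, if_pos hi]
      push_cast
      ring
    simp only [h5]
    rw [Finset.sum_sub_distrib, ← Finset.mul_sum]
    have h6 : (triv : IrrCharacter (zpowers x)).1 u = 1 := rfl
    have h7 : ∑ a : Nt x, (a.1 : zpowers x → ℂ) u = -1 := by
      have h8 : (1 : ℂ) + ∑ a : Nt x, (a.1 : zpowers x → ℂ) u = 0 := hcol
      linear_combination h8
    rw [h7]
    have h9 : (i : G → ℂ) u = (m i triv : ℂ) * 1 + ∑ a : Nt x, (m i a.1 : ℂ) * (a.1 : zpowers x → ℂ) u := h1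
    rw [h9]
    ring
  refine ⟨deg, c, fun χ => m χ triv, hdeg, ?_, hgram, hreg, hone, hdform, hcls, hnt, hval⟩
  intro a χ hχ
  simp only [c, if_neg hχ]
section KeyP

variable {K : Subgroup G} [Fintype (Nt x)]

theorem mem_core_of_compK (hK : CompK x p K) (hx : orderOf x = p) {u : G} (hu : u ∈ zpowers x) (hu1 : u ≠ 1)
    {c : G} (hc : c ∈ K) : c ∈ centralizerPPrimeCore p u := by
  have hpr := hp.out
  have hC := centralizer_eq hpr hx hu hu1
  have hKle : K ≤ centralizer ({u} : Set G) := by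
    intro c hc
    rw [hC, Subgroup.mem_centralizer_singleton_iff]
    exact (hK.comm c hc).eq
  refine ⟨⟨c, hKle hc⟩, ?_, rfl⟩
  have hle : K.subgroupOf (centralizer ({u} : Set G)) ≤ pPrimeCore p (centralizer ({u} : Set G)) := by
    refine le_sSup ⟨?_, ?_⟩
    · refine ⟨fun n hn g => ?_⟩
      rw [Subgroup.mem_subgroupOf] at hn ⊢
      have hg : (g : G) ∈ normalizer ((zpowers x : Subgroup G) : Set G) := by
        apply Cfsg.Agent.Lib.SmallSimple.BB.centralizer_le_normalizer
        rw [← hC]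
        exact g.2
      exact hK.conj_mem hg hn
    · have h1 : Nat.card (K.subgroupOf (centralizer ({u} : Set G))) = Nat.card K :=
        Nat.card_congr (Subgroup.subgroupOfEquivOfLe hKle).toEquiv
      rw [h1]
      exact ((Nat.Prime.coprime_iff_not_dvd hpr).mpr hK.ndvd).symm
  exact hle (Subgroup.mem_subgroupOf.mpr hc)

theorem tr_single_mul (φ : G → ℂ) (h : G) (z : MonoidAlgebra ℂ G) :
    Cfsg.Agent.Lib.Block.tr φ (MonoidAlgebra.single h (1 : ℂ) * z) = ∑ g, z.coeff g * φ (h * g) := by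
  unfold Cfsg.Agent.Lib.Block.tr
  simp only [MonoidAlgebra.coeff_single_mul_apply, one_mul]
  refine (Fintype.sum_equiv (Equiv.mulLeft h) (fun g => z.coeff g * φ (h * g)) _ (fun g => ?_)).symm
  simp

theorem tr_single_eK (φ : G → ℂ) (h : G) (hφ : ∀ c ∈ K, φ (h * c) = φ h) :
    Cfsg.Agent.Lib.Block.tr φ (MonoidAlgebra.single h (1 : ℂ) * eK K) = φ h := by
  classical
  rw [tr_single_mul]
  have h1 : ∀ g, (eK K).coeff g * φ (h * g) = if g ∈ K then (Nat.card K : ℂ)⁻¹ * φ h else 0 := by
    intro g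
    rw [coeff_eK]
    split_ifs with hg
    · rw [hφ g hg]
    · rw [zero_mul]
  simp only [h1]
  rw [← Finset.sum_filter, Finset.sum_const, nsmul_eq_mul]
  have h4 : (Finset.univ.filter fun g => g ∈ K).card = Nat.card K := by
    rw [Nat.card_eq_fintype_card, Fintype.card_subtype]
  rw [h4, ← mul_assoc, mul_inv_cancel₀ (by exact_mod_cast Nat.card_pos.ne'), one_mul]

theorem x_pow_mem (i : ℕ) : x ^ i ∈ zpowers x := Subgroup.pow_mem _ (mem_zpowers x) i

theorem tr_Nh (hM : IsPModular p M) (hK : CompK x p K) (hx : orderOf x = p) (χ : IrrCharacter G)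
    (hχ : χ ∈ principalBlock M G) :
    Cfsg.Agent.Lib.Block.tr (χ : G → ℂ) ((Nh x p - 1) * eK K) =
      ∑ i ∈ Finset.range (p - 1), (χ : G → ℂ) (x ^ (i + 1)) := by
  have hpr := hp.out
  have h1 : Nh x p - 1 = ∑ i ∈ Finset.range (p - 1), (MonoidAlgebra.single x (1 : ℂ)) ^ (i + 1) := by
    unfold Nh
    obtain ⟨q, hq⟩ : ∃ q, p = q + 1 := ⟨p - 1, by have := hpr.pos; omega⟩
    rw [hq, Finset.sum_range_succ']
    simp
  rw [h1, Finset.sum_mul, tr_sum]
  refine Finset.sum_congr rfl fun i hi => ?_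
  rw [MonoidAlgebra.single_pow, one_pow]
  apply tr_single_eK
  intro c hc
  have hlt : i + 1 < orderOf x := by
    rw [hx]
    have := Finset.mem_range.mp hi
    omega
  have hne : x ^ (i + 1) ≠ 1 := pow_ne_one_of_lt_orderOf (by omega) hlt
  have huo : orderOf (x ^ (i + 1)) = p := orderOf_of_mem hpr hx (x_pow_mem _) hne
  exact irr_mul_of_principal hM ⟨1, by rw [huo, pow_one]⟩ (mem_core_of_compK hK hx (x_pow_mem _) hne hc) χ hχ

theorem sum_nt (hx : orderOf x = p) (a : Nt x) :
    ∑ i ∈ Finset.range (p - 1), (a.1 : zpowers x → ℂ) ⟨x ^ (i + 1), x_pow_mem _⟩ = -1 := by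
  classical
  have hpr := hp.out
  haveI : Fintype (zpowers x) := Fintype.ofFinite _
  have h1 : classInner (a.1 : zpowers x → ℂ) (fun _ : zpowers x => (1 : ℂ)) = 0 :=
    classInner_irr_of_ne a.1.2 isIrrCharacter_one (ne_tr_of_ne a.1 a.2)
  rw [classInner_def] at h1
  have hc0 : ((Nat.card (zpowers x) : ℕ) : ℂ)⁻¹ ≠ 0 := by
    apply inv_ne_zero
    exact_mod_cast Nat.card_pos.ne'
  have h2 : ∑ u : zpowers x, (a.1 : zpowers x → ℂ) u = 0 := by
    have := (mul_eq_zero.mp h1).resolve_left hc0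
    simpa using this
  let f : G → ℂ := fun g => if h : g ∈ zpowers x then (a.1 : zpowers x → ℂ) ⟨g, h⟩ else 0
  have h3 : ∑ u : zpowers x, f (u : G) = ∑ i ∈ Finset.range (orderOf x), f (x ^ i) := sum_zpowers_eq x f
  have h4 : ∀ u : zpowers x, f (u : G) = (a.1 : zpowers x → ℂ) u := by
    intro u
    simp only [f, dif_pos u.2]
  simp only [h4] at h3
  rw [h2, hx] at h3
  obtain ⟨q, hq⟩ : ∃ q, p = q + 1 := ⟨p - 1, by have := hpr.pos; omega⟩
  rw [hq, Finset.sum_range_succ'] at h3
  have h5 : f (x ^ 0) = 1 := by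
    have : f (x ^ 0) = (a.1 : zpowers x → ℂ) 1 := by
      simp only [f, pow_zero, dif_pos (one_mem (zpowers x))]
      rfl
    rw [this, deg_one]
  rw [h5] at h3
  have h6 : q + 1 - 1 = q := rfl
  rw [hq, h6]
  have h7 : ∀ i, f (x ^ (i + 1)) = (a.1 : zpowers x → ℂ) ⟨x ^ (i + 1), x_pow_mem _⟩ := by
    intro i
    simp only [f, dif_pos (x_pow_mem (x := x) (i + 1))]
  simp only [h7] at h3
  linear_combination -h3

/-- The trace of the key element on the principal block. -/
theorem tr_Nh_val (hM : IsPModular p M) (hK : CompK x p K) (hx : orderOf x = p)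
    (c : Nt x → IrrCharacter G → ℤ)
    (hval : ∀ χ : IrrCharacter G, χ ∈ principalBlock M G → ∀ u : zpowers x, u ≠ 1 →
      (χ : G → ℂ) u = ∑ a : Nt x, (c a χ : ℂ) * (a.1 : zpowers x → ℂ) u) (χ : IrrCharacter G)
    (hχ : χ ∈ principalBlock M G) :
    Cfsg.Agent.Lib.Block.tr (χ : G → ℂ) ((Nh x p - 1) * eK K) = - ∑ a : Nt x, (c a χ : ℂ) := by
  have hpr := hp.out
  rw [tr_Nh hM hK hx χ hχ]
  have h1 : ∀ i ∈ Finset.range (p - 1), (χ : G → ℂ) (x ^ (i + 1)) =
      ∑ a : Nt x, (c a χ : ℂ) * (a.1 : zpowers x → ℂ) ⟨x ^ (i + 1), x_pow_mem _⟩ := by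
    intro i hi
    have hlt : i + 1 < orderOf x := by
      rw [hx]
      have := Finset.mem_range.mp hi
      omega
    have hne : x ^ (i + 1) ≠ 1 := pow_ne_one_of_lt_orderOf (by omega) hlt
    exact hval χ hχ ⟨x ^ (i + 1), x_pow_mem _⟩ (fun h => hne (congrArg Subtype.val h))
  rw [Finset.sum_congr rfl h1, Finset.sum_comm]
  rw [← Finset.sum_neg_distrib]
  refine Finset.sum_congr rfl fun a _ => ?_
  rw [← Finset.mul_sum, sum_nt hx a]
  ring

/-- **The key theorem on the principal block.** -/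
theorem key_principal {O : Subring ℂ} (hM : IsPModular p M) (hO : UnramRing M p O) (hx : orderOf x = p)
    (hsyl : ¬ p ^ 2 ∣ Nat.card G) (Ω : Set (IrrCharacter G)) [DecidablePred fun χ => χ ∈ Ω]
    (hΩ : Ω ⊆ principalBlock M G)
    (c : Nt x → IrrCharacter G → ℤ)
    (hval : ∀ χ : IrrCharacter G, χ ∈ principalBlock M G → ∀ u : zpowers x, u ≠ 1 →
      (χ : G → ℂ) u = ∑ a : Nt x, (c a χ : ℂ) * (a.1 : zpowers x → ℂ) u)
    (hrat : ∀ g, (∑ χ : IrrCharacter G, if χ ∈ Ω then (χ : G → ℂ) 1 * conj ((χ : G → ℂ) g) else 0) ∈ O)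
    (hne : (∑ χ : IrrCharacter G, if χ ∈ Ω then (χ : G → ℂ) 1 * ∑ a : Nt x, (c a χ : ℂ) else 0) ≠ 0) :
    ∃ r : IrrCharacter G → ℕ, (∀ χ, χ ∉ Ω → r χ = 0) ∧
      ((∑ χ : IrrCharacter G, (r χ : ℂ) * ∑ a : Nt x, (c a χ : ℂ)) = (p : ℂ) - 1 ∨
        (∑ χ : IrrCharacter G, (r χ : ℂ) * ∑ a : Nt x, (c a χ : ℂ)) = -((p : ℂ) - 1)) := by
  obtain ⟨K, hK⟩ := exists_compK (p := p) hx hsyl
  obtain ⟨t₀, s, s', j₀, H⟩ := exists_edata hM hO hx hK
  have htr := tr_Nh_val (K := K) hM hK hx c hval
  have hcardne : (Nat.card G : ℂ) ≠ 0 := by exact_mod_cast Nat.card_pos.ne'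
  have hp2 : ¬ p ^ 2 ∣ Fintype.card G := by rwa [← Nat.card_eq_fintype_card]
  have hrat' : ∀ g, (Nat.card G : ℂ) * (blockElt Ω).coeff g ∈ O := by
    intro g
    rw [coeff_blockElt, blockCoeff_eq_sum, mul_inv_cancel_left₀ hcardne]
    convert hrat g
  have hne' : ∑ χ : IrrCharacter G, Cfsg.Agent.Lib.Block.tr (χ : G → ℂ) (blockElt Ω) *
      Cfsg.Agent.Lib.Block.tr (χ : G → ℂ) ((Nh x p - 1) * eK K) ≠ 0 := by
    have h1 : ∀ χ : IrrCharacter G, Cfsg.Agent.Lib.Block.tr (χ : G → ℂ) (blockElt Ω) *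
        Cfsg.Agent.Lib.Block.tr (χ : G → ℂ) ((Nh x p - 1) * eK K) =
        - (if χ ∈ Ω then (χ : G → ℂ) 1 * ∑ a : Nt x, (c a χ : ℂ) else 0) := by
      intro χ
      rw [tr_blockElt]
      by_cases hχ : χ ∈ Ω
      · rw [if_pos hχ, if_pos hχ, htr χ (hΩ hχ)]
        ring
      · rw [if_neg hχ, if_neg hχ]
        simp
    simp only [h1]
    rw [Finset.sum_neg_distrib]
    exact neg_ne_zero.mpr hne
  obtain ⟨r, hr0, hr⟩ := H.key_rank hM hO Ω _ hcardne hrat' hp2 hne'
  refine ⟨r, hr0, ?_⟩
  have h2 : ∀ χ : IrrCharacter G, Cfsg.Agent.Lib.Block.tr (χ : G → ℂ) ((Nh x p - 1) * eK K) * (r χ : ℂ) =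
      - ((r χ : ℂ) * ∑ a : Nt x, (c a χ : ℂ)) := by
    intro χ
    by_cases hχ : χ ∈ Ω
    · rw [htr χ (hΩ hχ)]
      ring
    · rw [hr0 χ hχ]
      simp
  simp only [h2] at hr
  rw [Finset.sum_neg_distrib] at hr
  rcases hr with h | h
  · right
    linear_combination -h
  · left
    linear_combination -h

/-- A singular element agrees on the principal block with a non-trivial element of `⟨x⟩`. -/
theorem exists_singular (hM : IsPModular p M) (hx : orderOf x = p) (hsyl : ¬ p ^ 2 ∣ Nat.card G) (g : G)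
    (hg : p ∣ orderOf g) :
    ∃ u : zpowers x, u ≠ 1 ∧ ∀ χ : IrrCharacter G, χ ∈ principalBlock M G → (χ : G → ℂ) g = (χ : G → ℂ) u := by
  classical
  have hpr := hp.out
  obtain ⟨K, hK⟩ := exists_compK (p := p) hx hsyl
  obtain ⟨a, y, h1, hc, ⟨k, hk⟩, hy, -, -⟩ := exists_jordan (p := p) g
  have ha1 : a ≠ 1 := by
    rintro rfl
    rw [one_mul] at h1
    rw [← h1] at hg
    exact hy hg
  have hdvdcard : p ∣ Nat.card G := by
    rw [← hx]
    exact orderOf_dvd_natCard x
  have hfact : (Nat.card G).factorization p = 1 := by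
    have h2 : 1 ≤ (Nat.card G).factorization p :=
      (hpr.dvd_iff_one_le_factorization Nat.card_pos.ne').mp hdvdcard
    have h3 : ¬ 2 ≤ (Nat.card G).factorization p := fun h =>
      hsyl ((hpr.pow_dvd_iff_le_factorization Nat.card_pos.ne').mpr h)
    omega
  let S : Sylow p G := Sylow.ofCard (zpowers x) (by rw [Nat.card_zpowers, hx, hfact, pow_one])
  obtain ⟨d, hd⟩ := exists_conj_elt_into_sylow S ⟨k, hk⟩
  have hd' : d * a * d⁻¹ ∈ zpowers x := hd
  have hu1 : d * a * d⁻¹ ≠ 1 := by
    intro h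
    apply ha1
    have : a = d⁻¹ * (d * a * d⁻¹) * d := by group
    rw [this, h]
    group
  refine ⟨⟨d * a * d⁻¹, hd'⟩, fun h => hu1 (congrArg Subtype.val h), ?_⟩
  intro χ hχ
  have huo := orderOf_of_mem hpr hx hd' hu1
  have hcls := IsCharacter.isClassFunction (IsIrrCharacter.isCharacter χ.2)
  have h2 : (χ : G → ℂ) g = (χ : G → ℂ) (d * a * d⁻¹ * (d * y * d⁻¹)) := by
    have h3 : d * a * d⁻¹ * (d * y * d⁻¹) = d * g * d⁻¹ := by
      rw [← h1]
      group
    rw [h3]
    exact (hcls g d).symm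
  rw [h2]
  have hyc : Commute (d * y * d⁻¹) x := by
    have h3 : Commute (d * y * d⁻¹) (d * a * d⁻¹) := by
      show d * y * d⁻¹ * (d * a * d⁻¹) = d * a * d⁻¹ * (d * y * d⁻¹)
      have h4 : y * a = a * y := hc.symm.eq
      calc d * y * d⁻¹ * (d * a * d⁻¹) = d * (y * a) * d⁻¹ := by group
        _ = d * (a * y) * d⁻¹ := by rw [h4]
        _ = _ := by group
    have hz := zp_gen hpr hx hd' hu1
    have hxm : x ∈ zpowers (d * a * d⁻¹) := by
      rw [hz]
      exact mem_zpowers x
    obtain ⟨m, hm⟩ := Subgroup.mem_zpowers_iff.mp hxm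
    rw [← hm]
    exact h3.zpow_right m
  have hyK : d * y * d⁻¹ ∈ K := hK.reg _ hyc (by rwa [orderOf_conj])
  exact irr_mul_of_principal hM ⟨1, by rw [huo, pow_one]⟩ (mem_core_of_compK hK hx hd' hu1 hyK) χ hχ

/-- Regular values lie in an unramified ring. -/
theorem exists_unram_G (hM : IsPModular p M) (hx : orderOf x = p) (hsyl : ¬ p ^ 2 ∣ Nat.card G) :
    ∃ O : Subring ℂ, UnramRing M p O ∧ ∀ (χ : IrrCharacter G) (g : G), ¬ p ∣ orderOf g → (χ : G → ℂ) g ∈ O := by
  classical
  have hpr := hp.out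
  have hdvdcard : p ∣ Nat.card G := by
    rw [← hx]
    exact orderOf_dvd_natCard x
  obtain ⟨n, hn⟩ := hdvdcard
  have hn0 : 0 < n := by
    rcases Nat.eq_zero_or_pos n with h | h
    · rw [h, mul_zero] at hn
      exact absurd hn Nat.card_pos.ne'
    · exact h
  have hpn : ¬ p ∣ n := by
    intro h
    apply hsyl
    rw [hn, pow_two]
    exact Nat.mul_dvd_mul_left p h
  obtain ⟨O, hO, hroots⟩ := exists_unram hM hn0 hpn
  refine ⟨O, hO, ?_⟩
  intro χ g hg
  have hdiv : orderOf g ∣ n := by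
    have h1 : orderOf g ∣ p * n := by
      rw [← hn]
      exact orderOf_dvd_natCard g
    have hcop : Nat.Coprime (orderOf g) p := ((Nat.Prime.coprime_iff_not_dvd hpr).mpr hg).symm
    exact hcop.dvd_of_dvd_mul_left h1
  obtain ⟨m, ρ, hρ, hχ⟩ := χ.2
  obtain ⟨ζ, hζ, hsum⟩ := character_eq_sum_roots ρ g (isOfFinOrder_of_finite g)
  have h1 := hsum 1
  rw [zpow_one] at h1
  have h2 : (χ : G → ℂ) g = ρ.character g := by
    rw [hχ]
  rw [h2, h1]
  refine O.sum_mem fun i _ => ?_
  rw [zpow_one]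
  apply hroots
  obtain ⟨w, hw⟩ := hdiv
  rw [hw, pow_mul, hζ, one_pow]

end KeyP

end Cfsg.Agent.Lib.FF
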