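import Cfsg.Agent.Lib.SmallSimple.BrauerB

/-!
# The star lemma for the lattice of a block of defect one

Vectors with Gram matrix `E + [a ~ b]` and orthogonal to a positive vector have the shape
`u + ε δ_{ψ a}` with `ψ a = ψ b` exactly when `a ~ b`.
-/

set_option autoImplicit false
set_option linter.unusedSectionVars false
set_option linter.unusedVariables false

namespace Cfsg.Agent.Lib.FF

open Cfsg.Agent.Lib.SmallSimple.Star

section Star

variable {I A : Type*} [Fintype I] [DecidableEq I]

/-- A vector of norm two orthogonal to a positive vector is a difference of two basis vectors. -/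
theorem norm_two_diff (f d : I → ℤ) (hd : ∀ i, 0 < d i) (h2 : ip f f = 2) (h0 : ip f d = 0) :
    ∃ X Y : I, X ≠ Y ∧ f = dl X - dl Y := by
  classical
  unfold ip at h2 h0
  set T := Finset.univ.filter fun i => f i ≠ 0 with hT
  have hzero : ∀ i, i ∉ T → f i = 0 := by
    intro i hi
    by_contra h
    exact hi (Finset.mem_filter.mpr ⟨Finset.mem_univ _, h⟩)
  have hsum : ∑ i ∈ T, f i * f i = 2 := by
    rw [← h2]
    apply Finset.sum_subset (Finset.subset_univ _)
    intro i _ hi
    rw [hzero i hi, mul_zero]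
  have hsum0 : ∑ i ∈ T, f i * d i = 0 := by
    rw [← h0]
    apply Finset.sum_subset (Finset.subset_univ _)
    intro i _ hi
    rw [hzero i hi, zero_mul]
  have hone : ∀ i ∈ T, 1 ≤ f i * f i := by
    intro i hi
    have h1 : f i ≠ 0 := (Finset.mem_filter.mp hi).2
    have : 0 < f i * f i := mul_self_pos.mpr h1
    omega
  have hcard : T.card ≤ 2 := by
    have : ∑ i ∈ T, (1 : ℤ) ≤ ∑ i ∈ T, f i * f i := Finset.sum_le_sum hone
    rw [hsum] at this
    simp only [Finset.sum_const, nsmul_eq_mul, mul_one] at this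
    exact_mod_cast this
  have hcard2 : T.card = 2 := by
    by_contra hne
    have h1 : T.card = 0 ∨ T.card = 1 := by omega
    rcases h1 with h1 | h1
    · rw [Finset.card_eq_zero] at h1
      rw [h1] at hsum
      simp at hsum
    · obtain ⟨a, ha⟩ := Finset.card_eq_one.mp h1
      rw [ha] at hsum
      simp only [Finset.sum_singleton] at hsum
      have h3 : f a * f a = 2 := hsum
      have h4 : -2 < f a := by nlinarith
      have h5 : f a < 2 := by nlinarith
      interval_cases (f a) <;> omega
  obtain ⟨a, b, hab, hTab⟩ := Finset.card_eq_two.mp hcard2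
  rw [hTab, Finset.sum_pair hab] at hsum hsum0
  have ha : f a ≠ 0 := (Finset.mem_filter.mp (by rw [hTab]; simp : a ∈ T)).2
  have hb : f b ≠ 0 := (Finset.mem_filter.mp (by rw [hTab]; simp : b ∈ T)).2
  have hpa : f a * f a = 1 := by
    have h1 : 1 ≤ f a * f a := by
      have : 0 < f a * f a := mul_self_pos.mpr ha
      omega
    have h2' : 1 ≤ f b * f b := by
      have : 0 < f b * f b := mul_self_pos.mpr hb
      omega
    omega
  have hpb : f b * f b = 1 := by omega
  have hfa : f a = 1 ∨ f a = -1 := by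
    have h1 : (f a - 1) * (f a + 1) = 0 := by linear_combination hpa
    rcases mul_eq_zero.mp h1 with h | h
    · left; omega
    · right; omega
  have hfb : f b = 1 ∨ f b = -1 := by
    have h1 : (f b - 1) * (f b + 1) = 0 := by linear_combination hpb
    rcases mul_eq_zero.mp h1 with h | h
    · left; omega
    · right; omega
  have hda := hd a
  have hdb := hd b
  have hform : ∀ i, i ≠ a → i ≠ b → f i = 0 := by
    intro i h1 h2'
    apply hzero
    rw [hTab]
    simp [h1, h2']
  rcases hfa with h1 | h1 <;> rcases hfb with h2' | h2'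
  · rw [h1, h2'] at hsum0
    omega
  · refine ⟨a, b, hab, ?_⟩
    funext i
    simp only [Pi.sub_apply, dl]
    by_cases hia : i = a
    · subst hia
      simp [h1, hab]
    · by_cases hib : i = b
      · subst hib
        simp [h2', hia]
      · simp [hform i hia hib, hia, hib]
  · refine ⟨b, a, hab.symm, ?_⟩
    funext i
    simp only [Pi.sub_apply, dl]
    by_cases hia : i = a
    · subst hia
      simp [h1, hab]
    · by_cases hib : i = b
      · subst hib
        simp [h2', hia]
      · simp [hform i hia hib, hia, hib]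
  · rw [h1, h2'] at hsum0
    omega

/-- Inner products of differences of basis vectors. -/
theorem ip_dl_diff (X Y X' Y' : I) : ip (dl X - dl Y) (dl X' - dl Y') =
    ((if X = X' then 1 else 0) - (if X = Y' then 1 else 0)) - ((if Y = X' then 1 else 0) - (if Y = Y' then 1 else 0)) := by
  rw [ip_sub_left, ip_sub_right, ip_sub_right, ip_dl_dl, ip_dl_dl, ip_dl_dl, ip_dl_dl]

/-- The shape of the vectors of a common form. -/
theorem star_common [Fintype A] (c : A → I → ℤ) (r : A → A → Prop) (hrefl : ∀ a, r a a) (hsymm : ∀ a b, r a b → r b a)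
    (htrans : ∀ a b d, r a b → r b d → r a d) (hsame : ∀ a b, r a b → c a = c b) (a₀ : A) (X₀ : I) (σ : ℤ)
    (hσ : σ = 1 ∨ σ = -1) (Q : A → I) (hQ : ∀ a, ¬ r a₀ a → Q a ≠ X₀ ∧ c a - c a₀ = σ • (dl X₀ - dl (Q a)))
    (hQr : ∀ a b, ¬ r a₀ a → ¬ r a₀ b → (Q a = Q b ↔ r a b)) [DecidableRel r] :
    ∃ (u : I → ℤ) (ε : ℤ) (ψ : A → I), (ε = 1 ∨ ε = -1) ∧ (∀ a, c a = u + ε • dl (ψ a)) ∧
      ∀ a b, ψ a = ψ b ↔ r a b := by
  refine ⟨c a₀ + σ • dl X₀, -σ, fun a => if r a₀ a then X₀ else Q a, ?_, ?_, ?_⟩
  · rcases hσ with h | h <;> simp [h]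
  · intro a
    by_cases h : r a₀ a
    · simp only [if_pos h, ← hsame _ _ h]
      funext i
      simp
    · simp only [if_neg h]
      have h1 := (hQ a h).2
      have h2 : c a = c a₀ + σ • (dl X₀ - dl (Q a)) := by
        rw [← h1]
        ring
      rw [h2]
      funext i
      simp only [Pi.add_apply, Pi.smul_apply, Pi.sub_apply, smul_eq_mul]
      ring
  · intro a b
    by_cases ha : r a₀ a <;> by_cases hb : r a₀ b
    · simp only [if_pos ha, if_pos hb, true_iff]
      exact htrans _ _ _ (hsymm _ _ ha) hb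
    · simp only [if_pos ha, if_neg hb]
      constructor
      · intro h
        exact absurd h.symm (hQ b hb).1
      · intro h
        exact absurd (htrans _ _ _ ha h) hb
    · simp only [if_neg ha, if_pos hb]
      constructor
      · intro h
        exact absurd h (hQ a ha).1
      · intro h
        exact absurd (htrans _ _ _ hb (hsymm _ _ h)) ha
    · simp only [if_neg ha, if_neg hb]
      exact hQr a b ha hb

/-- **The star lemma.** -/
theorem star_gen [Fintype A] (c : A → I → ℤ) (d : I → ℤ) (r : A → A → Prop) [DecidableRel r] (E : ℤ)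
    (hd : ∀ i, 0 < d i) (hdeg : ∀ a, ip (c a) d = 0)
    (hgram : ∀ a b, ip (c a) (c b) = E + if r a b then 1 else 0) (hrefl : ∀ a, r a a)
    (hsymm : ∀ a b, r a b → r b a) (htrans : ∀ a b f, r a b → r b f → r a f) (a₀ a₁ : A) (h01 : ¬ r a₀ a₁) :
    ∃ (u : I → ℤ) (ε : ℤ) (ψ : A → I), (ε = 1 ∨ ε = -1) ∧ (∀ a, c a = u + ε • dl (ψ a)) ∧
      ∀ a b, ψ a = ψ b ↔ r a b := by
  classical
  have hnorm : ∀ a, ip (c a) (c a) = E + 1 := fun a => by
    rw [hgram, if_pos (hrefl a)]
  have hsame : ∀ a b, r a b → c a = c b := by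
    intro a b hab
    have : ip (c a - c b) (c a - c b) = 0 := by
      rw [ip_sub_left, ip_sub_right, ip_sub_right, hnorm, hnorm, ip_comm (c b) (c a), hgram a b,
        if_pos hab]
      ring
    exact sub_eq_zero.mp (eq_zero_of_ip_self _ this)
  have hgram' : ∀ a b, ¬ r a b → ip (c a) (c b) = E := by
    intro a b h
    rw [hgram, if_neg h, add_zero]
  have hex : ∀ a, ¬ r a₀ a → ∃ X Y : I, X ≠ Y ∧ c a - c a₀ = dl X - dl Y := by
    intro a ha
    apply norm_two_diff _ d hd
    · have h9 : ip (c a) (c a₀) = E := by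
        rw [ip_comm]
        exact hgram' a₀ a ha
      rw [ip_sub_left, ip_sub_right, ip_sub_right, hnorm, hnorm, ip_comm (c a₀) (c a), h9]
      ring
    · rw [ip_sub_left, hdeg, hdeg, sub_zero]
  obtain ⟨X₁, Y₁, -, -⟩ := hex a₁ h01
  have hex' : ∀ a, ∃ X Y : I, ¬ r a₀ a → X ≠ Y ∧ c a - c a₀ = dl X - dl Y := by
    intro a
    by_cases ha : r a₀ a
    · exact ⟨X₁, Y₁, fun h => absurd ha h⟩
    · obtain ⟨X, Y, h⟩ := hex a ha
      exact ⟨X, Y, fun _ => h⟩
  choose P Q hPQ using hex'
  have hipw : ∀ a b, ¬ r a₀ a → ¬ r a₀ b → ip (dl (P a) - dl (Q a)) (dl (P b) - dl (Q b)) =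
      1 + if r a b then 1 else 0 := by
    intro a b ha hb
    rw [← (hPQ a ha).2, ← (hPQ b hb).2, ip_sub_left, ip_sub_right, ip_sub_right, hgram a b, hgram' a₀ b hb,
      hnorm a₀]
    have : ip (c a) (c a₀) = E := by
      rw [ip_comm]
      exact hgram' a₀ a ha
    rw [this]
    ring
  have htri : ∀ a b, ¬ r a₀ a → ¬ r a₀ b → ¬ r a b →
      (P a = P b ∧ Q a ≠ Q b) ∨ (P a ≠ P b ∧ Q a = Q b) := by
    intro a b ha hb hab
    have h1 := hipw a b ha hb
    rw [ip_dl_diff, if_neg hab] at h1
    have hna := (hPQ a ha).1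
    have hnb := (hPQ b hb).1
    by_cases h2 : P a = P b
    · have h3 : P a ≠ Q b := fun h => hnb (h2.symm.trans h)
      have h4 : Q a ≠ P b := fun h => hna (h2.trans h.symm)
      rw [if_pos h2, if_neg h3, if_neg h4] at h1
      by_cases h5 : Q a = Q b
      · rw [if_pos h5] at h1
        omega
      · left
        exact ⟨h2, h5⟩
    · rw [if_neg h2] at h1
      by_cases h5 : Q a = Q b
      · right
        exact ⟨h2, h5⟩
      · rw [if_neg h5] at h1
        exfalso
        split_ifs at h1 <;> omega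
  have hsm : ∀ a b, ¬ r a₀ a → ¬ r a₀ b → r a b → P a = P b ∧ Q a = Q b := by
    intro a b ha hb hab
    have h1 := hipw a b ha hb
    rw [ip_dl_diff, if_pos hab] at h1
    constructor
    · by_contra h2
      rw [if_neg h2] at h1
      split_ifs at h1 <;> omega
    · by_contra h2
      rw [if_neg h2] at h1
      split_ifs at h1 <;> omega
  by_cases hPc : ∀ a b, ¬ r a₀ a → ¬ r a₀ b → P a = P b
  · refine star_common c r hrefl hsymm htrans hsame a₀ (P a₁) 1 (Or.inl rfl) Q ?_ ?_
    · intro a ha
      refine ⟨?_, ?_⟩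
      · rw [← hPc a a₁ ha h01]
        exact (hPQ a ha).1.symm
      · rw [one_smul, (hPQ a ha).2, hPc a a₁ ha h01]
    · intro a b ha hb
      constructor
      · intro h
        by_contra hab
        rcases htri a b ha hb hab with ⟨-, h2⟩ | ⟨h2, -⟩
        · exact h2 h
        · exact h2 (hPc a b ha hb)
      · intro h
        exact (hsm a b ha hb h).2
  · push Not at hPc
    obtain ⟨a, b, ha, hb, hab⟩ := hPc
    have hnr : ¬ r a b := fun h => hab (hsm a b ha hb h).1
    have hQab : Q a = Q b := by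
      rcases htri a b ha hb hnr with ⟨h2, -⟩ | ⟨-, h2⟩
      · exact absurd h2 hab
      · exact h2
    have hQc : ∀ f, ¬ r a₀ f → Q f = Q a := by
      intro f hf
      by_cases h1 : r a f
      · exact (hsm a f ha hf h1).2.symm
      by_cases h2 : r b f
      · rw [hQab]
        exact (hsm b f hb hf h2).2.symm
      rcases htri a f ha hf h1 with ⟨h3, h4⟩ | ⟨-, h4⟩
      · rcases htri b f hb hf h2 with ⟨h5, -⟩ | ⟨-, h5⟩
        · exact absurd (h3.trans h5.symm) hab
        · exact h5.symm.trans hQab.symm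
      · exact h4.symm
    refine star_common c r hrefl hsymm htrans hsame a₀ (Q a) (-1) (Or.inr rfl) P ?_ ?_
    · intro f hf
      refine ⟨?_, ?_⟩
      · rw [← hQc f hf]
        exact (hPQ f hf).1
      · rw [(hPQ f hf).2, hQc f hf]
        funext i
        simp
    · intro f g hf hg
      constructor
      · intro h
        by_contra hfg
        rcases htri f g hf hg hfg with ⟨-, h2⟩ | ⟨h2, -⟩
        · exact h2 ((hQc f hf).trans (hQc g hg).symm)
        · exact h2 h
      · intro h
        exact (hsm f g hf hg h).1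

end Star

section Form

variable {I A : Type*} [Fintype I] [DecidableEq I]

theorem ip_smul_left' (ε : ℤ) (f g : I → ℤ) : ip (ε • f) g = ε * ip f g := by
  simp [ip, Finset.mul_sum, mul_assoc]

theorem ip_smul_right' (ε : ℤ) (f g : I → ℤ) : ip f (ε • g) = ε * ip f g := by
  simp only [ip, Finset.mul_sum, Pi.smul_apply, smul_eq_mul]
  exact Finset.sum_congr rfl fun i _ => by ring

theorem ip_form (u : I → ℤ) (ε : ℤ) (X Y : I) :
    ip (u + ε • dl X) (u + ε • dl Y) = ip u u + ε * u Y + ε * u X + ε * ε * (if X = Y then 1 else 0) := by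
  rw [ip_add_left, ip_add_right, ip_add_right, ip_smul_left', ip_smul_left', ip_smul_right', ip_smul_right',
    ip_dl_right, ip_dl_left, ip_dl_dl]
  ring

/-- The form of the vectors. -/
structure Form (c : A → I → ℤ) (r : A → A → Prop) (u : I → ℤ) (ε : ℤ) (ψ : A → I) : Prop where
  hε : ε ≠ 0
  hform : ∀ a, c a = u + ε • dl (ψ a)
  hψ : ∀ a b, ψ a = ψ b ↔ r a b

variable {c : A → I → ℤ} {r : A → A → Prop} {u : I → ℤ} {ε : ℤ} {ψ : A → I}

namespace Form

theorem val (F : Form c r u ε ψ) (a : A) (χ : I) : c a χ = u χ + ε * if χ = ψ a then 1 else 0 := by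
  rw [F.hform a]
  simp [dl]

theorem v_const (F : Form c r u ε ψ) {E : ℤ} (hgram : ∀ a, ip (c a) (c a) = E) (a b : A) :
    u (ψ a) = u (ψ b) := by
  have h1 := hgram a
  have h2 := hgram b
  rw [F.hform a, ip_form, if_pos rfl] at h1
  rw [F.hform b, ip_form, if_pos rfl] at h2
  have h3 : 2 * ε * u (ψ a) = 2 * ε * u (ψ b) := by linarith
  exact mul_left_cancel₀ (mul_ne_zero two_ne_zero F.hε) h3

theorem deg_const (F : Form c r u ε ψ) {d : I → ℤ} (hdd : ∀ a, ip (c a) d = 0) (a b : A) :
    d (ψ a) = d (ψ b) := by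
  have h1 := hdd a
  have h2 := hdd b
  rw [F.hform a, ip_add_left, ip_smul_left', ip_dl_left] at h1
  rw [F.hform b, ip_add_left, ip_smul_left', ip_dl_left] at h2
  have h3 : ε * d (ψ a) = ε * d (ψ b) := by linarith
  exact mul_left_cancel₀ F.hε h3

theorem norm_eq (F : Form c r u ε ψ) (a : A) : ip (c a) (c a) = ip u u + 2 * ε * u (ψ a) + ε * ε := by
  rw [F.hform a, ip_form, if_pos rfl]
  ring

variable [Fintype A]

theorem card_image (F : Form c r u ε ψ) [DecidableRel r] {E : ℕ} (hcls : ∀ a, (Finset.univ.filter fun b => r a b).card = E) :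
    (Finset.univ.image ψ).card * E = Fintype.card A := by
  classical
  have h1 := Finset.card_eq_sum_card_image ψ (Finset.univ : Finset A)
  rw [Finset.card_univ] at h1
  rw [h1, ← smul_eq_mul, ← Finset.sum_const]
  refine Finset.sum_congr rfl fun y hy => ?_
  obtain ⟨a, -, rfl⟩ := Finset.mem_image.mp hy
  rw [← hcls a]
  congr 1
  ext b
  simp only [Finset.mem_filter, Finset.mem_univ, true_and]
  rw [← F.hψ a b, eq_comm]

theorem sum_c (F : Form c r u ε ψ) (χ : I) :
    ∑ a, c a χ = (Fintype.card A : ℤ) * u χ + ε * ((Finset.univ.filter fun a => ψ a = χ).card : ℤ) := by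
  classical
  simp only [F.val]
  rw [Finset.sum_add_distrib, Finset.sum_const, Finset.card_univ, nsmul_eq_mul, ← Finset.mul_sum]
  congr 2
  rw [Finset.card_filter]
  push_cast
  refine Finset.sum_congr rfl fun a _ => ?_
  simp only [eq_comm]

theorem card_fib (F : Form c r u ε ψ) [DecidableRel r] {E : ℕ} (hcls : ∀ a, (Finset.univ.filter fun b => r a b).card = E) (a : A) :
    (Finset.univ.filter fun b => ψ b = ψ a).card = E := by
  rw [← hcls a]
  congr 1
  ext b
  simp only [Finset.mem_filter, Finset.mem_univ, true_and]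
  rw [← F.hψ a b, eq_comm]

theorem card_fib_not (χ : I) (hχ : χ ∉ Finset.univ.image ψ) :
    (Finset.univ.filter fun b => ψ b = χ).card = 0 := by
  rw [Finset.card_eq_zero, Finset.filter_eq_empty_iff]
  intro b _ h
  exact hχ (Finset.mem_image.mpr ⟨b, Finset.mem_univ _, h⟩)

end Form

end Form

end Cfsg.Agent.Lib.FF
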