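import Mathlib
import Cfsg.Agent.Lib.Block.Klein2
import Cfsg.Agent.Lib.Transfer.Frobenius

/-!
# Local structure of a finite group with dihedral Sylow 2-subgroups
-/

set_option autoImplicit false
set_option linter.unusedSectionVars false
set_option linter.unusedSimpArgs false
set_option linter.unusedVariables false

open scoped ComplexConjugate
open Cfsg MonoidAlgebra Cfsg.Agent.Lib.Char Cfsg.Agent.Lib.Block

namespace Cfsg.Agent.Lib.FF

section Gen

variable {G : Type*} [Group G] [Finite G]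

/-- A subgroup generated by `σ` and normalized at the generator is normalized. -/
theorem mem_normalizer_zpowers {a h : G} (hh : h * a * h⁻¹ ∈ Subgroup.zpowers a) :
    h ∈ Subgroup.normalizer ((Subgroup.zpowers a : Subgroup G) : Set G) := by
  have h1 : ∀ x ∈ Subgroup.zpowers a, h * x * h⁻¹ ∈ Subgroup.zpowers a := by
    intro x hx
    obtain ⟨m, rfl⟩ := Subgroup.mem_zpowers_iff.1 hx
    rw [← conj_zpow]
    exact Subgroup.zpow_mem _ hh m
  let ψ : Subgroup.zpowers a → Subgroup.zpowers a := fun x => ⟨h * x * h⁻¹, h1 x x.2⟩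
  have hψ : Function.Injective ψ := by
    intro x y hxy
    have : h * (x : G) * h⁻¹ = h * (y : G) * h⁻¹ := congrArg Subtype.val hxy
    exact Subtype.ext (by simpa using this)
  have hs : Function.Surjective ψ := Finite.surjective_of_injective hψ
  rw [Subgroup.mem_normalizer_iff]
  intro x
  refine ⟨h1 x, fun hx => ?_⟩
  obtain ⟨x', hx'⟩ := hs ⟨h * x * h⁻¹, hx⟩
  have : h * (x' : G) * h⁻¹ = h * x * h⁻¹ := congrArg Subtype.val hx'
  have h2 : (x' : G) = x := by simpa using this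
  rw [← h2]
  exact x'.2

/-- An element of odd order normalizing a cyclic `2`-group centralizes it. -/
theorem odd_centralize_cyclic {a y : G} (ha : ∃ r, orderOf a = 2 ^ r) (hy : ¬ 2 ∣ orderOf y)
    (h : y * a * y⁻¹ ∈ Subgroup.zpowers a) : y * a = a * y := by
  obtain ⟨r, hr⟩ := ha
  have hn := mem_normalizer_zpowers h
  let f := (Subgroup.zpowers a).normalizerMonoidHom
  have h1 : orderOf (f ⟨y, hn⟩) ∣ orderOf y := by
    have h2 : orderOf (f ⟨y, hn⟩) ∣ orderOf (⟨y, hn⟩ : Subgroup.normalizer ((Subgroup.zpowers a : Subgroup G) : Set G)) :=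
      orderOf_map_dvd _ _
    rwa [Subgroup.orderOf_mk] at h2
  have h2 : orderOf (f ⟨y, hn⟩) ∣ Nat.card (MulAut (Subgroup.zpowers a)) := orderOf_dvd_natCard _
  rw [IsCyclic.card_mulAut, Nat.card_zpowers, hr] at h2
  have h3 : ∃ s, Nat.totient (2 ^ r) = 2 ^ s := by
    rcases Nat.eq_zero_or_pos r with rfl | h0
    · exact ⟨0, by simp⟩
    · exact ⟨r - 1, by rw [Nat.totient_prime_pow Nat.prime_two h0]; simp⟩
  obtain ⟨s, hs⟩ := h3
  rw [hs] at h2
  obtain ⟨m, _, hm⟩ := (Nat.dvd_prime_pow Nat.prime_two).1 h2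
  have h4 : orderOf (f ⟨y, hn⟩) = 1 := by
    rcases Nat.eq_zero_or_pos m with rfl | h0
    · simpa using hm
    · exfalso
      apply hy
      rw [hm] at h1
      exact (dvd_pow_self 2 h0.ne').trans h1
  have h5 : f ⟨y, hn⟩ = 1 := orderOf_eq_one_iff.1 h4
  have h6 := congrArg (fun φ : MulAut (Subgroup.zpowers a) => ((φ ⟨a, Subgroup.mem_zpowers a⟩ : Subgroup.zpowers a) : G)) h5
  have h7 : y * a * y⁻¹ = a := h6
  calc y * a = y * a * y⁻¹ * y := by group
    _ = a * y := by rw [h7]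

/-- Every `2`-subgroup can be conjugated into a given Sylow subgroup. -/
theorem exists_conj_into_sylow {p : ℕ} [Fact p.Prime] (P : Sylow p G) {Q : Subgroup G} (hQ : IsPGroup p Q) :
    ∃ c : G, ∀ q ∈ Q, c * q * c⁻¹ ∈ (P : Subgroup G) := by
  obtain ⟨S, hS⟩ := hQ.exists_le_sylow
  obtain ⟨c, hc⟩ := MulAction.exists_smul_eq G S P
  refine ⟨c, fun q hq => ?_⟩
  rw [← hc]
  refine ⟨q, hS hq, ?_⟩
  simp [MulAut.smul_def]

/-- A `p`-element lies in a conjugate of the Sylow subgroup. -/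
theorem exists_conj_elt_into_sylow {p : ℕ} [Fact p.Prime] (P : Sylow p G) {u : G} (hu : ∃ k, orderOf u = p ^ k) :
    ∃ c : G, c * u * c⁻¹ ∈ (P : Subgroup G) := by
  obtain ⟨c, hc⟩ := exists_conj_into_sylow P (isPGroup_zpowers_of_orderOf hu)
  exact ⟨c, hc u (Subgroup.mem_zpowers u)⟩

/-- Equal orders of powers: they generate the same subgroup. -/
theorem mem_zpowers_pow_of_orderOf_eq {σ : G} {i j : ℕ} (h : orderOf (σ ^ i) = orderOf (σ ^ j)) :
    σ ^ j ∈ Subgroup.zpowers (σ ^ i) := by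
  set o := orderOf σ with ho
  have ho0 : 0 < o := orderOf_pos σ
  rw [orderOf_pow, orderOf_pow, ← ho] at h
  have hg1 : 0 < Nat.gcd o i := Nat.gcd_pos_of_pos_left _ ho0
  have hg2 : 0 < Nat.gcd o j := Nat.gcd_pos_of_pos_left _ ho0
  have hg : Nat.gcd o i = Nat.gcd o j := by
    have h1 := Nat.div_mul_cancel (Nat.gcd_dvd_left o i)
    have h2 := Nat.div_mul_cancel (Nat.gcd_dvd_left o j)
    have h3 : 0 < o / Nat.gcd o i := Nat.div_pos (Nat.le_of_dvd ho0 (Nat.gcd_dvd_left _ _)) hg1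
    rw [← h] at h2
    exact Nat.eq_of_mul_eq_mul_left h3 (h1.trans h2.symm)
  have hdvd : Nat.gcd o i ∣ j := by rw [hg]; exact Nat.gcd_dvd_right _ _
  obtain ⟨m, hm⟩ := hdvd
  have hb : σ ^ (Nat.gcd o i) ∈ Subgroup.zpowers (σ ^ i) := by
    have e : ((Nat.gcd o i : ℕ) : ℤ) = o * Nat.gcdA o i + i * Nat.gcdB o i := Nat.gcd_eq_gcd_ab o i
    have e2 : σ ^ (Nat.gcd o i) = (σ ^ i) ^ (Nat.gcdB o i) := by
      rw [← zpow_natCast σ (Nat.gcd o i), e, zpow_add, zpow_mul, zpow_natCast, ho, pow_orderOf_eq_one, one_zpow,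
        one_mul, zpow_mul, zpow_natCast]
    rw [e2]
    exact Subgroup.zpow_mem_zpowers _ _
  rw [hm, pow_mul]
  exact Subgroup.pow_mem _ hb m

end Gen

section Data

variable {G : Type*} [Group G] [Finite G]

/-- Data of a dihedral Sylow `2`-subgroup of order `2^(k+1)`, `k ≥ 2`. -/
structure DihData (P : Sylow 2 G) (σ τ : G) (k : ℕ) : Prop where
  two_le : 2 ≤ k
  σP : σ ∈ (P : Subgroup G)
  τP : τ ∈ (P : Subgroup G)
  oσ : orderOf σ = 2 ^ k
  τ2 : τ * τ = 1
  rel : τ * σ * τ⁻¹ = σ⁻¹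
  card : Nat.card (P : Subgroup G) = 2 ^ (k + 1)
  mem : ∀ u ∈ (P : Subgroup G), (∃ i : ℕ, u = σ ^ i) ∨ (∃ i : ℕ, u = σ ^ i * τ)

variable {P : Sylow 2 G} {σ τ : G} {k : ℕ}

namespace DihData

variable (D : DihData P σ τ k)
include D

theorem τ_inv : τ⁻¹ = τ := inv_eq_of_mul_eq_one_left D.τ2

theorem conj_pow_τ (i : ℕ) : τ * σ ^ i * τ⁻¹ = (σ ^ i)⁻¹ := by
  rw [← conj_pow, D.rel, inv_pow]

theorem τ_mul_pow (i : ℕ) : τ * σ ^ i = (σ ^ i)⁻¹ * τ := by
  rw [← D.conj_pow_τ i]
  group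

theorem refl_sq (i : ℕ) : (σ ^ i * τ) * (σ ^ i * τ) = 1 := by
  calc σ ^ i * τ * (σ ^ i * τ) = σ ^ i * (τ * σ ^ i) * τ := by group
    _ = σ ^ i * ((σ ^ i)⁻¹ * τ) * τ := by rw [D.τ_mul_pow]
    _ = τ * τ := by group
    _ = 1 := D.τ2

theorem refl_conj (i j : ℕ) : (σ ^ i * τ) * σ ^ j * (σ ^ i * τ)⁻¹ = (σ ^ j)⁻¹ := by
  have h : (σ ^ i * τ) * σ ^ j * (σ ^ i * τ)⁻¹ = σ ^ i * (τ * σ ^ j * τ⁻¹) * (σ ^ i)⁻¹ := by group
  rw [h, D.conj_pow_τ]
  have hc : Commute (σ ^ i) (σ ^ j)⁻¹ := ((Commute.refl σ).pow_pow i j).inv_right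
  rw [hc.eq]
  group

theorem pow_mem (i : ℕ) : σ ^ i ∈ (P : Subgroup G) := Subgroup.pow_mem _ D.σP i

theorem refl_mem (i : ℕ) : σ ^ i * τ ∈ (P : Subgroup G) := mul_mem (D.pow_mem i) D.τP

theorem exp_pos : 0 < 2 ^ k := by positivity

theorem four_le : 4 ≤ 2 ^ k := by
  calc 4 = 2 ^ 2 := by norm_num
    _ ≤ 2 ^ k := Nat.pow_le_pow_right (by norm_num) D.two_le

theorem sq_eq_one_iff (j : ℕ) : σ ^ j * σ ^ j = 1 ↔ 2 ^ (k - 1) ∣ j := by
  have e : σ ^ j * σ ^ j = σ ^ (2 * j) := by rw [two_mul, pow_add]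
  rw [e, ← orderOf_dvd_iff_pow_eq_one, D.oσ]
  have h2 : 2 ^ k = 2 * 2 ^ (k - 1) := by
    rw [← pow_succ']
    congr 1
    have := D.two_le
    omega
  rw [h2]
  exact Nat.mul_dvd_mul_iff_left (by norm_num)

theorem σ_sq_ne : σ * σ ≠ 1 := by
  intro h
  have h1 : σ ^ 1 * σ ^ 1 = 1 := by simpa using h
  rw [D.sq_eq_one_iff] at h1
  have h2 : 2 ∣ 2 ^ (k - 1) := dvd_pow_self 2 (by have := D.two_le; omega)
  have := Nat.le_of_dvd (by norm_num) (h2.trans h1)
  omega

theorem τ_notMem : τ ∉ Subgroup.zpowers σ := by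
  intro h
  have h1 : τ * σ * τ⁻¹ = σ := by
    obtain ⟨m, rfl⟩ := Subgroup.mem_zpowers_iff.1 h
    have : Commute (σ ^ m) σ := (Commute.refl σ).zpow_left m
    rw [this.eq]
    group
  rw [D.rel] at h1
  apply D.σ_sq_ne
  nth_rw 1 [← h1]
  group

theorem refl_notMem (i : ℕ) : σ ^ i * τ ∉ Subgroup.zpowers σ := by
  intro h
  apply D.τ_notMem
  have h1 : τ = (σ ^ i)⁻¹ * (σ ^ i * τ) := by group
  rw [h1]
  exact mul_mem (inv_mem (Subgroup.npow_mem_zpowers σ i)) h

theorem mem_of_sq_ne {u : G} (hu : u ∈ (P : Subgroup G)) (h : u * u ≠ 1) : ∃ i : ℕ, u = σ ^ i := by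
  rcases D.mem u hu with h1 | ⟨i, rfl⟩
  · exact h1
  · exact absurd (D.refl_sq i) h

/-- `J`, the central involution -/
theorem J_sq : σ ^ (2 ^ (k - 1)) * σ ^ (2 ^ (k - 1)) = 1 := (D.sq_eq_one_iff _).2 dvd_rfl

theorem J_ne : σ ^ (2 ^ (k - 1)) ≠ 1 := by
  intro h
  rw [← orderOf_dvd_iff_pow_eq_one, D.oσ] at h
  have := (Nat.pow_dvd_pow_iff_le_right (by norm_num : 1 < 2)).1 h
  have := D.two_le
  omega

theorem eq_one_or_J {j : ℕ} (h : σ ^ j * σ ^ j = 1) : σ ^ j = 1 ∨ σ ^ j = σ ^ (2 ^ (k - 1)) := by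
  obtain ⟨m, rfl⟩ := (D.sq_eq_one_iff j).1 h
  rcases Nat.even_or_odd' m with ⟨l, rfl | rfl⟩
  · left
    rw [← orderOf_dvd_iff_pow_eq_one, D.oσ]
    refine ⟨l, ?_⟩
    have h2 : 2 ^ k = 2 * 2 ^ (k - 1) := by
      rw [← pow_succ']
      congr 1
      have := D.two_le
      omega
    rw [h2]
    ring
  · right
    have h2 : σ ^ (2 ^ (k - 1) * (2 * l)) = 1 := by
      rw [← orderOf_dvd_iff_pow_eq_one, D.oσ]
      refine ⟨l, ?_⟩
      have h2 : 2 ^ k = 2 * 2 ^ (k - 1) := by
        rw [← pow_succ']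
        congr 1
        have := D.two_le
        omega
      rw [h2]
      ring
    rw [mul_add, pow_add, h2, one_mul, mul_one]

theorem J_comm {u : G} (hu : u ∈ (P : Subgroup G)) : u * σ ^ (2 ^ (k - 1)) = σ ^ (2 ^ (k - 1)) * u := by
  rcases D.mem u hu with ⟨i, rfl⟩ | ⟨i, rfl⟩
  · exact ((Commute.refl σ).pow_pow i _).eq
  · have h := D.refl_conj i (2 ^ (k - 1))
    have hi : (σ ^ (2 ^ (k - 1)))⁻¹ = σ ^ (2 ^ (k - 1)) := inv_eq_of_mul_eq_one_left D.J_sq
    rw [hi] at h
    calc σ ^ i * τ * σ ^ (2 ^ (k - 1)) = (σ ^ i * τ * σ ^ (2 ^ (k - 1)) * (σ ^ i * τ)⁻¹) * (σ ^ i * τ) := by group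
      _ = σ ^ (2 ^ (k - 1)) * (σ ^ i * τ) := by rw [h]

theorem comm_pow {u : G} (hu : u ∈ (P : Subgroup G)) {j : ℕ} (hx : σ ^ j * σ ^ j ≠ 1) (hc : u * σ ^ j = σ ^ j * u) :
    ∃ i : ℕ, u = σ ^ i := by
  rcases D.mem u hu with h1 | ⟨i, rfl⟩
  · exact h1
  · exfalso
    have h := D.refl_conj i j
    rw [hc] at h
    have h2 : σ ^ j = (σ ^ j)⁻¹ := by
      rw [← h]
      group
    apply hx
    nth_rw 1 [h2]
    group

/-- The elements of `P` commuting with a reflection. -/
theorem comm_refl {u : G} (hu : u ∈ (P : Subgroup G)) {m : ℕ} (hc : u * (σ ^ m * τ) = (σ ^ m * τ) * u) :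
    u = 1 ∨ u = σ ^ (2 ^ (k - 1)) ∨ u = σ ^ m * τ ∨ u = σ ^ (2 ^ (k - 1)) * (σ ^ m * τ) := by
  rcases D.mem u hu with ⟨a, rfl⟩ | ⟨a, rfl⟩
  · have h := D.refl_conj m a
    have h1 : (σ ^ m * τ) * σ ^ a * (σ ^ m * τ)⁻¹ = σ ^ a := by
      rw [← hc]
      group
    rw [h1] at h
    have h2 : σ ^ a * σ ^ a = 1 := by
      nth_rw 1 [h]
      group
    rcases D.eq_one_or_J h2 with h3 | h3
    · exact Or.inl h3
    · exact Or.inr (Or.inl h3)
  · set t := σ ^ m * τ with ht
    set u := σ ^ a * τ with hu'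
    have ht2 : t * t = 1 := D.refl_sq m
    have hu2 : u * u = 1 := D.refl_sq a
    have hv : (u * t) * (u * t) = 1 := by
      calc u * t * (u * t) = u * (t * u) * t := by group
        _ = u * (u * t) * t := by rw [hc]
        _ = (u * u) * (t * t) := by group
        _ = 1 := by rw [hu2, ht2, one_mul]
    have hvP : u * t ∈ (P : Subgroup G) := mul_mem (D.refl_mem a) (D.refl_mem m)
    rcases D.mem _ hvP with ⟨b, hb⟩ | ⟨b, hb⟩
    · rw [hb] at hv
      have hti : t⁻¹ = t := inv_eq_of_mul_eq_one_left ht2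
      have e : u = (u * t) * t := by
        rw [mul_assoc, ht2, mul_one]
      rcases D.eq_one_or_J hv with h3 | h3
      · right; right; left
        rw [e, hb, h3, one_mul]
      · right; right; right
        rw [e, hb, h3]
    · exfalso
      have e : τ = (σ ^ b)⁻¹ * (u * t) := by rw [hb]; group
      have h1 : (σ ^ b)⁻¹ * (u * t) = (σ ^ b)⁻¹ * (σ ^ a * (τ * σ ^ m * τ⁻¹) * (τ * τ)) := by
        congr 1
        rw [hu', ht]
        group
      apply D.τ_notMem
      rw [e, h1, D.conj_pow_τ, D.τ2, mul_one]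
      exact mul_mem (inv_mem (Subgroup.npow_mem_zpowers σ b)) (mul_mem (Subgroup.npow_mem_zpowers σ a)
        (inv_mem (Subgroup.npow_mem_zpowers σ m)))

/-- A `2`-group containing a central element of order `> 2` of `P` has order at most `2^k`. -/
theorem card_le_of_central {Q : Subgroup G} (hQ : IsPGroup 2 Q) {x : G} (hxQ : x ∈ Q) (hx : x * x ≠ 1)
    (hc : ∀ q ∈ Q, q * x = x * q) : Nat.card Q ≤ 2 ^ k := by
  obtain ⟨c, hcP⟩ := exists_conj_into_sylow P hQ
  have h1 : (c * x * c⁻¹) * (c * x * c⁻¹) ≠ 1 := by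
    intro h
    apply hx
    have : (c * x * c⁻¹) * (c * x * c⁻¹) = c * (x * x) * c⁻¹ := by group
    rw [this] at h
    have h2 : x * x = c⁻¹ * (c * (x * x) * c⁻¹) * c := by group
    rw [h2, h]
    group
  obtain ⟨i, hi⟩ := D.mem_of_sq_ne (hcP x hxQ) h1
  have h2 : Q.map (MulAut.conj c).toMonoidHom ≤ Subgroup.zpowers σ := by
    rintro _ ⟨q, hq, rfl⟩
    have h3 : c * q * c⁻¹ ∈ (P : Subgroup G) := hcP q hq
    have hcomm : (c * q * c⁻¹) * σ ^ i = σ ^ i * (c * q * c⁻¹) := by
      rw [← hi]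
      calc c * q * c⁻¹ * (c * x * c⁻¹) = c * (q * x) * c⁻¹ := by group
        _ = c * (x * q) * c⁻¹ := by rw [hc q hq]
        _ = c * x * c⁻¹ * (c * q * c⁻¹) := by group
    rw [hi] at h1
    obtain ⟨m, hm⟩ := D.comm_pow h3 h1 hcomm
    change c * q * c⁻¹ ∈ _
    rw [hm]
    exact Subgroup.npow_mem_zpowers σ m
  have h3 : Nat.card (Q.map (MulAut.conj c).toMonoidHom) = Nat.card Q :=
    Subgroup.card_map_of_injective (MulAut.conj c).injective
  rw [← h3]
  have h4 := Subgroup.card_le_of_le h2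
  rwa [Nat.card_zpowers, D.oσ] at h4

theorem isPGroup_A : IsPGroup 2 (Subgroup.zpowers σ) := isPGroup_zpowers_of_orderOf ⟨k, D.oσ⟩

/-- The cyclic subgroup is a Sylow subgroup of the centralizer of an element of order `> 2`. -/
theorem exists_sylow_A {j : ℕ} (hx : σ ^ j * σ ^ j ≠ 1) :
    ∃ S : Sylow 2 (Subgroup.centralizer ({σ ^ j} : Set G)),
      (S : Subgroup (Subgroup.centralizer ({σ ^ j} : Set G))) =
        (Subgroup.zpowers σ).subgroupOf (Subgroup.centralizer ({σ ^ j} : Set G)) := by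
  set X := Subgroup.centralizer ({σ ^ j} : Set G) with hX
  have hAX : Subgroup.zpowers σ ≤ X := by
    rw [Subgroup.zpowers_le, hX, mem_centralizer_singleton]
    exact ((Commute.refl σ).pow_right j).eq
  have hA' : IsPGroup 2 ((Subgroup.zpowers σ).subgroupOf X) := D.isPGroup_A.comap_subtype
  obtain ⟨S, hS⟩ := hA'.exists_le_sylow
  have hQ : IsPGroup 2 ((S : Subgroup X).map X.subtype) := S.isPGroup'.map _
  have hxX : σ ^ j ∈ X := by
    rw [hX, mem_centralizer_singleton]
  have hxS : (⟨σ ^ j, hxX⟩ : X) ∈ (S : Subgroup X) := by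
    apply hS
    rw [Subgroup.mem_subgroupOf]
    exact Subgroup.npow_mem_zpowers σ j
  have hxQ : σ ^ j ∈ (S : Subgroup X).map X.subtype := ⟨⟨σ ^ j, hxX⟩, hxS, rfl⟩
  have hc : ∀ q ∈ (S : Subgroup X).map X.subtype, q * σ ^ j = σ ^ j * q := by
    rintro _ ⟨s, _, rfl⟩
    exact mem_centralizer_singleton.1 s.2
  have h1 := D.card_le_of_central hQ hxQ hx hc
  have h2 : Nat.card ((S : Subgroup X).map X.subtype) = Nat.card (S : Subgroup X) :=
    Subgroup.card_map_of_injective X.subtype_injective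
  have h3 : Nat.card ((Subgroup.zpowers σ).subgroupOf X) = 2 ^ k := by
    rw [Nat.card_congr (Subgroup.subgroupOfEquivOfLe hAX).toEquiv, Nat.card_zpowers, D.oσ]
  refine ⟨S, (Subgroup.eq_of_le_of_card_ge hS ?_).symm⟩
  rw [h3, ← h2]
  exact h1

/-- Normal complement in the centralizer of an element of order `> 2`. -/
theorem exists_complement_pow {j : ℕ} (hx : σ ^ j * σ ^ j ≠ 1) :
    2 ^ (Nat.card (Subgroup.centralizer ({σ ^ j} : Set G))).factorization 2 = 2 ^ k ∧
    ∃ K : Subgroup (Subgroup.centralizer ({σ ^ j} : Set G)), K.Normal ∧ ¬ 2 ∣ Nat.card K ∧ ∃ l, K.index = 2 ^ l := by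
  set X := Subgroup.centralizer ({σ ^ j} : Set G) with hX
  obtain ⟨S, hS⟩ := D.exists_sylow_A hx
  have hAX : Subgroup.zpowers σ ≤ X := by
    rw [Subgroup.zpowers_le, hX, mem_centralizer_singleton]
    exact ((Commute.refl σ).pow_right j).eq
  have h3 : Nat.card (S : Subgroup X) = 2 ^ k := by
    rw [hS, Nat.card_congr (Subgroup.subgroupOfEquivOfLe hAX).toEquiv, Nat.card_zpowers, D.oσ]
  refine ⟨by rw [← Sylow.card_eq_multiplicity S, h3], ?_⟩
  have h2 : 2 ∣ Nat.card X := by
    have h4 : Nat.card (S : Subgroup X) ∣ Nat.card X := Subgroup.card_subgroup_dvd_card _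
    rw [h3] at h4
    exact (dvd_pow_self 2 (by have := D.two_le; omega)).trans h4
  have hcyc : IsCyclic (S : Subgroup X) := by
    rw [hS]
    have e := Subgroup.subgroupOfEquivOfLe hAX
    exact (MulEquiv.isCyclic e).2 inferInstance
  exact exists_complement_of_burnside S (IsCyclic.normalizer_le_centralizer ((Nat.minFac_eq_two_iff _).2 h2) hcyc)

theorem pow_order (i : ℕ) : ∃ r, orderOf (σ ^ i) = 2 ^ r := by
  have h1 : orderOf (σ ^ i) ∣ 2 ^ k := by
    rw [← D.oσ]
    exact orderOf_pow_dvd i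
  obtain ⟨r, _, hr⟩ := (Nat.dvd_prime_pow Nat.prime_two).1 h1
  exact ⟨r, hr⟩

/-- An element of odd order normalizing a subgroup of `P` and centralizing `J` centralizes the subgroup. -/
theorem odd_centralizes {Q : Subgroup G} (hQ : Q ≤ (P : Subgroup G)) {y : G} (hy : ¬ 2 ∣ orderOf y)
    (hn : ∀ q ∈ Q, y * q * y⁻¹ ∈ Q) (hJ : y * σ ^ (2 ^ (k - 1)) = σ ^ (2 ^ (k - 1)) * y) :
    ∀ q ∈ Q, y * q = q * y := by
  have c1 : ∀ i : ℕ, σ ^ i ∈ Q → y * σ ^ i = σ ^ i * y := by
    intro i hi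
    by_cases hs : σ ^ i * σ ^ i = 1
    · rcases D.eq_one_or_J hs with h | h
      · rw [h, one_mul, mul_one]
      · rw [h]
        exact hJ
    · have h1 : y * σ ^ i * y⁻¹ ∈ (P : Subgroup G) := hQ (hn _ hi)
      have h2 : (y * σ ^ i * y⁻¹) * (y * σ ^ i * y⁻¹) ≠ 1 := by
        intro h
        apply hs
        have e : (y * σ ^ i * y⁻¹) * (y * σ ^ i * y⁻¹) = y * (σ ^ i * σ ^ i) * y⁻¹ := by group
        rw [e] at h
        have e2 : σ ^ i * σ ^ i = y⁻¹ * (y * (σ ^ i * σ ^ i) * y⁻¹) * y := by group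
        rw [e2, h]
        group
      obtain ⟨m, hm⟩ := D.mem_of_sq_ne h1 h2
      apply odd_centralize_cyclic (D.pow_order i) hy
      rw [hm]
      apply mem_zpowers_pow_of_orderOf_eq
      haveI : Fintype G := Fintype.ofFinite G
      rw [← hm, orderOf_conj]
  intro q hq
  rcases D.mem q (hQ hq) with ⟨i, rfl⟩ | ⟨i, rfl⟩
  · exact c1 i hq
  · set t := σ ^ i * τ with ht
    have ht' := hn t hq
    rcases D.mem _ (hQ ht') with ⟨m, hm⟩ | ⟨m, hm⟩
    · exfalso
      rw [hm] at ht'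
      have h1 := c1 m ht'
      have h2 : t = σ ^ m := by
        have e : t = y⁻¹ * (y * t * y⁻¹) * y := by group
        rw [e, hm, mul_assoc, ← h1]
        group
      apply D.refl_notMem i
      rw [← ht, h2]
      exact Subgroup.npow_mem_zpowers σ m
    · set a := (y * t * y⁻¹) * t⁻¹ with ha
      have haQ : a ∈ Q := mul_mem ht' (inv_mem hq)
      have haA : a ∈ Subgroup.zpowers σ := by
        have e : a = σ ^ m * (σ ^ i)⁻¹ := by
          rw [ha, hm, ht]
          group
        rw [e]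
        exact mul_mem (Subgroup.npow_mem_zpowers σ m) (inv_mem (Subgroup.npow_mem_zpowers σ i))
      rcases D.mem a (hQ haQ) with ⟨b, hb⟩ | ⟨b, hb⟩
      · have hya : y * a = a * y := by
          rw [hb]
          exact c1 b (hb ▸ haQ)
        have e1 : y * t * y⁻¹ = a * t := by
          rw [ha]
          group
        have e2 : ∀ n : ℕ, y ^ n * t * (y ^ n)⁻¹ = a ^ n * t := by
          intro n
          induction n with
          | zero => simp
          | succ n ih =>
            have hcn : Commute y (a ^ n) := (show Commute y a from hya).pow_right n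
            calc y ^ (n + 1) * t * (y ^ (n + 1))⁻¹ = y * (y ^ n * t * (y ^ n)⁻¹) * y⁻¹ := by
                  rw [pow_succ']
                  group
              _ = y * (a ^ n * t) * y⁻¹ := by rw [ih]
              _ = (y * a ^ n) * t * y⁻¹ := by group
              _ = a ^ n * (y * t * y⁻¹) := by rw [hcn.eq]; group
              _ = a ^ n * (a * t) := by rw [e1]
              _ = a ^ (n + 1) * t := by rw [pow_succ]; group
        have e3 := e2 (orderOf y)
        rw [pow_orderOf_eq_one] at e3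
        have e4 : a ^ orderOf y = 1 := by
          have : t = a ^ orderOf y * t := by simpa using e3
          exact mul_eq_right.1 this.symm
        have e5 : orderOf a ∣ orderOf y := orderOf_dvd_of_pow_eq_one e4
        obtain ⟨r, hr⟩ := D.pow_order b
        rw [← hb] at hr
        have e6 : a = 1 := by
          rcases Nat.eq_zero_or_pos r with rfl | h0
          · rw [pow_zero] at hr
            exact orderOf_eq_one_iff.1 hr
          · exfalso
            apply hy
            rw [hr] at e5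
            exact (dvd_pow_self 2 h0.ne').trans e5
        rw [e6, one_mul] at e1
        calc y * t = (y * t * y⁻¹) * y := by group
          _ = t * y := by rw [e1]
      · exact absurd (hb ▸ haA) (D.refl_notMem b)

/-- Normal complement in the centralizer of `J`. -/
theorem exists_complement_J :
    2 ^ (Nat.card (Subgroup.centralizer ({σ ^ (2 ^ (k - 1))} : Set G))).factorization 2 = 2 ^ (k + 1) ∧
    ∃ K : Subgroup (Subgroup.centralizer ({σ ^ (2 ^ (k - 1))} : Set G)), K.Normal ∧ ¬ 2 ∣ Nat.card K ∧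
      ∃ l, K.index = 2 ^ l := by
  set X := Subgroup.centralizer ({σ ^ (2 ^ (k - 1))} : Set G) with hX
  have hPH : (P : Subgroup G) ≤ X := by
    intro u hu
    rw [hX, mem_centralizer_singleton]
    exact D.J_comm hu
  set S : Sylow 2 X := P.subtype hPH with hS
  have h3 : Nat.card (S : Subgroup X) = 2 ^ (k + 1) := by
    rw [hS, Sylow.coe_subtype, Nat.card_congr (Subgroup.subgroupOfEquivOfLe hPH).toEquiv, D.card]
  refine ⟨by rw [← Sylow.card_eq_multiplicity S, h3], ?_⟩
  have H : Cfsg.Agent.Lib.Transfer.FrobeniusHyp 2 (S : Subgroup X) := by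
    intro Q hQ g hg hgc
    have hQ' : Q.map X.subtype ≤ (P : Subgroup G) := by
      rintro _ ⟨s, hs, rfl⟩
      have := hQ hs
      rw [hS, Sylow.coe_subtype, Subgroup.mem_subgroupOf] at this
      exact this
    have hy : ¬ 2 ∣ orderOf (g : G) := by
      rw [Subgroup.orderOf_coe]
      intro hd
      have := Nat.dvd_gcd hd (dvd_refl 2)
      rw [hgc] at this
      omega
    have hn : ∀ q ∈ Q.map X.subtype, (g : G) * q * (g : G)⁻¹ ∈ Q.map X.subtype := by
      rintro _ ⟨s, hs, rfl⟩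
      exact ⟨g * s * g⁻¹, (Subgroup.mem_normalizer_iff.1 hg s).1 hs, rfl⟩
    have hJ : (g : G) * σ ^ (2 ^ (k - 1)) = σ ^ (2 ^ (k - 1)) * (g : G) := mem_centralizer_singleton.1 g.2
    have h5 := D.odd_centralizes hQ' hy hn hJ
    rw [Subgroup.mem_centralizer_iff]
    intro s hs
    apply Subtype.ext
    exact (h5 s ⟨s, hs, rfl⟩).symm
  obtain ⟨N, hN, hc⟩ := Cfsg.Agent.Lib.Transfer.frobenius S H
  refine ⟨N, hN, ?_, k + 1, ?_⟩
  · have := Cfsg.Agent.Lib.Transfer.complement_card_coprime hc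
    intro hd
    have h6 := Nat.dvd_gcd hd (dvd_refl 2)
    rw [this] at h6
    omega
  · rw [hc.symm.index_eq_card, h3]

/-- A `2`-group in which an involution not conjugate to `J` is central has order at most four. -/
theorem card_le_four {Q : Subgroup G} (hQ : IsPGroup 2 Q) {t : G} (htQ : t ∈ Q) (ht2 : t * t = 1) (ht1 : t ≠ 1)
    (htJ : ¬ IsConj t (σ ^ (2 ^ (k - 1)))) (hc : ∀ q ∈ Q, q * t = t * q) : Nat.card Q ≤ 4 := by
  classical
  obtain ⟨c, hcP⟩ := exists_conj_into_sylow P hQ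
  have hs : (c * t * c⁻¹) * (c * t * c⁻¹) = 1 := by
    have e : (c * t * c⁻¹) * (c * t * c⁻¹) = c * (t * t) * c⁻¹ := by group
    rw [e, ht2]
    group
  have hne : c * t * c⁻¹ ≠ 1 := by
    intro h
    apply ht1
    have e : t = c⁻¹ * (c * t * c⁻¹) * c := by group
    rw [e, h]
    group
  rcases D.mem _ (hcP t htQ) with ⟨m, hm⟩ | ⟨m, hm⟩
  · exfalso
    rw [hm] at hs hne
    rcases D.eq_one_or_J hs with h | h
    · exact hne h
    · apply htJ
      rw [isConj_iff]
      exact ⟨c, by rw [hm, h]⟩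
  · set t' := σ ^ m * τ with ht'
    let T : Finset G := {1, σ ^ (2 ^ (k - 1)), t', σ ^ (2 ^ (k - 1)) * t'}
    have hT : ∀ q ∈ Q, c * q * c⁻¹ ∈ T := by
      intro q hq
      have h1 : c * q * c⁻¹ * t' = t' * (c * q * c⁻¹) := by
        rw [← hm]
        calc c * q * c⁻¹ * (c * t * c⁻¹) = c * (q * t) * c⁻¹ := by group
          _ = c * (t * q) * c⁻¹ := by rw [hc q hq]
          _ = c * t * c⁻¹ * (c * q * c⁻¹) := by group
      have h2 := D.comm_refl (hcP q hq) h1
      simpa [T] using h2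
    let f : Q → T := fun q => ⟨c * q * c⁻¹, hT q q.2⟩
    have hf : Function.Injective f := by
      intro x y hxy
      have h : c * (x : G) * c⁻¹ = c * (y : G) * c⁻¹ := congrArg Subtype.val hxy
      exact Subtype.ext (by simpa using h)
    have h3 := Nat.card_le_card_of_injective f hf
    rw [Nat.card_eq_fintype_card (α := T), Fintype.card_coe] at h3
    exact h3.trans Finset.card_le_four

/-- The four-group is a Sylow subgroup of the centralizer of a reflection not conjugate to `J`. -/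
theorem exists_sylow_V {m : ℕ} (htJ : ¬ IsConj (σ ^ m * τ) (σ ^ (2 ^ (k - 1)))) :
    ∃ S : Sylow 2 (Subgroup.centralizer ({σ ^ m * τ} : Set G)),
      Nat.card (S : Subgroup (Subgroup.centralizer ({σ ^ m * τ} : Set G))) = 4 ∧
      (∀ s ∈ (S : Subgroup (Subgroup.centralizer ({σ ^ m * τ} : Set G))), (s : G) * s = 1) ∧
      ∀ h : σ ^ m * τ ∈ Subgroup.centralizer ({σ ^ m * τ} : Set G),
        (⟨σ ^ m * τ, h⟩ : Subgroup.centralizer ({σ ^ m * τ} : Set G)) ∈
          (S : Subgroup (Subgroup.centralizer ({σ ^ m * τ} : Set G))) := by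
  classical
  set t := σ ^ m * τ with ht
  set J := σ ^ (2 ^ (k - 1)) with hJdef
  set X := Subgroup.centralizer ({t} : Set G) with hX
  have ht2 : t * t = 1 := D.refl_sq m
  have hJ2 : J * J = 1 := D.J_sq
  have hJ1 : J ≠ 1 := D.J_ne
  have htA : t ∉ Subgroup.zpowers σ := D.refl_notMem m
  have ht1 : t ≠ 1 := fun h => htA (h ▸ one_mem _)
  have hJA : J ∈ Subgroup.zpowers σ := Subgroup.npow_mem_zpowers σ _
  have htJne : t ≠ J := fun h => htA (h ▸ hJA)
  have htP : t ∈ (P : Subgroup G) := D.refl_mem m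
  have hJP : J ∈ (P : Subgroup G) := D.pow_mem _
  have hJt : J * t = t * J := D.J_comm htP |>.symm
  set V : Subgroup G := (P : Subgroup G) ⊓ X with hV
  have hVX : V ≤ X := inf_le_right
  have hA' : IsPGroup 2 (V.subgroupOf X) :=
    (P.isPGroup'.to_le inf_le_left : IsPGroup 2 V).comap_subtype
  obtain ⟨S, hS⟩ := hA'.exists_le_sylow
  have htX : t ∈ X := by rw [hX, mem_centralizer_singleton]
  have hJX : J ∈ X := by rw [hX, mem_centralizer_singleton]; exact hJt
  have hQ : IsPGroup 2 ((S : Subgroup X).map X.subtype) := S.isPGroup'.map _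
  have htS : (⟨t, htX⟩ : X) ∈ (S : Subgroup X) := by
    apply hS
    rw [Subgroup.mem_subgroupOf]
    exact ⟨htP, htX⟩
  have hxQ : t ∈ (S : Subgroup X).map X.subtype := ⟨⟨t, htX⟩, htS, rfl⟩
  have hc : ∀ q ∈ (S : Subgroup X).map X.subtype, q * t = t * q := by
    rintro _ ⟨s, _, rfl⟩
    exact mem_centralizer_singleton.1 s.2
  have h1 := D.card_le_four hQ hxQ ht2 ht1 htJ hc
  have h2 : Nat.card ((S : Subgroup X).map X.subtype) = Nat.card (S : Subgroup X) :=
    Subgroup.card_map_of_injective X.subtype_injective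
  rw [h2] at h1
  -- `V` has four elements
  have h3 : 4 ≤ Nat.card (V.subgroupOf X) := by
    let T : Finset G := {1, J, t, J * t}
    have hTc : T.card = 4 := by
      have a1 : (1 : G) ≠ J := hJ1.symm
      have a2 : (1 : G) ≠ t := ht1.symm
      have a3 : (1 : G) ≠ J * t := by
        intro h
        apply htJne
        have : t = J⁻¹ := by
          rw [eq_inv_iff_mul_eq_one]
          have h5 := h.symm
          calc t * J = J * t := hJt.symm
            _ = 1 := h5
        rw [this]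
        exact inv_eq_of_mul_eq_one_left hJ2
      have a4 : J ≠ t := htJne.symm
      have a5 : J ≠ J * t := fun h => ht1 (by simpa using h.symm)
      have a6 : t ≠ J * t := fun h => hJ1 (by simpa using h.symm)
      simp [T, a1, a2, a3, a4, a5, a6]
    have hTV : ∀ x ∈ T, x ∈ V := by
      intro x hx
      simp only [T, Finset.mem_insert, Finset.mem_singleton] at hx
      rcases hx with rfl | rfl | rfl | rfl
      · exact one_mem _
      · exact ⟨hJP, hJX⟩
      · exact ⟨htP, htX⟩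
      · exact mul_mem (⟨hJP, hJX⟩ : J ∈ V) (⟨htP, htX⟩ : t ∈ V)
    let f : T → V.subgroupOf X := fun x => ⟨⟨x, hVX (hTV x x.2)⟩, by
      rw [Subgroup.mem_subgroupOf]
      exact hTV x x.2⟩
    have hf : Function.Injective f := by
      intro x y hxy
      have h : (x : G) = y := congrArg (fun z : V.subgroupOf X => ((z : X) : G)) hxy
      exact Subtype.ext h
    have h4 := Nat.card_le_card_of_injective f hf
    rwa [Nat.card_eq_fintype_card (α := T), Fintype.card_coe, hTc] at h4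
  have h5 : V.subgroupOf X = S := Subgroup.eq_of_le_of_card_ge hS (h1.trans h3)
  refine ⟨S, ?_, ?_, fun _ => htS⟩
  · rw [← h5]
    exact le_antisymm (h5 ▸ h1) h3
  · intro s hs
    rw [← h5, Subgroup.mem_subgroupOf] at hs
    have hsP : (s : G) ∈ (P : Subgroup G) := hs.1
    have hsc : (s : G) * t = t * s := mem_centralizer_singleton.1 s.2
    rcases D.comm_refl hsP hsc with h | h | h | h
    · rw [h, one_mul]
    · rw [h]; exact hJ2
    · rw [h]; exact ht2
    · rw [h]
      calc J * t * (J * t) = J * (t * J) * t := by group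
        _ = J * (J * t) * t := by rw [hJt]
        _ = (J * J) * (t * t) := by group
        _ = 1 := by rw [hJ2, ht2, one_mul]

end DihData

end Data

section Burn

variable {X : Type*} [Group X] [Finite X]

/-- A four-group Sylow subgroup with an involution central in the group: Burnside's hypothesis. -/
theorem normalizer_le_centralizer_central_klein (S : Sylow 2 X) (hsq : ∀ x ∈ (S : Subgroup X), x * x = 1)
    (hcard : Nat.card (S : Subgroup X) = 4) {z : X} (hzS : z ∈ (S : Subgroup X)) (hz1 : z ≠ 1)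
    (hzc : ∀ x : X, x * z = z * x) :
    Subgroup.normalizer ((S : Subgroup X) : Set X) ≤ Subgroup.centralizer ((S : Subgroup X) : Set X) := by
  classical
  haveI : Fintype X := Fintype.ofFinite X
  have hcomm : ∀ a ∈ (S : Subgroup X), ∀ b ∈ (S : Subgroup X), a * b = b * a := by
    intro a ha b hb
    have h1 := hsq a ha
    have h2 := hsq b hb
    have h3 := hsq _ ((S : Subgroup X).mul_mem ha hb)
    have ha' : a⁻¹ = a := inv_eq_of_mul_eq_one_left h1
    have hb' : b⁻¹ = b := inv_eq_of_mul_eq_one_left h2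
    have h4 : (a * b)⁻¹ = a * b := inv_eq_of_mul_eq_one_left h3
    rw [mul_inv_rev, ha', hb'] at h4
    exact h4.symm
  intro g hg
  obtain ⟨u, v, huv, hc, hu2, hv, hu_z, hv_z⟩ := exists_jordan (p := 2) g
  obtain ⟨i, hi⟩ := Subgroup.mem_zpowers_iff.1 hu_z
  obtain ⟨l, hl⟩ := Subgroup.mem_zpowers_iff.1 hv_z
  have huN : u ∈ Subgroup.normalizer ((S : Subgroup X) : Set X) := by
    rw [← hi]
    exact Subgroup.zpow_mem _ hg i
  have hvN : v ∈ Subgroup.normalizer ((S : Subgroup X) : Set X) := by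
    rw [← hl]
    exact Subgroup.zpow_mem _ hg l
  have huS : u ∈ (S : Subgroup X) := mem_sylow_of_normalizes S hu2 huN
  have hvP : ∀ y ∈ (S : Subgroup X), v * y * v⁻¹ ∈ (S : Subgroup X) := fun y hy =>
    (Subgroup.mem_normalizer_iff.1 hvN y).1 hy
  have hvz : v * z * v⁻¹ = z := by
    rw [hzc v]
    group
  rw [Subgroup.mem_centralizer_iff]
  intro y hy
  have h1 := odd_fix_klein (P := S) hsq hcomm hcard hzS hz1 hv hvP hvz hy
  have h2 : v * y = y * v := by
    rw [← mul_inv_eq_iff_eq_mul]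
    exact h1
  have h3 := hcomm u huS _ hy
  rw [← huv]
  calc y * (u * v) = (y * u) * v := by group
    _ = (u * y) * v := by rw [h3]
    _ = u * (y * v) := by group
    _ = u * (v * y) := by rw [h2]
    _ = u * v * y := by group

end Burn

section Col

variable {G : Type*} [Group G] [Fintype G] {M : Ideal AlgInt}

open Classical in
/-- Sum of squares in the principal block at a `2`-element with `2`-nilpotent centralizer. -/
theorem col_of_complement (hM : IsPModular 2 M) {u : G} (hu : ∃ k, orderOf u = 2 ^ k)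
    (K : Subgroup (Subgroup.centralizer ({u} : Set G))) (hKn : K.Normal) (hK : ¬ 2 ∣ Nat.card K)
    (hidx : ∃ l, K.index = 2 ^ l) :
    haveI : Fintype (Subgroup.centralizer ({u} : Set G)) := Fintype.ofFinite _
    ∑ ζ : IrrCharacter G, (if ζ ∈ principalBlock M G then conj ((ζ : G → ℂ) u) * (ζ : G → ℂ) u else 0) =
      ((2 ^ (Nat.card (Subgroup.centralizer ({u} : Set G))).factorization 2 : ℕ) : ℂ) := by
  haveI : Fintype (Subgroup.centralizer ({u} : Set G)) := Fintype.ofFinite _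
  haveI : Fintype K := Fintype.ofFinite _
  have h1 := sum_principal_section hM hu (1 : Subgroup.centralizer ({u} : Set G)) (by simp)
  have h2 := sum_principal_pNilpotent (G := Subgroup.centralizer ({u} : Set G)) hM K hK hidx 1 (by simp)
  simp only [OneMemClass.coe_one, mul_one] at h1
  rw [h1, h2]

/-- Characters in the principal block are constant on `u O(C(u))`. -/
theorem section_const_of_complement (hM : IsPModular 2 M) {u : G} (hu : ∃ k, orderOf u = 2 ^ k)
    (K : Subgroup (Subgroup.centralizer ({u} : Set G))) (hKn : K.Normal) (hK : ¬ 2 ∣ Nat.card K)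
    (hidx : ∃ l, K.index = 2 ^ l) (y : Subgroup.centralizer ({u} : Set G)) (hy : ¬ 2 ∣ orderOf y)
    (ζ : IrrCharacter G) (hζ : ζ ∈ principalBlock M G) :
    (ζ : G → ℂ) (u * y) = (ζ : G → ℂ) u := by
  haveI : Fintype (Subgroup.centralizer ({u} : Set G)) := Fintype.ofFinite _
  haveI : Fintype K := Fintype.ofFinite _
  have hyK := mem_of_regular_of_index K hidx hy
  have hKle : K ≤ pPrimeCore 2 (Subgroup.centralizer ({u} : Set G)) := by
    apply Cfsg.Agent.Lib.Core.le_pPrimeCore hKn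
    exact ((Nat.Prime.coprime_iff_not_dvd Nat.prime_two).2 hK).symm
  exact irr_mul_of_principal hM hu ⟨y, hKle hyK, rfl⟩ ζ hζ

end Col

end Cfsg.Agent.Lib.FF
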