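import Cfsg.Agent.Lib.FF.TateMackey
import Cfsg.Agent.Lib.FF.DefOneAbs
import Cfsg.Agent.Lib.FF.DihLocal

/-!
# The relative trace of a line-type endomorphism and its rank formula

Representations `ρ` of a finite group on a lattice, an idempotent `e` commuting with the normalizer of
a subgroup of prime order, acting through a cyclic-by-cyclic quotient: the relative trace commutes with
the group and gives on the range of `e` the Tate rank formula.
-/

set_option autoImplicit false
set_option linter.unusedSectionVars false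
set_option linter.unusedVariables false

namespace Cfsg.Agent.Lib.FF

open Module

section ResE

variable {R L : Type*} [CommRing R] [AddCommGroup L] [Module R L]

/-- Restriction of an endomorphism commuting with `e` to the range of `e`. -/
noncomputable def resE (e T : Module.End R L) (h : Commute T e) : Module.End R (LinearMap.range e) :=
  T.restrict (p := LinearMap.range e) (fun v hv => by
    obtain ⟨w, rfl⟩ := hv
    exact ⟨T w, (congrArg (fun f : Module.End R L => f w) h.eq).symm⟩)

@[simp] theorem resE_coe (e T : Module.End R L) (h : Commute T e) (v : LinearMap.range e) :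
    ((resE e T h v : LinearMap.range e) : L) = T v := rfl

theorem resE_mul (e T T' : Module.End R L) (h : Commute T e) (h' : Commute T' e) :
    resE e T h * resE e T' h' = resE e (T * T') (h.mul_left h') := by
  ext v
  rfl

theorem resE_pow (e T : Module.End R L) (h : Commute T e) (n : ℕ) :
    (resE e T h) ^ n = resE e (T ^ n) (h.pow_left n) := by
  induction n with
  | zero =>
    ext v
    simp [resE_coe]
  | succ n ih =>
    ext v
    rw [pow_succ, ih, resE_mul]
    simp only [pow_succ]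

theorem resE_one (e : Module.End R L) : resE e 1 (Commute.one_left e) = 1 := by
  ext v
  rfl

theorem resE_sub (e T T' : Module.End R L) (h : Commute T e) (h' : Commute T' e) :
    resE e T h - resE e T' h' = resE e (T - T') (h.sub_left h') := by
  ext v
  rfl

theorem resE_nrm (e T : Module.End R L) (h : Commute T e) (p : ℕ) :
    nrm (resE e T h) p = resE e (nrm T p) ((commute_nrm_of_commute h.symm).symm) := by
  ext v
  simp only [nrm, LinearMap.sum_apply, resE_coe, AddSubmonoidClass.coe_finsetSum, resE_pow]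

theorem mem_range_of_idem {e : Module.End R L} (hee : e * e = e) (v : L) : v ∈ LinearMap.range e ↔ e v = v := by
  constructor
  · rintro ⟨w, rfl⟩
    exact congrArg (fun f : Module.End R L => f w) hee
  · intro h
    exact ⟨v, h⟩

theorem idem_coe {e : Module.End R L} (hee : e * e = e) (v : LinearMap.range e) : e (v : L) = v :=
  (mem_range_of_idem hee _).mp v.2

/-- Extension of an endomorphism of the range of `e` to the whole module, by zero on the kernel. -/
noncomputable def extE (e : Module.End R L) (g₁ : Module.End R (LinearMap.range e)) : Module.End R L :=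
  (LinearMap.range e).subtype ∘ₗ g₁ ∘ₗ e.rangeRestrict

theorem extE_coe {e : Module.End R L} (hee : e * e = e) (g₁ : Module.End R (LinearMap.range e))
    (v : LinearMap.range e) : extE e g₁ (v : L) = (g₁ v : L) := by
  show ((g₁ (e.rangeRestrict (v : L)) : LinearMap.range e) : L) = _
  have : e.rangeRestrict (v : L) = v := Subtype.ext (idem_coe hee v)
  rw [this]

theorem extE_commute {e : Module.End R L} (hee : e * e = e) (g₁ : Module.End R (LinearMap.range e))
    {T : Module.End R L} (h : Commute T e) (hg : Commute g₁ (resE e T h)) : Commute (extE e g₁) T := by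
  show extE e g₁ * T = T * extE e g₁
  refine LinearMap.ext fun w => ?_
  show ((g₁ (e.rangeRestrict (T w)) : LinearMap.range e) : L) =
    T ((g₁ (e.rangeRestrict w) : LinearMap.range e) : L)
  have h1 : e.rangeRestrict (T w) = resE e T h (e.rangeRestrict w) :=
    Subtype.ext (congrArg (fun f : Module.End R L => f w) h.eq.symm)
  rw [h1]
  have h2 := congrArg (fun f : Module.End R (LinearMap.range e) => ((f (e.rangeRestrict w) : LinearMap.range e) : L)) hg.eq
  exact h2

end ResE

section Rep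

variable {G : Type*} [Group G] {R L : Type*} [CommRing R] [AddCommGroup L] [Module R L]

/-- The data of a defect-one representation on the range of an idempotent. -/
structure RepData (ρ : G →* Module.End R L) (e : Module.End R L) (x t₀ : G) (p s s' j₀ : ℕ) : Prop where
  hee : e * e = e
  hx : orderOf x = p
  hxs : t₀ * x * t₀⁻¹ = x ^ s
  hxs' : t₀⁻¹ * x * t₀ = x ^ s'
  he : ∀ n ∈ Subgroup.normalizer ((Subgroup.zpowers x : Subgroup G) : Set G), Commute (ρ n) e
  hform : ∀ n ∈ Subgroup.normalizer ((Subgroup.zpowers x : Subgroup G) : Set G), ∃ i j : ℕ,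
    ρ n * e = ρ (x ^ j * t₀ ^ i) * e
  htp : ρ (t₀ ^ (p - 1)) * e = ρ (x ^ j₀) * e

variable [Fintype G] {ρ : G →* Module.End R L} {e : Module.End R L} {x t₀ : G} {p s s' j₀ : ℕ}

namespace RepData

variable (D : RepData ρ e x t₀ p s s' j₀)
include D

theorem mem_x : x ∈ Subgroup.normalizer ((Subgroup.zpowers x : Subgroup G) : Set G) :=
  Subgroup.le_normalizer (Subgroup.mem_zpowers x)

theorem mem_t : t₀ ∈ Subgroup.normalizer ((Subgroup.zpowers x : Subgroup G) : Set G) := by
  apply mem_normalizer_zpowers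
  rw [D.hxs]
  exact Subgroup.pow_mem _ (Subgroup.mem_zpowers x) _

/-- The generator on the range of `e`. -/
noncomputable def X₁ : Module.End R (LinearMap.range e) :=
  resE e (ρ x) (D.he x D.mem_x)

/-- The normalizing operator on the range of `e`. -/
noncomputable def t₁ : Module.End R (LinearMap.range e) :=
  resE e (ρ t₀) (D.he t₀ D.mem_t)

theorem X₁_pow_coe (j : ℕ) (v : LinearMap.range e) : (((D.X₁ ^ j) v : LinearMap.range e) : L) = ρ (x ^ j) v := by
  unfold X₁
  rw [resE_pow, resE_coe, map_pow]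

theorem t₁_pow_coe (j : ℕ) (v : LinearMap.range e) : (((D.t₁ ^ j) v : LinearMap.range e) : L) = ρ (t₀ ^ j) v := by
  unfold t₁
  rw [resE_pow, resE_coe, map_pow]

theorem op_coe (i j : ℕ) (v : LinearMap.range e) :
    (((D.X₁ ^ j * D.t₁ ^ i) v : LinearMap.range e) : L) = ρ (x ^ j * t₀ ^ i) v := by
  rw [Module.End.mul_apply, X₁_pow_coe, t₁_pow_coe, map_mul, Module.End.mul_apply]

theorem X₁_pow : D.X₁ ^ p = 1 := by
  ext v
  rw [X₁_pow_coe, ← D.hx, pow_orderOf_eq_one, map_one]
  rfl

theorem t₁_pow : D.t₁ ^ (p - 1) = D.X₁ ^ j₀ := by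
  ext v
  rw [X₁_pow_coe, t₁_pow_coe]
  have h := congrArg (fun f : Module.End R L => f (v : L)) D.htp
  simp only [Module.End.mul_apply, idem_coe D.hee v] at h
  exact h

theorem t_mul_X : D.t₁ * D.X₁ = D.X₁ ^ s * D.t₁ := by
  have h : t₀ * x = x ^ s * t₀ := by
    rw [← D.hxs]
    group
  ext v
  have h2 := congrArg (fun g : G => ρ g (v : L)) h
  simp only [map_mul, Module.End.mul_apply] at h2
  rw [Module.End.mul_apply, Module.End.mul_apply]
  show ρ t₀ (ρ x v) = ((D.X₁ ^ s) (D.t₁ v) : LinearMap.range e)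
  rw [X₁_pow_coe, h2]
  rfl

theorem X_mul_t : D.X₁ * D.t₁ = D.t₁ * D.X₁ ^ s' := by
  have h : x * t₀ = t₀ * x ^ s' := by
    rw [← D.hxs']
    group
  ext v
  have h2 := congrArg (fun g : G => ρ g (v : L)) h
  simp only [map_mul, Module.End.mul_apply] at h2
  rw [Module.End.mul_apply, Module.End.mul_apply]
  show ρ x (ρ t₀ v) = ρ t₀ ((D.X₁ ^ s') v : LinearMap.range e)
  rw [X₁_pow_coe, h2]

theorem sum_conj_eq [Fintype (Subgroup.zpowers x)] {z : G}
    (hz : z ∈ Subgroup.normalizer ((Subgroup.zpowers x : Subgroup G) : Set G)) :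
    ∑ q : Subgroup.zpowers x, ρ (z * (q : G) * z⁻¹) = ∑ q : Subgroup.zpowers x, ρ (q : G) := by
  have hmem : ∀ q : Subgroup.zpowers x, z * (q : G) * z⁻¹ ∈ Subgroup.zpowers x := fun q =>
    (Subgroup.mem_normalizer_iff.mp hz _).mp q.2
  let φ : Subgroup.zpowers x → Subgroup.zpowers x := fun q => ⟨z * (q : G) * z⁻¹, hmem q⟩
  have hφ : Function.Injective φ := by
    intro a b hab
    have : z * (a : G) * z⁻¹ = z * (b : G) * z⁻¹ := congrArg Subtype.val hab
    exact Subtype.ext (by simpa using this)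
  have hb : Function.Bijective φ := ⟨hφ, Finite.surjective_of_injective hφ⟩
  exact hb.sum_comp (fun q : Subgroup.zpowers x => ρ (q : G))

theorem sum_zpowers_rho [Fintype (Subgroup.zpowers x)] :
    ∑ q : Subgroup.zpowers x, ρ (q : G) = nrm (ρ x) p := by
  classical
  rw [sum_zpowers_eq x (fun g => ρ g), D.hx, nrm]
  simp only [map_pow]

theorem commute_nrm_rho {z : G}
    (hz : z ∈ Subgroup.normalizer ((Subgroup.zpowers x : Subgroup G) : Set G)) :
    Commute (ρ z) (nrm (ρ x) p) := by
  classical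
  let _ : Fintype (Subgroup.zpowers x) := Fintype.ofFinite _
  show ρ z * nrm (ρ x) p = nrm (ρ x) p * ρ z
  have h1 : ∀ q : Subgroup.zpowers x, ρ z * ρ (q : G) = ρ (z * (q : G) * z⁻¹) * ρ z := by
    intro q
    rw [← map_mul, ← map_mul]
    congr 1
    group
  rw [← D.sum_zpowers_rho, Finset.mul_sum]
  simp_rw [h1]
  rw [← Finset.sum_mul, D.sum_conj_eq hz]

theorem t_commute_nrm : Commute D.t₁ (nrm D.X₁ p) := by
  show D.t₁ * nrm D.X₁ p = nrm D.X₁ p * D.t₁
  ext v
  have hc := congrArg (fun f : Module.End R L => f (v : L)) (D.commute_nrm_rho D.mem_t).eq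
  simp only [Module.End.mul_apply] at hc
  unfold X₁ t₁ at *
  rw [resE_nrm, Module.End.mul_apply, Module.End.mul_apply, resE_coe, resE_coe, resE_coe, resE_coe]
  exact hc

/-- Pair stability for `W`. -/
theorem pairStable_W :
    PairStable (LinearMap.ker (D.X₁ - 1)) (LinearMap.range (nrm D.X₁ p)) D.X₁ D.t₁ := by
  have hXp := D.X₁_pow
  have hfix : ∀ v ∈ LinearMap.ker (D.X₁ - 1), D.X₁ v = v := by
    intro v hv
    have := LinearMap.mem_ker.mp hv
    rw [LinearMap.sub_apply, sub_eq_zero] at this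
    exact this
  have hT : ∀ v ∈ LinearMap.range (nrm D.X₁ p), D.X₁ v = v := by
    rintro _ ⟨w, rfl⟩
    have h := congrArg (fun f : Module.End R (LinearMap.range e) => f w) (y_mul_nrm hXp)
    simp only [Module.End.mul_apply, LinearMap.sub_apply, Module.End.one_apply, LinearMap.zero_apply, sub_eq_zero] at h
    exact h
  refine ⟨?_, ?_, ?_, ?_, ?_, ?_⟩
  · intro v hv
    refine LinearMap.mem_ker.mpr ?_
    rw [LinearMap.sub_apply, hT v hv]
    simp
  · intro v hv
    refine LinearMap.mem_ker.mpr ?_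
    have h := congrArg (fun f : Module.End R (LinearMap.range e) => f v) D.X_mul_t
    simp only [Module.End.mul_apply] at h
    have hpow : ∀ n : ℕ, (D.X₁ ^ n) v = v := by
      intro n
      induction n with
      | zero => simp
      | succ n ih => rw [pow_succ, Module.End.mul_apply, hfix v hv, ih]
    rw [hpow] at h
    rw [LinearMap.sub_apply, h]
    simp
  · rintro _ ⟨w, rfl⟩
    refine ⟨D.t₁ w, ?_⟩
    exact (congrArg (fun f : Module.End R (LinearMap.range e) => f w) D.t_commute_nrm.eq).symm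
  · intro v hv
    rw [hfix v hv]
    exact hv
  · intro v hv
    rw [hT v hv]
    exact hv
  · intro v hv
    rw [hfix v hv, sub_self]
    exact Submodule.zero_mem _

/-- Pair stability for `W'`. -/
theorem pairStable_W' :
    PairStable (LinearMap.ker (nrm D.X₁ p)) (LinearMap.range (D.X₁ - 1)) D.X₁ D.t₁ := by
  have hXp := D.X₁_pow
  have hpowy : ∀ (n : ℕ) (w : LinearMap.range e), (D.X₁ ^ n - 1) w ∈ LinearMap.range (D.X₁ - 1) := by
    intro n w
    have h := mul_geom_sum D.X₁ n
    rw [← h, Module.End.mul_apply]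
    exact ⟨_, rfl⟩
  refine ⟨?_, ?_, ?_, ?_, ?_, ?_⟩
  · rintro _ ⟨w, rfl⟩
    refine LinearMap.mem_ker.mpr ?_
    exact congrArg (fun f : Module.End R (LinearMap.range e) => f w) (nrm_mul_y hXp)
  · intro v hv
    refine LinearMap.mem_ker.mpr ?_
    have h := congrArg (fun f : Module.End R (LinearMap.range e) => f v) D.t_commute_nrm.eq
    simp only [Module.End.mul_apply] at h
    rw [← h, LinearMap.mem_ker.mp hv, map_zero]
  · rintro _ ⟨w, rfl⟩
    have h := congrArg (fun f : Module.End R (LinearMap.range e) => f w) D.t_mul_X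
    simp only [Module.End.mul_apply] at h
    have h3 : D.t₁ ((D.X₁ - 1) w) = (D.X₁ ^ s - 1) (D.t₁ w) := by
      rw [LinearMap.sub_apply, map_sub, h, LinearMap.sub_apply]
      simp
    rw [h3]
    exact hpowy s _
  · intro v hv
    refine LinearMap.mem_ker.mpr ?_
    have h := congrArg (fun f : Module.End R (LinearMap.range e) => f v) (commute_nrm_of_commute (p := p) (Commute.refl D.X₁)).eq
    simp only [Module.End.mul_apply] at h
    rw [← h, LinearMap.mem_ker.mp hv, map_zero]
  · rintro _ ⟨w, rfl⟩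
    refine ⟨D.X₁ w, ?_⟩
    simp only [LinearMap.sub_apply, Module.End.one_apply, map_sub]
  · intro v _
    exact ⟨v, by simp⟩

/-- On the range of `e`, a normalizer element acts as a product of powers. -/
theorem mackey_term (g₁ : Module.End R (LinearMap.range e)) {n : G}
    (hn : n ∈ Subgroup.normalizer ((Subgroup.zpowers x : Subgroup G) : Set G)) :
    ∃ i j i' j' : ℕ, (∀ w : LinearMap.range e, (D.X₁ ^ j * D.t₁ ^ i) ((D.X₁ ^ j' * D.t₁ ^ i') w) = w) ∧
      ∀ (g₁ : Module.End R (LinearMap.range e)) (v : LinearMap.range e),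
        e (ρ n (extE e g₁ (ρ n⁻¹ (v : L)))) =
          (((D.X₁ ^ j * D.t₁ ^ i) (g₁ ((D.X₁ ^ j' * D.t₁ ^ i') v)) : LinearMap.range e) : L) := by
  obtain ⟨i, j, h1⟩ := D.hform n hn
  obtain ⟨i', j', h2⟩ := D.hform n⁻¹ (Subgroup.inv_mem _ hn)
  have h1' : ∀ v : LinearMap.range e, ρ n (v : L) = ((D.X₁ ^ j * D.t₁ ^ i) v : LinearMap.range e) := by
    intro v
    have := congrArg (fun f : Module.End R L => f (v : L)) h1
    simp only [Module.End.mul_apply, idem_coe D.hee v] at this
    rw [this, D.op_coe]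
  have h2' : ∀ v : LinearMap.range e, ρ n⁻¹ (v : L) = ((D.X₁ ^ j' * D.t₁ ^ i') v : LinearMap.range e) := by
    intro v
    have := congrArg (fun f : Module.End R L => f (v : L)) h2
    simp only [Module.End.mul_apply, idem_coe D.hee v] at this
    rw [this, D.op_coe]
  refine ⟨i, j, i', j', ?_, ?_⟩
  · intro w
    apply Subtype.ext
    rw [← h1', ← h2', ← Module.End.mul_apply, ← map_mul, mul_inv_cancel, map_one]
    rfl
  · intro g₁ v
    rw [h2', extE_coe D.hee, h1', idem_coe D.hee]

end RepData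

end Rep

section Main

variable {G : Type*} [Group G] [Fintype G] {R L : Type*} [CommRing R] [AddCommGroup L] [Module R L]
variable {k V : Type*} [Field k] [AddCommGroup V] [Module k V]
variable {ρ : G →* Module.End R L} {e : Module.End R L} {x t₀ : G} {p s s' j₀ : ℕ}

/-- The cosets fixed by `P`. -/
theorem out_mem_normalizer {x : G} {c : G ⧸ Subgroup.zpowers x}
    (hc : ∀ q : Subgroup.zpowers x, (q : G) • c = c) :
    (Quotient.out c : G) ∈ Subgroup.normalizer ((Subgroup.zpowers x : Subgroup G) : Set G) := by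
  have h1 := hc ⟨x, Subgroup.mem_zpowers x⟩
  have h2 : x • c = ((x * Quotient.out c : G) : G ⧸ Subgroup.zpowers x) := by
    conv_lhs => rw [← QuotientGroup.out_eq' c]
    rfl
  have h3 : ((x * Quotient.out c : G) : G ⧸ Subgroup.zpowers x) = ((Quotient.out c : G) : G ⧸ Subgroup.zpowers x) := by
    rw [← h2, QuotientGroup.out_eq']
    exact h1
  have h4 := (QuotientGroup.eq.mp h3)
  have h5 : (Quotient.out c : G)⁻¹ * x * Quotient.out c ∈ Subgroup.zpowers x := by
    have h6 := Subgroup.inv_mem _ h4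
    simpa [mul_assoc] using h6
  have h7 := mem_normalizer_zpowers (a := x) (h := (Quotient.out c : G)⁻¹) (by simpa using h5)
  simpa using Subgroup.inv_mem _ h7

/-- The fixed cosets: free action off the fixed points, since `zpowers x` has prime order. -/
theorem free_of_not_fixed {x : G} (hp : p.Prime) (hx : orderOf x = p) {c : G ⧸ Subgroup.zpowers x}
    (hc : ¬ ∀ q : Subgroup.zpowers x, (q : G) • c = c) (q : Subgroup.zpowers x) (hq : (q : G) • c = c) : q = 1 := by
  by_contra hne
  apply hc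
  have hcard : Nat.card (Subgroup.zpowers x) = p := by rw [Nat.card_zpowers, hx]
  have : Fact (Nat.card (Subgroup.zpowers x)).Prime := ⟨by rw [hcard]; exact hp⟩
  have hz : Subgroup.zpowers q = ⊤ := by
    rcases Subgroup.eq_bot_or_eq_top_of_prime_card (Subgroup.zpowers q) with h | h
    · exact absurd (Subgroup.zpowers_eq_bot.mp h) hne
    · exact h
  intro q'
  have hq' : q' ∈ Subgroup.zpowers q := by
    rw [hz]
    exact Subgroup.mem_top _
  obtain ⟨m, rfl⟩ := Subgroup.mem_zpowers_iff.1 hq'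
  have h1 : ∀ m : ℤ, ((q : G) ^ m) • c = c := by
    intro m
    have hs : (q : G) ∈ MulAction.stabilizer G c := hq
    exact Subgroup.zpow_mem _ hs m
  simpa using h1 m

theorem natCast_ne_of_coprime (d : RedData p R k L V) {n : ℕ} (hn : Nat.Coprime n p) : d.σ (n : R) ≠ 0 := by
  intro h
  rw [map_natCast] at h
  have h2 : (p : k) = 0 := by
    have := d.σ_p
    rwa [map_natCast] at this
  have h3 : ringChar k ∣ n := (ringChar.spec k n).mp h
  have h4 : ringChar k ∣ p := (ringChar.spec k p).mp h2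
  have h5 : ringChar k ∣ 1 := by
    rw [← hn.gcd_eq_one]
    exact Nat.dvd_gcd h3 h4
  exact CharP.ringChar_ne_one (Nat.dvd_one.mp h5)

section MainTheorem

variable [hp : Fact p.Prime] [Fintype (G ⧸ Subgroup.zpowers x)] [DecidableEq (G ⧸ Subgroup.zpowers x)]

theorem RepData.commute_ext (D : RepData ρ e x t₀ p s s' j₀) {g₁ : Module.End R (LinearMap.range e)} (hg₁ : Commute g₁ D.X₁) :
    ∀ q ∈ Subgroup.zpowers x, Commute (extE e g₁) (ρ q) := by
  intro q hq
  obtain ⟨n, rfl⟩ := (mem_powers_iff_mem_zpowers.mpr hq)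
  have h : Commute (extE e g₁) (ρ x) := extE_commute D.hee g₁ (D.he x D.mem_x) hg₁
  simp only [map_pow]
  exact h.pow_right n

theorem RepData.e_commute (D : RepData ρ e x t₀ p s s' j₀) : ∀ q ∈ Subgroup.zpowers x, Commute e (ρ q) := fun q hq =>
  (D.he q (Subgroup.le_normalizer hq)).symm

theorem RepData.mackey_A (D : RepData ρ e x t₀ p s s' j₀) [Fintype (Subgroup.zpowers x)]
    {g₁ : Module.End R (LinearMap.range e)} (hg₁ : Commute g₁ D.X₁)
    (Fix : Finset (G ⧸ Subgroup.zpowers x)) (hfix : ∀ c, c ∈ Fix ↔ ∀ q : Subgroup.zpowers x, (q : G) • c = c)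
    (hF : Commute (relTrace ρ (Subgroup.zpowers x) (extE e g₁)) e)
    {v : LinearMap.range e} (hv : v ∈ LinearMap.ker (D.X₁ - 1))
    (hconj : ∀ i j i' j' : ℕ, (∀ w, (D.X₁ ^ j * D.t₁ ^ i) ((D.X₁ ^ j' * D.t₁ ^ i') w) = w) →
      (D.X₁ ^ j * D.t₁ ^ i) (g₁ ((D.X₁ ^ j' * D.t₁ ^ i') v)) - g₁ v ∈ LinearMap.range (nrm D.X₁ p)) :
    ∃ w, resE e _ hF v - (Fix.card : R) • g₁ v = nrm D.X₁ p w := by
  classical
  have hfree : ∀ c ∉ Fix, ∀ q : Subgroup.zpowers x, (q : G) • c = c → q = 1 := by
    intro c hc q hq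
    exact free_of_not_fixed hp.out D.hx (fun h => hc ((hfix c).mpr h)) q hq
  have hX1v : D.X₁ v = v := by
    have := LinearMap.mem_ker.mp hv
    rw [LinearMap.sub_apply, sub_eq_zero] at this
    exact this
  have hpow : ∀ n : ℕ, (D.X₁ ^ n) v = v := by
    intro n
    induction n with
    | zero => simp
    | succ n ih => rw [pow_succ, Module.End.mul_apply, hX1v, ih]
  have key := relTrace_tate_A ρ (Subgroup.zpowers x) (D.commute_ext hg₁) e D.e_commute D.hee Fix Fix (Finset.Subset.refl _)
    hfree hfix (fun c hc hc' => absurd hc hc')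
    (((LinearMap.range (nrm D.X₁ p)).map (LinearMap.range e).subtype).toAddSubgroup) (by
      intro w hw
      rw [D.sum_zpowers_rho]
      refine ⟨nrm D.X₁ p ⟨w, (mem_range_of_idem D.hee w).mpr hw⟩, ⟨_, rfl⟩, ?_⟩
      unfold RepData.X₁
      rw [resE_nrm]
      rfl) (v : L) (by
      intro q
      obtain ⟨n, hn⟩ := (mem_powers_iff_mem_zpowers.mpr q.2)
      rw [← hn, ← D.X₁_pow_coe, hpow]) (by
      intro c hc
      have hn := out_mem_normalizer ((hfix c).mp hc)
      obtain ⟨i, j, i', j', h1, h2⟩ := D.mackey_term g₁ hn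
      have h3 := h2 g₁ v
      have h4 := hconj i j i' j' h1
      show _ ∈ ((LinearMap.range (nrm D.X₁ p)).map (LinearMap.range e).subtype)
      have h5 : e (conjOp ρ (extE e g₁) (Quotient.out c) (v : L)) - extE e g₁ (v : L) =
          (LinearMap.range e).subtype ((D.X₁ ^ j * D.t₁ ^ i) (g₁ ((D.X₁ ^ j' * D.t₁ ^ i') v)) - g₁ v) := by
        rw [map_sub, extE_coe D.hee]
        show e (ρ (Quotient.out c) (extE e g₁ (ρ (Quotient.out c)⁻¹ (v : L)))) - _ = _
        rw [h3]
        rfl
      rw [h5]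
      exact Submodule.mem_map_of_mem h4)
  obtain ⟨w₁, ⟨w, rfl⟩, hw⟩ : _ ∈ ((LinearMap.range (nrm D.X₁ p)).map (LinearMap.range e).subtype) := key
  refine ⟨w, Subtype.ext ?_⟩
  have h1 : e (relTrace ρ (Subgroup.zpowers x) (extE e g₁) (v : L)) = relTrace ρ (Subgroup.zpowers x) (extE e g₁) (v : L) := by
    have := congrArg (fun f : Module.End R L => f (v : L)) hF.eq
    simp only [Module.End.mul_apply, idem_coe D.hee v] at this
    exact this.symm
  rw [h1, extE_coe D.hee, ← Nat.cast_smul_eq_nsmul R] at hw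
  exact hw.symm

theorem RepData.mackey_B (D : RepData ρ e x t₀ p s s' j₀) [Fintype (Subgroup.zpowers x)]
    {g₁ : Module.End R (LinearMap.range e)} (hg₁ : Commute g₁ D.X₁)
    (Fix : Finset (G ⧸ Subgroup.zpowers x)) (hfix : ∀ c, c ∈ Fix ↔ ∀ q : Subgroup.zpowers x, (q : G) • c = c)
    (hF : Commute (relTrace ρ (Subgroup.zpowers x) (extE e g₁)) e)
    {v : LinearMap.range e} (hv : v ∈ LinearMap.ker (nrm D.X₁ p))
    (hconj : ∀ i j i' j' : ℕ, (∀ w, (D.X₁ ^ j * D.t₁ ^ i) ((D.X₁ ^ j' * D.t₁ ^ i') w) = w) →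
      (D.X₁ ^ j * D.t₁ ^ i) (g₁ ((D.X₁ ^ j' * D.t₁ ^ i') v)) - g₁ v ∈ LinearMap.range (D.X₁ - 1)) :
    ∃ w, resE e _ hF v - (Fix.card : R) • g₁ v = (D.X₁ - 1) w := by
  classical
  have hfree : ∀ c ∉ Fix, ∀ q : Subgroup.zpowers x, (q : G) • c = c → q = 1 := by
    intro c hc q hq
    exact free_of_not_fixed hp.out D.hx (fun h => hc ((hfix c).mpr h)) q hq
  have key := relTrace_tate_B ρ (Subgroup.zpowers x) (D.commute_ext hg₁) e D.e_commute D.hee Fix Fix (Finset.Subset.refl _)
    hfree hfix (fun c hc hc' => absurd hc hc')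
    (((LinearMap.range (D.X₁ - 1)).map (LinearMap.range e).subtype).toAddSubgroup) (by
      intro w q hw
      obtain ⟨n, hn⟩ := (mem_powers_iff_mem_zpowers.mpr q.2)
      have hmem := (mem_range_of_idem D.hee w).mpr hw
      have h1 : ρ (q : G) w - w = (LinearMap.range e).subtype (((D.X₁ - 1) * ∑ i ∈ Finset.range n, D.X₁ ^ i) ⟨w, hmem⟩) := by
        rw [mul_geom_sum, LinearMap.sub_apply, map_sub, ← hn]
        show _ = (((D.X₁ ^ n) ⟨w, hmem⟩ : LinearMap.range e) : L) - w
        rw [D.X₁_pow_coe]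
      rw [h1]
      exact Submodule.mem_map_of_mem ⟨_, rfl⟩) (v : L) (by
      rw [D.sum_zpowers_rho]
      have := LinearMap.mem_ker.mp hv
      have h2 := congrArg (fun u : LinearMap.range e => (u : L)) this
      unfold RepData.X₁ at h2
      rw [resE_nrm] at h2
      exact h2) (by
      intro c hc
      have hn := out_mem_normalizer ((hfix c).mp hc)
      obtain ⟨i, j, i', j', h1, h2⟩ := D.mackey_term g₁ hn
      have h3 := h2 g₁ v
      have h4 := hconj i j i' j' h1
      show _ ∈ ((LinearMap.range (D.X₁ - 1)).map (LinearMap.range e).subtype)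
      have h5 : e (conjOp ρ (extE e g₁) (Quotient.out c) (v : L)) - extE e g₁ (v : L) =
          (LinearMap.range e).subtype ((D.X₁ ^ j * D.t₁ ^ i) (g₁ ((D.X₁ ^ j' * D.t₁ ^ i') v)) - g₁ v) := by
        rw [map_sub, extE_coe D.hee]
        show e (ρ (Quotient.out c) (extE e g₁ (ρ (Quotient.out c)⁻¹ (v : L)))) - _ = _
        rw [h3]
        rfl
      rw [h5]
      exact Submodule.mem_map_of_mem h4)
  obtain ⟨w₁, ⟨w, rfl⟩, hw⟩ : _ ∈ ((LinearMap.range (D.X₁ - 1)).map (LinearMap.range e).subtype) := key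
  refine ⟨w, Subtype.ext ?_⟩
  have h1 : e (relTrace ρ (Subgroup.zpowers x) (extE e g₁) (v : L)) = relTrace ρ (Subgroup.zpowers x) (extE e g₁) (v : L) := by
    have := congrArg (fun f : Module.End R L => f (v : L)) hF.eq
    simp only [Module.End.mul_apply, idem_coe D.hee v] at this
    exact this.symm
  rw [h1, extE_coe D.hee, ← Nat.cast_smul_eq_nsmul R] at hw
  exact hw.symm

end MainTheorem

/-- **The rank formula** on the range of `e`. -/
theorem RepData.exists_F_rank [Finite k] [FiniteDimensional k V] [hp : Fact p.Prime]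
    [Module.Free R (LinearMap.range e)]
    (D : RepData ρ e x t₀ p s s' j₀) (d : RedData p R k (LinearMap.range e) V)
    (hpc : ∀ a b : R, (p : R) * a = (p : R) * b → a = b)
    (htf : ∀ v : LinearMap.range e, (p : R) • v = 0 → v = 0)
    (hp2 : ¬ p ^ 2 ∣ Fintype.card G)
    (hne : (∃ a₁ ∈ LinearMap.ker (D.X₁ - 1), a₁ ∉ LinearMap.range (nrm D.X₁ p)) ∨
      ∃ b₁ ∈ LinearMap.ker (nrm D.X₁ p), b₁ ∉ LinearMap.range (D.X₁ - 1)) :
    ∃ F : Module.End R L, (∀ g, Commute F (ρ g)) ∧ ∀ (hF : Commute F e) (M : ℕ),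
      IsIdempotentElem (d.bar ((resE e F hF) ^ (M + 1)) : Module.End k V) →
      (((p : ℤ) - 1) * rk (d.bar ((resE e F hF) ^ (M + 1))) (d.imS (LinearMap.ker (D.X₁ - 1))) -
        rk (d.bar ((resE e F hF) ^ (M + 1))) (d.imS (LinearMap.ker (nrm D.X₁ p))) = (p : ℤ) - 1) ∨
      (((p : ℤ) - 1) * rk (d.bar ((resE e F hF) ^ (M + 1))) (d.imS (LinearMap.ker (D.X₁ - 1))) -
        rk (d.bar ((resE e F hF) ^ (M + 1))) (d.imS (LinearMap.ker (nrm D.X₁ p))) = -((p : ℤ) - 1)) := by
  classical
  let _ : Fintype (G ⧸ Subgroup.zpowers x) := Fintype.ofFinite _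
  let _ : Fintype (Subgroup.zpowers x) := Fintype.ofFinite _
  let Fix : Finset (G ⧸ Subgroup.zpowers x) :=
    Finset.univ.filter fun c => ∀ q : Subgroup.zpowers x, (q : G) • c = c
  have hfix : ∀ c, c ∈ Fix ↔ ∀ q : Subgroup.zpowers x, (q : G) • c = c := by
    intro c
    simp [Fix]
  have hXp := D.X₁_pow
  have hc₀ : d.σ (Fix.card : R) ≠ 0 := by
    apply natCast_ne_of_coprime d
    have hpg : IsPGroup p (Subgroup.zpowers x) := by
      apply IsPGroup.of_card (n := 1)
      rw [Nat.card_zpowers, D.hx, pow_one]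
    have hmod := hpg.card_modEq_card_fixedPoints (G ⧸ Subgroup.zpowers x)
    have hFixcard : Nat.card (MulAction.fixedPoints (Subgroup.zpowers x) (G ⧸ Subgroup.zpowers x)) = Fix.card := by
      rw [Nat.card_eq_fintype_card, Fintype.card_of_subtype Fix]
      intro c
      rw [hfix]
      rfl
    rw [hFixcard] at hmod
    have hidx : Nat.Coprime (Nat.card (G ⧸ Subgroup.zpowers x)) p := by
      rw [Nat.coprime_comm, Nat.Prime.coprime_iff_not_dvd hp.out]
      intro hdvd
      apply hp2
      have h1 := (Subgroup.zpowers x).card_mul_index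
      rw [Nat.card_zpowers, D.hx, Subgroup.index_eq_card, Nat.card_eq_fintype_card (α := G)] at h1
      rw [← h1, pow_two]
      exact Nat.mul_dvd_mul_left p hdvd
    have : Nat.gcd (Nat.card (G ⧸ Subgroup.zpowers x)) p = Nat.gcd Fix.card p := hmod.gcd_eq
    rw [Nat.Coprime, ← this]
    exact hidx
  have hV : Finite (Module.End k V) := Module.finite_of_finite k
  rcases hne with ⟨a₁, ha₁, ha₁T⟩ | ⟨b₁, hb₁, hb₁T⟩
  · obtain ⟨g, a, ℓ, hgX, ha, haN, hℓa, hgA, hgB, hconj⟩ :=
      exists_g_W d hpc htf hXp D.pairStable_W D.t₁_pow ha₁ ha₁T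
    have hst := D.pairStable_W'
    refine ⟨relTrace ρ (Subgroup.zpowers x) (extE e g), relTrace_commute ρ _ (D.commute_ext hgX), ?_⟩
    intro hF M hM
    left
    have hfX : Commute (resE e _ hF) D.X₁ := by
      have h1 := relTrace_commute ρ (Subgroup.zpowers x) (D.commute_ext hgX) x
      show resE e _ hF * D.X₁ = D.X₁ * resE e _ hF
      ext v
      exact congrArg (fun f : Module.End R L => f (v : L)) h1.eq
    refine rank_W d htf hXp hfX hc₀ ha haN hℓa hgA hgB ?_ ?_ hV M hM
    · intro v hv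
      exact D.mackey_A hgX Fix hfix hF hv (fun i j i' j' h => hconj i j i' j' h v hv)
    · intro v hv
      refine D.mackey_B hgX Fix hfix hF hv (fun i j i' j' h => ?_)
      have h1 : (D.X₁ ^ j' * D.t₁ ^ i') v ∈ LinearMap.ker (nrm D.X₁ p) := by
        rw [Module.End.mul_apply]
        exact hst.pow_XS j' _ (hst.pow_tS i' _ hv)
      rw [hgB _ h1, hgB v hv, map_zero, sub_zero]
      exact Submodule.zero_mem _
  · obtain ⟨g, b, ℓ, hgX, hb, hbN, hℓb, hgB, hgA, hconj⟩ :=
      exists_g_W' d htf hXp D.pairStable_W' D.t₁_pow hb₁ hb₁T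
    have hst := D.pairStable_W
    refine ⟨relTrace ρ (Subgroup.zpowers x) (extE e g), relTrace_commute ρ _ (D.commute_ext hgX), ?_⟩
    intro hF M hM
    right
    have hfX : Commute (resE e _ hF) D.X₁ := by
      have h1 := relTrace_commute ρ (Subgroup.zpowers x) (D.commute_ext hgX) x
      show resE e _ hF * D.X₁ = D.X₁ * resE e _ hF
      ext v
      exact congrArg (fun f : Module.End R L => f (v : L)) h1.eq
    refine rank_W' d htf hXp hfX hc₀ hb hbN hℓb hgB hgA ?_ ?_ M hM
    · intro v hv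
      refine D.mackey_A hgX Fix hfix hF hv (fun i j i' j' h => ?_)
      have h1 : (D.X₁ ^ j' * D.t₁ ^ i') v ∈ LinearMap.ker (D.X₁ - 1) := by
        rw [Module.End.mul_apply]
        exact hst.pow_XS j' _ (hst.pow_tS i' _ hv)
      rw [hgA _ h1, hgA v hv, map_zero, sub_zero]
      exact ⟨0, map_zero _⟩
    · intro v hv
      exact D.mackey_B hgX Fix hfix hF hv (fun i j i' j' h => hconj i j i' j' h v hv)

end Main

end Cfsg.Agent.Lib.FF
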