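import Cfsg.Agent.Lib.FF.Burnside
import Cfsg.Prelude.Def_IsolatedElements
import Mathlib

/-!
# Isolated `p`-elements.  Owner: helper18.
-/

set_option autoImplicit false
set_option linter.unusedSectionVars false

namespace Cfsg.Agent.Lib.FF

open Subgroup Cfsg

variable {G : Type*} [Group G] [Finite G] {p : ℕ} [hp : Fact p.Prime] {x : G}

omit [Finite G] in
theorem isPGroup_zpowers_of_pow_eq_one {z : G} {k : ℕ} (h : z ^ p ^ k = 1) :
    IsPGroup p (zpowers z) := by
  rintro ⟨w, hw⟩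
  obtain ⟨j, rfl⟩ := Subgroup.mem_zpowers_iff.mp hw
  refine ⟨k, ?_⟩
  apply Subtype.ext
  simp only [SubmonoidClass.coe_pow, OneMemClass.coe_one]
  rw [← zpow_natCast, ← zpow_mul, mul_comm, zpow_mul, zpow_natCast, h, one_zpow]

omit [Finite G] in
theorem mem_of_pow_mem_of_pow_mem {H : Subgroup G} {g : G} {a b : ℕ} (ha : g ^ a ∈ H) (hb : g ^ b ∈ H)
    (hc : a.Coprime b) : g ∈ H := by
  have h1 : ((Nat.gcd a b : ℕ) : ℤ) = a * Nat.gcdA a b + b * Nat.gcdB a b := Nat.gcd_eq_gcd_ab a b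
  rw [hc, Nat.cast_one] at h1
  have h2 : g = (g ^ a) ^ (Nat.gcdA a b) * (g ^ b) ^ (Nat.gcdB a b) := by
    rw [← zpow_natCast, ← zpow_natCast, ← zpow_mul, ← zpow_mul, ← zpow_add, ← h1, zpow_one]
  rw [h2]
  exact H.mul_mem (H.zpow_mem ha _) (H.zpow_mem hb _)

/-- An isolated `p`-element is central in each `p`-subgroup containing it. -/
theorem isolated_le_centralizer (hiso : IsIsolated x) {R : Subgroup G} (hR : IsPGroup p R)
    (hx : x ∈ R) : R ≤ centralizer ({x} : Set G) := by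
  by_contra hcon
  have hlt : R ⊓ centralizer ({x} : Set G) < R :=
    lt_of_le_of_ne inf_le_left (fun h => hcon (inf_eq_left.mp h))
  obtain ⟨t, htR, htC, htN⟩ := exists_mem_normalizer_of_lt hR hlt
  have hxC : x ∈ R ⊓ centralizer ({x} : Set G) :=
    ⟨hx, Subgroup.mem_centralizer_singleton_iff.mpr rfl⟩
  have h1 := (Subgroup.mem_normalizer_iff.mp htN x).mp hxC
  have h2 := (Subgroup.mem_centralizer_singleton_iff).mp h1.2
  have h3 := hiso t h2.symm
  apply htC
  refine ⟨htR, ?_⟩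
  show t ∈ centralizer ({x} : Set G)
  rw [Subgroup.mem_centralizer_singleton_iff]
  calc t * x = t * x * t⁻¹ * t := by group
    _ = x * t := by rw [h3]

theorem isolated_conj_eq (hiso : IsIsolated x) {R : Subgroup G} (hR : IsPGroup p R) (hx : x ∈ R)
    {g : G} (hg : g * x * g⁻¹ ∈ R) : g * x * g⁻¹ = x := by
  apply hiso g
  have := isolated_le_centralizer hiso hR hx hg
  exact (Subgroup.mem_centralizer_singleton_iff.mp this).symm

theorem isolated_normalizer_le (hiso : IsIsolated x) {R : Subgroup G} (hR : IsPGroup p R)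
    (hx : x ∈ R) : normalizer (R : Set G) ≤ centralizer ({x} : Set G) := by
  intro g hg
  have h1 := isolated_conj_eq hiso hR hx ((Subgroup.mem_normalizer_iff.mp hg x).mp hx)
  rw [Subgroup.mem_centralizer_singleton_iff]
  calc g * x = g * x * g⁻¹ * g := by group
    _ = x * g := by rw [h1]

theorem isPGroup_zpowers_of_orderOf {z : G} (hz : ∃ k : ℕ, orderOf z = p ^ k) : IsPGroup p (zpowers z) := by
  obtain ⟨k, hk⟩ := hz
  apply isPGroup_zpowers_of_pow_eq_one (k := k)
  rw [← hk, pow_orderOf_eq_one]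

/-- Frattini-type factorization for an isolated `p`-element. -/
theorem isolated_factor (hx : ∃ k : ℕ, orderOf x = p ^ k) (hiso : IsIsolated x) (H N : Subgroup G)
    (hNH : N ≤ H) (hHN : H ≤ normalizer (N : Set G)) (hxN : x ∈ N) :
    N ⊔ (H ⊓ centralizer ({x} : Set G)) = H := by
  apply le_antisymm (sup_le hNH inf_le_left)
  intro h hh
  obtain ⟨P₀, hxP, hP₀⟩ := exists_isSylowIn_of_le (isPGroup_zpowers_of_orderOf hx)
    (Subgroup.zpowers_le.mpr hxN)
  have hS := hP₀.conj h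
  rw [mem_normalizer_iff_conj.mp (hHN hh)] at hS
  obtain ⟨l, hl, hl2⟩ := hS.exists_conj hP₀
  have hN : l * h ∈ normalizer (P₀ : Set G) := by
    rw [mem_normalizer_iff_conj, ← conj_mul_conj]
    exact hl2
  have hxP₀ : x ∈ P₀ := hxP (Subgroup.mem_zpowers x)
  have h1 := isolated_normalizer_le hiso hP₀.isPGroup hxP₀ hN
  have h2 : h = l⁻¹ * (l * h) := by group
  rw [h2]
  exact Subgroup.mul_mem_sup (N.inv_mem hl) ⟨H.mul_mem (hNH hl) hh, h1⟩

/-- Strong closure of `⟨x⟩`. -/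
theorem isolated_stronglyClosed (hx : ∃ k : ℕ, orderOf x = p ^ k) (hiso : IsIsolated x) (P : Subgroup G)
    (hP : IsPGroup p P) (hxP : x ∈ P) (y : G) (hy : y ∈ zpowers x) (g : G)
    (hg : g * y * g⁻¹ ∈ P) : g * y * g⁻¹ ∈ zpowers x := by
  obtain ⟨k, rfl⟩ := Subgroup.mem_zpowers_iff.mp hy
  set v := g * x * g⁻¹ with hv
  set u := g * x ^ k * g⁻¹ with hu
  have huv : u = v ^ k := by
    rw [hu, hv, conj_zpow]
  set C := centralizer ({u} : Set G) with hC
  have hxC : x ∈ C := by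
    have := isolated_le_centralizer hiso hP hxP hg
    rw [hC, Subgroup.mem_centralizer_singleton_iff]
    exact ((Subgroup.mem_centralizer_singleton_iff.mp this)).symm
  have hvC : v ∈ C := by
    rw [hC, Subgroup.mem_centralizer_singleton_iff, huv]
    exact ((Commute.refl v).zpow_right k).eq.symm ▸ rfl
  have hordv : ∃ k : ℕ, orderOf v = p ^ k := by
    obtain ⟨j, hj⟩ := hx
    refine ⟨j, ?_⟩
    rw [hv, ← hj]
    have := orderOf_injective (MulAut.conj g).toMonoidHom (MulEquiv.injective _) x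
    simpa using this
  obtain ⟨P₁, hxP₁, hP₁⟩ := exists_isSylowIn_of_le (isPGroup_zpowers_of_orderOf hx)
    (Subgroup.zpowers_le.mpr hxC)
  obtain ⟨P₂, hvP₂, hP₂⟩ := exists_isSylowIn_of_le (isPGroup_zpowers_of_orderOf hordv)
    (Subgroup.zpowers_le.mpr hvC)
  obtain ⟨c, hc, hc2⟩ := hP₂.exists_conj hP₁
  have h1 : c * v * c⁻¹ ∈ P₁ := by
    rw [← hc2]
    exact conj_mem_conj (hvP₂ (Subgroup.mem_zpowers v))
  have e : c * v * c⁻¹ = (c * g) * x * (c * g)⁻¹ := by
    rw [hv]; group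
  rw [e] at h1
  have h2 := isolated_conj_eq hiso hP₁.isPGroup (hxP₁ (Subgroup.mem_zpowers x)) h1
  rw [← e] at h2
  have hcu : c * u * c⁻¹ = u := by
    have := (Subgroup.mem_centralizer_singleton_iff.mp hc)
    rw [this]; group
  have h3 : c * u * c⁻¹ = x ^ k := by
    rw [huv, ← conj_zpow, h2]
  rw [hcu] at h3
  rw [h3]
  exact Subgroup.zpow_mem_zpowers x k

/-- The image of an isolated `p`-element in a quotient is isolated. -/
theorem isolated_quotient (hx : ∃ k : ℕ, orderOf x = p ^ k) (hiso : IsIsolated x) (N : Subgroup G)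
    [hN : N.Normal] : IsIsolated (QuotientGroup.mk x : G ⧸ N) := by
  intro gbar hcomm
  obtain ⟨g, rfl⟩ := QuotientGroup.mk_surjective gbar
  set π := QuotientGroup.mk' N with hπ
  set y := g * x * g⁻¹ with hy
  have hπy : (QuotientGroup.mk g : G ⧸ N) * QuotientGroup.mk x * (QuotientGroup.mk g)⁻¹ = π y := by
    rw [hy, map_mul, map_mul, map_inv]; rfl
  rw [hπy] at hcomm ⊢
  show π y = π x
  have hcomm' : π x * π y = π y * π x := hcomm
  obtain ⟨k, hk⟩ := hx
  have hx1 : x ^ p ^ k = 1 := by rw [← hk, pow_orderOf_eq_one]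
  have hy1 : y ^ p ^ k = 1 := by
    rw [hy, conj_pow, hx1]; simp
  have hπx1 : (π x) ^ p ^ k = 1 := by rw [← map_pow, hx1, map_one]
  have hπy1 : (π y) ^ p ^ k = 1 := by rw [← map_pow, hy1, map_one]
  have hD1 : IsPGroup p (zpowers (π x)) := isPGroup_zpowers_of_pow_eq_one hπx1
  have hD2 : IsPGroup p (zpowers (π y)) := isPGroup_zpowers_of_pow_eq_one hπy1
  have hcent : zpowers (π x) ⊔ zpowers (π y) ≤ centralizer ({π x} : Set (G ⧸ N)) := by
    apply sup_le
    · rw [Subgroup.zpowers_le, Subgroup.mem_centralizer_singleton_iff]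
    · rw [Subgroup.zpowers_le, Subgroup.mem_centralizer_singleton_iff]
      exact hcomm'.symm
  have hnorm : zpowers (π x) ≤ normalizer (zpowers (π y) : Set (G ⧸ N)) := by
    rw [Subgroup.zpowers_le, mem_normalizer_iff_conj, MonoidHom.map_zpowers]
    congr 1
    show π x * π y * (π x)⁻¹ = π y
    rw [hcomm']; group
  have hD : IsPGroup p ↥(zpowers (π x) ⊔ zpowers (π y)) := hD1.to_sup_of_normal_right' hD2 hnorm
  set D := zpowers (π x) ⊔ zpowers (π y) with hDdef
  set L := D.comap π with hL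
  have hxL : x ∈ L := by
    show π x ∈ D
    exact Subgroup.mem_sup_left (Subgroup.mem_zpowers _)
  have hyL : y ∈ L := by
    show π y ∈ D
    exact Subgroup.mem_sup_right (Subgroup.mem_zpowers _)
  obtain ⟨P₀, hxP₀, hP₀⟩ := exists_isSylowIn_of_le (p := p) (isPGroup_zpowers_of_orderOf ⟨k, hk⟩)
    (Subgroup.zpowers_le.mpr hxL)
  obtain ⟨P₂, hyP₂, hP₂⟩ := exists_isSylowIn_of_le (p := p) (isPGroup_zpowers_of_pow_eq_one hy1)
    (Subgroup.zpowers_le.mpr hyL)
  obtain ⟨l, hl, hl2⟩ := hP₂.exists_conj hP₀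
  have h1 : l * y * l⁻¹ ∈ P₀ := by
    rw [← hl2]
    exact conj_mem_conj (hyP₂ (Subgroup.mem_zpowers y))
  have e : l * y * l⁻¹ = (l * g) * x * (l * g)⁻¹ := by
    rw [hy]; group
  rw [e] at h1
  have h2 := isolated_conj_eq hiso hP₀.isPGroup (hxP₀ (Subgroup.mem_zpowers x)) h1
  rw [← e] at h2
  have hlc : π l * π x = π x * π l := by
    have := hcent hl
    exact Subgroup.mem_centralizer_singleton_iff.mp this
  have h3 : y = l⁻¹ * x * l := by
    rw [← h2]; group
  rw [h3, map_mul, map_mul, map_inv]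
  rw [mul_assoc, ← hlc]
  group

/-- A nontrivial isolated element of a cyclic Sylow subgroup forces `N(P) ≤ C(P)`. -/
theorem isolated_cyclic_normalizer_le (hiso : IsIsolated x) (hx1 : x ≠ 1) (P : Sylow p G)
    (hxP : x ∈ (P : Subgroup G)) (hc : IsCyclic ↥(P : Subgroup G)) :
    normalizer ((P : Subgroup G) : Set G) ≤ centralizer ((P : Subgroup G) : Set G) := by
  intro g hg
  obtain ⟨y, hy⟩ := hc.exists_generator
  obtain ⟨n, hn⟩ := (IsPGroup.iff_orderOf.mp P.isPGroup') y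
  have hyo : orderOf (y : G) = p ^ n := by rw [Subgroup.orderOf_coe]; exact hn
  have hpow : ∀ z ∈ (P : Subgroup G), ∃ j : ℤ, z = (y : G) ^ j := by
    intro z hz
    obtain ⟨j, hj⟩ := Subgroup.mem_zpowers_iff.mp (hy ⟨z, hz⟩)
    exact ⟨j, by simpa using (congrArg Subtype.val hj).symm⟩
  have hgP : ∀ z ∈ (P : Subgroup G), g * z * g⁻¹ ∈ (P : Subgroup G) :=
    fun z hz => (Subgroup.mem_normalizer_iff.mp hg z).mp hz
  obtain ⟨k, hk⟩ := hpow _ (hgP y y.2)
  obtain ⟨m, hm⟩ := hpow x hxP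
  have hconjpow : ∀ j : ℤ, g * (y : G) ^ j * g⁻¹ = (y : G) ^ (k * j) := by
    intro j
    rw [← conj_zpow, hk, zpow_mul]
  have hgx : g * x * g⁻¹ = x := isolated_conj_eq hiso P.isPGroup' hxP (hgP x hxP)
  have h1 : (y : G) ^ (k * m) = (y : G) ^ m := by
    rw [← hconjpow, ← hm, hgx]
  have hp1 : (p : ℤ) ∣ k - 1 := by
    by_contra hnd
    have h2 : (y : G) ^ ((k - 1) * m) = 1 := by
      rw [sub_mul, one_mul, zpow_sub, h1, mul_inv_cancel]
    have hd : ((p ^ n : ℕ) : ℤ) ∣ (k - 1) * m := by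
      rw [← hyo]; exact orderOf_dvd_iff_zpow_eq_one.mpr h2
    have hpr : Prime (p : ℤ) := Nat.prime_iff_prime_int.mp hp.out
    have hcop : IsCoprime ((p : ℤ) ^ n) (k - 1) :=
      IsCoprime.pow_left ((Prime.coprime_iff_not_dvd hpr).mpr hnd)
    have hdm : ((p : ℤ) ^ n) ∣ m := by
      have : ((p : ℤ) ^ n) ∣ (k - 1) * m := by exact_mod_cast hd
      exact hcop.dvd_of_dvd_mul_left this
    apply hx1
    rw [hm]
    apply orderOf_dvd_iff_zpow_eq_one.mp
    rw [hyo]
    exact_mod_cast hdm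
  have hiter : ∀ e : ℕ, g ^ e * (y : G) * (g ^ e)⁻¹ = (y : G) ^ (k ^ e) := by
    intro e
    induction e with
    | zero => simp
    | succ e ih =>
      calc g ^ (e + 1) * (y : G) * (g ^ (e + 1))⁻¹ = g * (g ^ e * (y : G) * (g ^ e)⁻¹) * g⁻¹ := by
            rw [pow_succ' g e, mul_inv_rev]; group
        _ = g * (y : G) ^ (k ^ e) * g⁻¹ := by rw [ih]
        _ = (y : G) ^ (k * k ^ e) := hconjpow _
        _ = (y : G) ^ (k ^ (e + 1)) := by rw [pow_succ']
  have hdvd := dvd_sub_pow_of_dvd_sub hp1 n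
  rw [one_pow] at hdvd
  have h3 : (y : G) ^ (k ^ p ^ n) = (y : G) := by
    have h4 : ((orderOf (y : G) : ℕ) : ℤ) ∣ k ^ p ^ n - 1 := by
      rw [hyo]
      refine dvd_trans ?_ hdvd
      push_cast
      exact pow_dvd_pow _ (Nat.le_succ n)
    have h5 := orderOf_dvd_iff_zpow_eq_one.mp h4
    rw [zpow_sub, zpow_one] at h5
    exact mul_inv_eq_one.mp h5
  have hcent : ∀ (a : G), (∀ j : ℤ, a * (y : G) ^ j * a⁻¹ = (y : G) ^ j) → a ∈ centralizer ((P : Subgroup G) : Set G) := by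
    intro a ha
    rw [Subgroup.mem_centralizer_iff]
    intro z hz
    obtain ⟨j, rfl⟩ := hpow z hz
    have := ha j
    calc (y : G) ^ j * a = (a * (y : G) ^ j * a⁻¹) * a := by rw [this]
      _ = a * (y : G) ^ j := by group
  have hgt : g ^ p ^ n ∈ centralizer ((P : Subgroup G) : Set G) := by
    apply hcent
    intro j
    rw [← conj_zpow, hiter, h3]
  -- the `p`-part of `g`
  have hpos : orderOf g ≠ 0 := (orderOf_pos g).ne'
  obtain ⟨a, b, hb, hab⟩ := Nat.exists_eq_pow_mul_and_not_dvd hpos p (hp.out.ne_one)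
  have hgb : g ^ b ∈ centralizer ((P : Subgroup G) : Set G) := by
    have h5 : (g ^ b) ^ p ^ a = 1 := by
      rw [← pow_mul, mul_comm, ← hab, pow_orderOf_eq_one]
    have h6 : IsPGroup p (zpowers (g ^ b)) := isPGroup_zpowers_of_pow_eq_one h5
    have h7 : g ^ b ∈ zpowers (g ^ b) ⊓ normalizer ((P : Subgroup G) : Set G) :=
      ⟨Subgroup.mem_zpowers _, Subgroup.pow_mem _ hg _⟩
    have h8 : g ^ b ∈ (P : Subgroup G) := by
      have h9 := h6.inf_normalizer_sylow P
      have h10 : g ^ b ∈ zpowers (g ^ b) ⊓ normalizer (P : Set G) := h7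
      rw [h9] at h10
      exact h10.2
    obtain ⟨j, hj⟩ := hpow _ h8
    apply hcent
    intro i
    rw [hj]
    have : ((y : G) ^ j) * (y : G) ^ i = (y : G) ^ i * (y : G) ^ j := by
      rw [← zpow_add, ← zpow_add, add_comm]
    rw [this]; group
  have hgt2 : g ^ (p ^ n * p ^ a) ∈ centralizer ((P : Subgroup G) : Set G) := by
    rw [pow_mul]
    exact Subgroup.pow_mem _ hgt _
  have hco : Nat.Coprime (p ^ n * p ^ a) b := by
    rw [← pow_add]
    exact Nat.Coprime.pow_left _ ((Nat.Prime.coprime_iff_not_dvd hp.out).mpr hb)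
  exact mem_of_pow_mem_of_pow_mem hgt2 hgb hco

end Cfsg.Agent.Lib.FF
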