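import Cfsg.Agent.Lib.Block.Klein2

/-!
# Principal 2-block with Klein four Sylow: constancy on singular elements, rank
-/

set_option autoImplicit false
set_option linter.unusedSectionVars false
set_option linter.unusedSimpArgs false
set_option linter.unusedVariables false

open scoped ComplexConjugate
open Cfsg MonoidAlgebra Cfsg.Agent.Lib.Char Cfsg.Agent.Lib.Block

namespace Cfsg.Agent.Lib.FF

section Main

variable {G : Type*} [Group G] [Fintype G] {M : Ideal AlgInt}

/-- Four distinct irreducible characters are independent. -/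
theorem four_irr_indep (χ₁ χ₂ χ₃ χ₄ : IrrCharacter G) (h12 : χ₁ ≠ χ₂) (h13 : χ₁ ≠ χ₃) (h14 : χ₁ ≠ χ₄)
    (h23 : χ₂ ≠ χ₃) (h24 : χ₂ ≠ χ₄) (h34 : χ₃ ≠ χ₄) (a b c d : ℂ)
    (h : ∀ g : G, a * (χ₁ : G → ℂ) g + b * (χ₂ : G → ℂ) g + c * (χ₃ : G → ℂ) g + d * (χ₄ : G → ℂ) g = 0) :
    a = 0 ∧ b = 0 ∧ c = 0 ∧ d = 0 := by
  classical
  have li := irr_linearIndependent (G := G)
  rw [linearIndependent_iff'] at li
  set w : IrrCharacter G → ℂ := fun χ => if χ = χ₁ then a else if χ = χ₂ then b else if χ = χ₃ then c else d with hw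
  have hw1 : w χ₁ = a := by simp [hw]
  have hw2 : w χ₂ = b := by simp [hw, h12.symm]
  have hw3 : w χ₃ = c := by simp [hw, h13.symm, h23.symm]
  have hw4 : w χ₄ = d := by simp [hw, h14.symm, h24.symm, h34.symm]
  have key := li {χ₁, χ₂, χ₃, χ₄} w (by
    rw [Finset.sum_insert (by simp [h12, h13, h14]), Finset.sum_insert (by simp [h23, h24]),
      Finset.sum_insert (by simp [h34]), Finset.sum_singleton, hw1, hw2, hw3, hw4]
    funext g
    simp only [Pi.add_apply, Pi.smul_apply, smul_eq_mul, Pi.zero_apply]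
    rw [← h g]
    ring)
  refine ⟨?_, ?_, ?_, ?_⟩
  · rw [← hw1]; exact key _ (by simp)
  · rw [← hw2]; exact key _ (by simp)
  · rw [← hw3]; exact key _ (by simp)
  · rw [← hw4]; exact key _ (by simp)

/-- In a group with four-group Sylow subgroups and one class of involutions, every character in the principal block
is constant on the set of `2`-singular elements. -/
theorem principal_const_singular_klein (hM : IsPModular 2 M) (P : Sylow 2 G) (hP : IsKleinFour (P : Subgroup G))
    (hone : ∀ s t : G, orderOf s = 2 → orderOf t = 2 → IsConj s t) {z : G} (hz : orderOf z = 2)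
    {ζ : IrrCharacter G} (hζ : ζ ∈ principalBlock M G) {y : G} (hy : 2 ∣ orderOf y) :
    (ζ : G → ℂ) y = (ζ : G → ℂ) z := by
  classical
  have := isPModular_isPrime hM
  have hcard : Nat.card (P : Subgroup G) = 4 := IsKleinFour.card_four
  have hsq : ∀ x ∈ (P : Subgroup G), x * x = 1 := by
    intro x hx
    have h1 := Monoid.pow_exponent_eq_one (⟨x, hx⟩ : (P : Subgroup G))
    rw [IsKleinFour.exponent_two, pow_two] at h1
    exact congrArg Subtype.val h1
  have hcomm : ∀ a ∈ (P : Subgroup G), ∀ b ∈ (P : Subgroup G), a * b = b * a := by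
    intro a ha b hb
    have h1 := hsq a ha
    have h2 := hsq b hb
    have h3 := hsq _ ((P : Subgroup G).mul_mem ha hb)
    have ha' : a⁻¹ = a := inv_eq_of_mul_eq_one_left h1
    have hb' : b⁻¹ = b := inv_eq_of_mul_eq_one_left h2
    have h4 : (a * b)⁻¹ = a * b := inv_eq_of_mul_eq_one_left h3
    rw [mul_inv_rev, ha', hb'] at h4
    exact h4.symm
  -- we may move `z` into `P`
  have hex : ∃ z' ∈ (P : Subgroup G), z' ≠ 1 := by
    rcases Subgroup.bot_or_exists_ne_one (P : Subgroup G) with h | h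
    · rw [h] at hcard
      simp at hcard
    · obtain ⟨x, hx, hx1⟩ := h
      exact ⟨x, hx, hx1⟩
  obtain ⟨w, hwP, hw1⟩ := hex
  have hw : orderOf w = 2 := orderOf_eq_prime (by rw [pow_two]; exact hsq w hwP) hw1
  have hζc := IsIrrCharacter.isCharacter ζ.2
  have hzw : (ζ : G → ℂ) z = (ζ : G → ℂ) w := by
    obtain ⟨c, hc⟩ := isConj_iff.1 (hone w z hw hz)
    rw [← hc, IsCharacter.isClassFunction hζc]
  have hPH : (P : Subgroup G) ≤ Subgroup.centralizer ({w} : Set G) := by
    intro y hy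
    rw [mem_centralizer_singleton]
    exact hcomm y hy w hwP
  haveI : Fintype (Subgroup.centralizer ({w} : Set G)) := Fintype.ofFinite _
  obtain ⟨K, hKn, hK, hidx⟩ := exists_complement_of_burnside (P.subtype hPH)
    (normalizer_le_centralizer_klein hsq hcomm hcard hwP hw1 hPH)
  have hKle : K ≤ pPrimeCore 2 (Subgroup.centralizer ({w} : Set G)) := by
    apply Cfsg.Agent.Lib.Core.le_pPrimeCore inferInstance
    exact ((Nat.Prime.coprime_iff_not_dvd Nat.prime_two).2 hK).symm
  rw [hzw]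
  obtain ⟨u, v, huv, hc, hu2, hv, _, _⟩ := exists_jordan (p := 2) y
  have hu1 : u ≠ 1 := by
    rintro rfl
    rw [one_mul] at huv
    rw [huv] at hv
    exact hv hy
  have hu3 : u * u = 1 := by
    have h1 : IsPGroup 2 (Subgroup.zpowers u) := isPGroup_zpowers_of_orderOf hu2
    obtain ⟨Q, hQ⟩ := h1.exists_le_sylow
    obtain ⟨c, hc'⟩ := MulAction.exists_smul_eq G Q P
    have h2 : c * u * c⁻¹ ∈ (P : Subgroup G) := by
      rw [← hc']
      refine ⟨u, hQ (Subgroup.mem_zpowers u), ?_⟩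
      simp [MulAut.smul_def]
    have h3 := hsq _ h2
    have h4 : u * u = c⁻¹ * ((c * u * c⁻¹) * (c * u * c⁻¹)) * c := by group
    rw [h4, h3]
    simp
  have hu4 : orderOf u = 2 := orderOf_eq_prime (by rw [pow_two]; exact hu3) hu1
  obtain ⟨c, hc'⟩ := isConj_iff.1 (hone u w hu4 hw)
  have e1 : (ζ : G → ℂ) y = (ζ : G → ℂ) (c * y * c⁻¹) :=
    (IsCharacter.isClassFunction hζc y c).symm
  have e2 : c * y * c⁻¹ = w * (c * v * c⁻¹) := by
    rw [← huv, ← hc']
    group
  have hvH : c * v * c⁻¹ ∈ Subgroup.centralizer ({w} : Set G) := by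
    rw [mem_centralizer_singleton, ← hc']
    have hc2 := hc.eq
    calc c * v * c⁻¹ * (c * u * c⁻¹) = c * (v * u) * c⁻¹ := by group
      _ = c * (u * v) * c⁻¹ := by rw [hc2]
      _ = c * u * c⁻¹ * (c * v * c⁻¹) := by group
  have hvreg : ¬ 2 ∣ orderOf (⟨c * v * c⁻¹, hvH⟩ : Subgroup.centralizer ({w} : Set G)) := by
    rw [Subgroup.orderOf_mk, orderOf_conj]
    exact hv
  have hvK := mem_of_regular_of_index K hidx hvreg
  have hvmem : c * v * c⁻¹ ∈ centralizerPPrimeCore 2 w := ⟨⟨c * v * c⁻¹, hvH⟩, hKle hvK, rfl⟩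
  have hw2 : ∃ k, orderOf w = 2 ^ k := ⟨1, by simpa using hw⟩
  have e3 := irr_mul_of_principal hM hw2 hvmem ζ hζ
  rw [e1, e2, e3]

end Main

end Cfsg.Agent.Lib.FF
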