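import Cfsg.Agent.Lib.FF.KleinOrder

/-!
# Counting pairs of involutions in a group with four-group Sylow subgroups
-/

set_option autoImplicit false
set_option linter.unusedSectionVars false
set_option linter.unusedSimpArgs false
set_option linter.unusedVariables false

open scoped ComplexConjugate
open Cfsg MonoidAlgebra Cfsg.Agent.Lib.Char Cfsg.Agent.Lib.Block

namespace Cfsg.Agent.Lib.FF

section Count

variable {G : Type*} [Group G] [Fintype G]

theorem isPPart_conj {p : ℕ} {g x : G} (h : IsPPart p g x) (c : G) : IsPPart p (c * g * c⁻¹) (c * x * c⁻¹) := by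
  obtain ⟨w, he, hcomm, hzp, hw⟩ := h
  refine ⟨c * w * c⁻¹, ?_, ?_, ?_, ?_⟩
  · rw [← he]; group
  · show c * x * c⁻¹ * (c * w * c⁻¹) = c * w * c⁻¹ * (c * x * c⁻¹)
    calc c * x * c⁻¹ * (c * w * c⁻¹) = c * (x * w) * c⁻¹ := by group
      _ = c * (w * x) * c⁻¹ := by rw [hcomm.eq]
      _ = c * w * c⁻¹ * (c * x * c⁻¹) := by group
  · rwa [orderOf_conj]
  · rwa [orderOf_conj]

theorem mem_zpowers_of_isPPart {p : ℕ} [hp : Fact p.Prime] {g x : G} (h : IsPPart p g x) : x ∈ Subgroup.zpowers g := by
  obtain ⟨a, b, h1, h2, h3, h4, h5, h6⟩ := exists_jordan (p := p) g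
  have : IsPPart p g a := ⟨b, h1, h2, h3, h4⟩
  rw [IsPPart_eq h this]
  exact h5

/-- An element inverting `g` inverts its powers. -/
theorem conj_inv_of_mem_zpowers {a g t : G} (h : a * g * a⁻¹ = g⁻¹) (ht : t ∈ Subgroup.zpowers g) : a * t * a⁻¹ = t⁻¹ := by
  obtain ⟨k, rfl⟩ := Subgroup.mem_zpowers_iff.1 ht
  rw [← conj_zpow, h, inv_zpow]

open Classical in
/-- **Counting the fibre at `J`.** -/
theorem klein_fiber_count (P : Sylow 2 G) (hcard : Nat.card (P : Subgroup G) = 4)
    (hsq : ∀ x ∈ (P : Subgroup G), x * x = 1)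
    (hcomm : ∀ a ∈ (P : Subgroup G), ∀ b ∈ (P : Subgroup G), a * b = b * a)
    (hone : ∀ s t : G, orderOf s = 2 → orderOf t = 2 → IsConj s t) {J : G} (hJP : J ∈ (P : Subgroup G))
    (hJ2 : orderOf J = 2) :
    ∃ h : ℕ, h * Nat.card (Subgroup.centralizer ((P : Subgroup G) : Set G)) =
        Nat.card (Subgroup.centralizer ({J} : Set G)) ∧
      (((Finset.univ.filter (fun u => IsConj J u)) ×ˢ (Finset.univ.filter (fun u => IsConj J u))).filter
        (fun x : G × G => IsPPart 2 (x.1 * x.2) J)).card = 2 * h ^ 2 := by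
  have hJ1 : J ≠ 1 := by
    rintro rfl
    simp at hJ2
  have hJJ : J * J = 1 := hsq J hJP
  have hJinv : J⁻¹ = J := inv_eq_of_mul_eq_one_left hJJ
  have hPH : (P : Subgroup G) ≤ Subgroup.centralizer ({J} : Set G) := by
    intro y hy
    rw [mem_centralizer_singleton]
    exact hcomm y hy J hJP
  haveI hCfin : Fintype (Subgroup.centralizer ({J} : Set G)) := Fintype.ofFinite _
  have hnc := normalizer_le_centralizer_klein hsq hcomm hcard hJP hJ1 hPH
  have hsqT : ∀ a ∈ ((P.subtype hPH : Sylow 2 (Subgroup.centralizer ({J} : Set G))) :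
      Subgroup (Subgroup.centralizer ({J} : Set G))), a * a = 1 := by
    intro a ha
    apply Subtype.ext
    have h1 : (a : G) ∈ (P : Subgroup G) := by
      rw [Sylow.coe_subtype, Subgroup.mem_subgroupOf] at ha
      exact ha
    exact hsq _ h1
  have hcommT : ∀ a ∈ ((P.subtype hPH : Sylow 2 (Subgroup.centralizer ({J} : Set G))) :
      Subgroup (Subgroup.centralizer ({J} : Set G))), ∀ b ∈ ((P.subtype hPH : Sylow 2 (Subgroup.centralizer ({J} : Set G))) :
      Subgroup (Subgroup.centralizer ({J} : Set G))), a * b = b * a := by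
    intro a ha b hb
    apply Subtype.ext
    have h1 : (a : G) ∈ (P : Subgroup G) := by
      rw [Sylow.coe_subtype, Subgroup.mem_subgroupOf] at ha
      exact ha
    have h2 : (b : G) ∈ (P : Subgroup G) := by
      rw [Sylow.coe_subtype, Subgroup.mem_subgroupOf] at hb
      exact hb
    exact hcomm _ h1 _ h2
  obtain ⟨T, τ, hτ, hker, hTmem, hmemT⟩ : ∃ T : Subgroup (Subgroup.centralizer ({J} : Set G)), ∃ τ : Subgroup.centralizer ({J} : Set G) →* T,
      (∀ t : T, τ t = t) ∧ ¬ 2 ∣ Nat.card τ.ker ∧
      (∀ t : T, ((t : Subgroup.centralizer ({J} : Set G)) : G) ∈ (P : Subgroup G)) ∧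
      (∀ y : G, ∀ hy : y ∈ (P : Subgroup G), (⟨y, hPH hy⟩ : Subgroup.centralizer ({J} : Set G)) ∈ T) := by
    obtain ⟨τ, hτ, hker⟩ := exists_retraction (P.subtype hPH) hnc hsqT
    exact ⟨_, τ, hτ, hker, fun t => t.2, fun y hy => hy⟩
  clear hsqT hcommT
  have hsqT : ∀ a ∈ T, a * a = 1 := fun a ha => Subtype.ext (hsq _ (hTmem ⟨a, ha⟩))
  have hcommT : ∀ a ∈ T, ∀ b ∈ T, a * b = b * a := fun a ha b hb =>
    Subtype.ext (hcomm _ (hTmem ⟨a, ha⟩) _ (hTmem ⟨b, hb⟩))
  -- a third element
  obtain ⟨j, hjP, hj1, hjJ⟩ : ∃ j ∈ (P : Subgroup G), j ≠ 1 ∧ j ≠ J := by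
    by_contra hcon
    push Not at hcon
    have h1 : ∀ w ∈ (P : Subgroup G), w ∈ ({1, J} : Finset G) := by
      intro w hw
      by_cases hw1 : w = 1
      · simp [hw1]
      · simp [hcon w hw hw1]
    haveI : Fintype (P : Subgroup G) := Fintype.ofFinite _
    have h2 : ((P : Subgroup G) : Set G).toFinset ⊆ ({1, J} : Finset G) := by
      intro w hw
      rw [Set.mem_toFinset] at hw
      exact h1 w hw
    have h3 := Finset.card_le_card h2
    have h4 : ((P : Subgroup G) : Set G).toFinset.card = 4 := by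
      rw [Set.toFinset_card, ← hcard, Nat.card_eq_fintype_card]
      rfl
    have h5 : ({1, J} : Finset G).card ≤ 2 := Finset.card_le_two
    omega
  let pJ : T := ⟨⟨J, hPH hJP⟩, hmemT J hJP⟩
  let pj : T := ⟨⟨j, hPH hjP⟩, hmemT j hjP⟩
  have hpJ1 : pJ ≠ 1 := fun h => hJ1 (congrArg (fun t : T => ((t : Subgroup.centralizer ({J} : Set G)) : G)) h)
  have hpj1 : pj ≠ 1 := fun h => hj1 (congrArg (fun t : T => ((t : Subgroup.centralizer ({J} : Set G)) : G)) h)
  have hjj : j * j = 1 := hsq j hjP
  have hT1 : ∀ t : T, t * t = 1 := fun t => Subtype.ext (hsqT t t.2)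
  have hTc : ∀ a b : T, a * b = b * a := fun a b => Subtype.ext (hcommT a a.2 b b.2)
  have hTel : ∀ t : T, t = 1 ∨ t = pJ ∨ t = pj ∨ t = pJ * pj := by
    intro t
    rcases klein_elements hcard hJP hjP hJ1 hj1 hjJ hJJ (hTmem t) with h | h | h | h
    · left
      exact Subtype.ext (Subtype.ext h)
    · right; left
      exact Subtype.ext (Subtype.ext h)
    · right; right; left
      exact Subtype.ext (Subtype.ext h)
    · right; right; right
      exact Subtype.ext (Subtype.ext h)
  have hJjP : J * j ∈ (P : Subgroup G) := (P : Subgroup G).mul_mem hJP hjP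
  -- the sets
  let I : T → Finset G := fun p => Finset.univ.filter (fun u => ∃ hu : u ∈ Subgroup.centralizer ({J} : Set G),
    orderOf u = 2 ∧ τ ⟨u, hu⟩ = p)
  have hIcard : ∀ p : T, p ≠ 1 → (I p).card =
      (Subgroup.centralizer ({(p : Subgroup.centralizer ({J} : Set G))} : Set (Subgroup.centralizer ({J} : Set G)))).index := by
    intro p hp
    rw [← card_filter_isConj]
    have h1 : I p = (Finset.univ.filter (fun c : Subgroup.centralizer ({J} : Set G) =>
        IsConj (p : Subgroup.centralizer ({J} : Set G)) c)).map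
        ⟨Subtype.val, Subtype.val_injective⟩ := by
      ext u
      simp only [I, Finset.mem_filter, Finset.mem_univ, true_and, Finset.mem_map, Function.Embedding.coeFn_mk]
      constructor
      · rintro ⟨hu, h2, h3⟩
        refine ⟨⟨u, hu⟩, ?_, rfl⟩
        refine (isConj_retract_iff τ hτ hker hcommT hsqT p hp _).2 ⟨?_, h3⟩
        rw [Subgroup.orderOf_mk]
        exact h2
      · rintro ⟨c, hc, rfl⟩
        obtain ⟨h2, h3⟩ := (isConj_retract_iff τ hτ hker hcommT hsqT p hp _).1 hc
        refine ⟨c.2, ?_, h3⟩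
        rw [← h2]
        exact Subgroup.orderOf_coe c
    rw [h1, Finset.card_map]
    convert rfl
  -- the index computation
  have hcPpos : 0 < Nat.card (Subgroup.centralizer ((P : Subgroup G) : Set G)) := Nat.card_pos
  have hcen : ∀ p : T, ((p : Subgroup.centralizer ({J} : Set G)) : G) ≠ 1 → ((p : Subgroup.centralizer ({J} : Set G)) : G) ≠ J →
      Nat.card (Subgroup.centralizer ({(p : Subgroup.centralizer ({J} : Set G))} : Set (Subgroup.centralizer ({J} : Set G)))) =
      Nat.card (Subgroup.centralizer ((P : Subgroup G) : Set G)) := by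
    intro p hp1 hpJ
    have h1 : (Subgroup.centralizer ({(p : Subgroup.centralizer ({J} : Set G))} : Set (Subgroup.centralizer ({J} : Set G)))).map
        (Subgroup.centralizer ({J} : Set G)).subtype = Subgroup.centralizer ((P : Subgroup G) : Set G) := by
      ext g
      simp only [Subgroup.mem_map, Subgroup.subtype_apply]
      constructor
      · rintro ⟨c, hc, rfl⟩
        rw [Subgroup.mem_centralizer_iff]
        intro y hy
        have hc1 : (c : G) * J = J * c := mem_centralizer_singleton.1 c.2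
        have hc2 : (c : G) * ((p : Subgroup.centralizer ({J} : Set G)) : G) =
            ((p : Subgroup.centralizer ({J} : Set G)) : G) * c :=
          congrArg Subtype.val (mem_centralizer_singleton.1 hc)
        rcases klein_elements hcard hJP (hTmem p) hJ1 hp1 hpJ hJJ hy with h | h | h | h
        · rw [h]; simp
        · rw [h]; exact hc1.symm
        · rw [h]; exact hc2.symm
        · rw [h]
          calc J * ((p : Subgroup.centralizer ({J} : Set G)) : G) * c
              = J * (((p : Subgroup.centralizer ({J} : Set G)) : G) * c) := by group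
            _ = J * ((c : G) * ((p : Subgroup.centralizer ({J} : Set G)) : G)) := by rw [hc2]
            _ = (J * c) * ((p : Subgroup.centralizer ({J} : Set G)) : G) := by group
            _ = ((c : G) * J) * ((p : Subgroup.centralizer ({J} : Set G)) : G) := by rw [hc1]
            _ = c * (J * ((p : Subgroup.centralizer ({J} : Set G)) : G)) := by group
      · intro hg
        have hg1 : g ∈ Subgroup.centralizer ({J} : Set G) := by
          rw [mem_centralizer_singleton]
          exact (Subgroup.mem_centralizer_iff.1 hg J hJP).symm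
        refine ⟨⟨g, hg1⟩, ?_, rfl⟩
        rw [mem_centralizer_singleton]
        apply Subtype.ext
        exact (Subgroup.mem_centralizer_iff.1 hg _ (hTmem p)).symm
    rw [← h1]
    exact (Nat.card_congr (Subgroup.equivMapOfInjective _ _ (Subgroup.subtype_injective _)).toEquiv)
  have hidx : ∀ p : T, ((p : Subgroup.centralizer ({J} : Set G)) : G) ≠ 1 → ((p : Subgroup.centralizer ({J} : Set G)) : G) ≠ J →
      (I p).card * Nat.card (Subgroup.centralizer ((P : Subgroup G) : Set G)) =
      Nat.card (Subgroup.centralizer ({J} : Set G)) := by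
    intro p hp1 hpJ
    have hp : p ≠ 1 := fun h => hp1 (by rw [h]; rfl)
    rw [hIcard p hp, ← hcen p hp1 hpJ, mul_comm]
    exact Subgroup.card_mul_index _
  have hpj_ne : pJ * pj ≠ 1 := by
    intro h
    have h1 : pJ = pj := by
      have := congrArg (fun t => t * pj) h
      simp only [one_mul, mul_assoc, hT1, mul_one] at this
      exact this
    exact hjJ (congrArg (fun t : T => ((t : Subgroup.centralizer ({J} : Set G)) : G)) h1).symm
  have hJj1 : J * j ≠ 1 := fun h => hpj_ne (Subtype.ext (Subtype.ext h))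
  have hJjJ : J * j ≠ J := by
    intro h
    exact hj1 (by simpa using h)
  refine ⟨(I pj).card, hidx pj hj1 hjJ, ?_⟩
  have hcardeq : (I (pJ * pj)).card = (I pj).card := by
    have h1 := hidx (pJ * pj) hJj1 hJjJ
    have h2 := hidx pj hj1 hjJ
    exact Nat.eq_of_mul_eq_mul_right hcPpos (h1.trans h2.symm)
  -- regular elements
  have hodd : ∀ c : Subgroup.centralizer ({J} : Set G), τ c = 1 → ¬ 2 ∣ orderOf c := by
    intro w hw hd
    have h1 : w ∈ τ.ker := hw
    have h2 : orderOf (⟨w, h1⟩ : τ.ker) = orderOf w := Subgroup.orderOf_mk _ _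
    have h3 : orderOf (⟨w, h1⟩ : τ.ker) ∣ Nat.card τ.ker := orderOf_dvd_natCard _
    rw [h2] at h3
    exact hker (hd.trans h3)
  have hreg : ∀ c : Subgroup.centralizer ({J} : Set G), ¬ 2 ∣ orderOf c → τ c = 1 := by
    intro c hc
    obtain ⟨m, hm⟩ := Nat.not_even_iff_odd.1 (fun h' => hc h'.two_dvd)
    have h1 : (τ c) ^ orderOf c = 1 := by rw [← map_pow, pow_orderOf_eq_one, map_one]
    rw [hm, pow_succ, pow_mul, pow_two, hT1, one_pow, one_mul] at h1
    exact h1
  have hpJeq : τ ⟨J, hPH hJP⟩ = pJ := hτ pJ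
  -- the fibre
  have hKmem : ∀ u : G, orderOf u = 2 → IsConj J u := fun u hu => hone J u hJ2 hu
  have hKord : ∀ u : G, IsConj J u → orderOf u = 2 := by
    intro u hu
    obtain ⟨c, hc⟩ := isConj_iff.1 hu
    rw [← hc, orderOf_conj, hJ2]
  have hfib : ((Finset.univ.filter (fun u => IsConj J u)) ×ˢ (Finset.univ.filter (fun u => IsConj J u))).filter
        (fun x : G × G => IsPPart 2 (x.1 * x.2) J) = (I pj ×ˢ I (pJ * pj)) ∪ (I (pJ * pj) ×ˢ I pj) := by
    ext ⟨u, v⟩
    simp only [Finset.mem_filter, Finset.mem_product, Finset.mem_univ, true_and, Finset.mem_union, I]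
    constructor
    · rintro ⟨⟨hu, hv⟩, hpart⟩
      have hu2 := hKord u hu
      have hv2 := hKord v hv
      have huu : u * u = 1 := by rw [← pow_two, ← hu2, pow_orderOf_eq_one]
      have hvv : v * v = 1 := by rw [← pow_two, ← hv2, pow_orderOf_eq_one]
      have huinv : u⁻¹ = u := inv_eq_of_mul_eq_one_left huu
      have hvinv : v⁻¹ = v := inv_eq_of_mul_eq_one_left hvv
      have hJz := mem_zpowers_of_isPPart hpart
      have huinvert : u * (u * v) * u⁻¹ = (u * v)⁻¹ := by
        rw [mul_inv_rev, huinv, hvinv]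
        calc u * (u * v) * u = (u * u) * v * u := by group
          _ = v * u := by rw [huu, one_mul]
      have hvinvert : v * (u * v) * v⁻¹ = (u * v)⁻¹ := by
        rw [mul_inv_rev, huinv, hvinv]
        calc v * (u * v) * v = v * u * (v * v) := by group
          _ = v * u := by rw [hvv, mul_one]
      have huC : u ∈ Subgroup.centralizer ({J} : Set G) := by
        rw [mem_centralizer_singleton]
        have h1 := conj_inv_of_mem_zpowers huinvert hJz
        rw [hJinv] at h1
        calc u * J = u * J * u⁻¹ * u := by group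
          _ = J * u := by rw [h1]
      have hvC : v ∈ Subgroup.centralizer ({J} : Set G) := by
        rw [mem_centralizer_singleton]
        have h1 := conj_inv_of_mem_zpowers hvinvert hJz
        rw [hJinv] at h1
        calc v * J = v * J * v⁻¹ * v := by group
          _ = J * v := by rw [h1]
      obtain ⟨w, hw, hcw, -, hwo⟩ := hpart
      have hwC : w ∈ Subgroup.centralizer ({J} : Set G) := by
        rw [mem_centralizer_singleton]
        exact hcw.eq.symm
      have hwreg : τ ⟨w, hwC⟩ = 1 := by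
        apply hreg
        rw [Subgroup.orderOf_mk]
        exact hwo
      have hprod : τ ⟨u, huC⟩ * τ ⟨v, hvC⟩ = pJ := by
        rw [← map_mul]
        have h1 : (⟨u, huC⟩ : Subgroup.centralizer ({J} : Set G)) * ⟨v, hvC⟩ = ⟨J, hPH hJP⟩ * ⟨w, hwC⟩ :=
          Subtype.ext hw.symm
        rw [h1, map_mul, hpJeq, hwreg, mul_one]
      have hne : ∀ c : Subgroup.centralizer ({J} : Set G), orderOf c = 2 → τ c ≠ 1 := by
        intro c hc h0
        apply hodd c h0
        rw [hc]
      have hune : τ ⟨u, huC⟩ ≠ 1 := hne _ (by rw [Subgroup.orderOf_mk]; exact hu2)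
      have hvne : τ ⟨v, hvC⟩ ≠ 1 := hne _ (by rw [Subgroup.orderOf_mk]; exact hv2)
      rcases hTel (τ ⟨u, huC⟩) with h | h | h | h
      · exact absurd h hune
      · exfalso
        apply hvne
        rw [h] at hprod
        have := congrArg (fun t => pJ * t) hprod
        simp only [← mul_assoc, hT1, one_mul] at this
        exact this
      · left
        refine ⟨⟨huC, hu2, h⟩, ⟨hvC, hv2, ?_⟩⟩
        rw [h] at hprod
        have := congrArg (fun t => pj * t) hprod
        simp only [← mul_assoc, hT1, one_mul] at this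
        rw [this, hTc pj pJ]
      · right
        refine ⟨⟨huC, hu2, h⟩, ⟨hvC, hv2, ?_⟩⟩
        rw [h] at hprod
        have h2 : pJ * pj * τ ⟨v, hvC⟩ = pJ := hprod
        have := congrArg (fun t => pJ * t) h2
        simp only [← mul_assoc, hT1, one_mul] at this
        have h3 := congrArg (fun t => pj * t) this
        simp only [← mul_assoc, hT1, one_mul, mul_one] at h3
        exact h3
    · have hback : ∀ p p' : T, p * p' = pJ → (∃ hu : u ∈ Subgroup.centralizer ({J} : Set G), orderOf u = 2 ∧ τ ⟨u, hu⟩ = p) →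
          (∃ hv : v ∈ Subgroup.centralizer ({J} : Set G), orderOf v = 2 ∧ τ ⟨v, hv⟩ = p') →
          (IsConj J u ∧ IsConj J v) ∧ IsPPart 2 (u * v) J := by
        rintro p p' hpp ⟨hu, hu2, hup⟩ ⟨hv, hv2, hvp⟩
        refine ⟨⟨hKmem u hu2, hKmem v hv2⟩, ?_⟩
        let c : Subgroup.centralizer ({J} : Set G) := (⟨J, hPH hJP⟩ : Subgroup.centralizer ({J} : Set G))⁻¹ * (⟨u, hu⟩ * ⟨v, hv⟩)
        have hc : τ c = 1 := by
          simp only [c, map_mul, map_inv, hup, hvp, hpp, hpJeq]
          simp
        have hc2 := hodd c hc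
        refine ⟨(c : G), ?_, ?_, ⟨1, by simpa using hJ2⟩, ?_⟩
        · change J * (J⁻¹ * (u * v)) = u * v
          group
        · exact (mem_centralizer_singleton.1 c.2).symm
        · rw [Subgroup.orderOf_coe]
          exact hc2
      rintro (⟨h1, h2⟩ | ⟨h1, h2⟩)
      · exact hback pj (pJ * pj) (by rw [hTc pJ pj, ← mul_assoc, hT1, one_mul]) h1 h2
      · exact hback (pJ * pj) pj (by rw [mul_assoc, hT1, mul_one]) h1 h2
  have hdisj : Disjoint (I pj ×ˢ I (pJ * pj)) (I (pJ * pj) ×ˢ I pj) := by
    rw [Finset.disjoint_left]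
    rintro ⟨u, v⟩ h1 h2
    simp only [Finset.mem_product, I, Finset.mem_filter, Finset.mem_univ, true_and] at h1 h2
    obtain ⟨⟨hu, -, hu1⟩, -⟩ := h1
    obtain ⟨⟨hu', -, hu2⟩, -⟩ := h2
    have h3 : pj = pJ * pj := hu1.symm.trans hu2
    apply hpJ1
    have := congrArg (fun t => t * pj) h3
    simp only [mul_assoc, hT1, mul_one] at this
    exact this.symm
  rw [hfib, Finset.card_union_of_disjoint hdisj, Finset.card_product, Finset.card_product, hcardeq]
  ring

open Classical in
/-- **The total count.** -/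
theorem klein_total_count (P : Sylow 2 G)
    (hsq : ∀ x ∈ (P : Subgroup G), x * x = 1)
    (hone : ∀ s t : G, orderOf s = 2 → orderOf t = 2 → IsConj s t) {J : G} (hJ2 : orderOf J = 2) :
    (((Finset.univ.filter (fun u => IsConj J u)) ×ˢ (Finset.univ.filter (fun u => IsConj J u))).filter
        (fun x : G × G => 2 ∣ orderOf (x.1 * x.2))).card =
    (Finset.univ.filter (fun u => IsConj J u)).card *
    (((Finset.univ.filter (fun u => IsConj J u)) ×ˢ (Finset.univ.filter (fun u => IsConj J u))).filter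
        (fun x : G × G => IsPPart 2 (x.1 * x.2) J)).card := by
  set K := Finset.univ.filter (fun u => IsConj J u) with hK
  have hJ1 : J ≠ 1 := by
    rintro rfl
    simp at hJ2
  have hKmem : ∀ u : G, orderOf u = 2 → u ∈ K := fun u hu => by
    simp only [hK, Finset.mem_filter, Finset.mem_univ, true_and]
    exact hone J u hJ2 hu
  have hKord : ∀ u ∈ K, orderOf u = 2 := by
    intro u hu
    simp only [hK, Finset.mem_filter, Finset.mem_univ, true_and] at hu
    obtain ⟨c, hc⟩ := isConj_iff.1 hu
    rw [← hc, orderOf_conj, hJ2]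
  -- the two-part
  have hjor : ∀ g : G, ∃ x, IsPPart 2 g x := by
    intro g
    obtain ⟨a, b, h1, h2, h3, h4, _, _⟩ := exists_jordan (p := 2) g
    exact ⟨a, b, h1, h2, h3, h4⟩
  choose part hpart using hjor
  have hinv : ∀ g : G, 2 ∣ orderOf g → orderOf (part g) = 2 := by
    intro g hg
    obtain ⟨b, h1, h2, h3, h4⟩ := hpart g
    have hne : part g ≠ 1 := by
      intro h
      rw [h, one_mul] at h1
      rw [h1] at h4
      exact h4 hg
    have hsqp : part g * part g = 1 := by
      have h5 : IsPGroup 2 (Subgroup.zpowers (part g)) := isPGroup_zpowers_of_orderOf h3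
      obtain ⟨Q, hQ⟩ := h5.exists_le_sylow
      obtain ⟨c, hc'⟩ := MulAction.exists_smul_eq G Q P
      have h6 : c * part g * c⁻¹ ∈ (P : Subgroup G) := by
        rw [← hc']
        refine ⟨part g, hQ (Subgroup.mem_zpowers _), ?_⟩
        simp [MulAut.smul_def]
      have h7 := hsq _ h6
      have h8 : part g * part g = c⁻¹ * ((c * part g * c⁻¹) * (c * part g * c⁻¹)) * c := by group
      rw [h8, h7]
      simp
    exact orderOf_eq_prime (by rw [pow_two]; exact hsqp) hne
  rw [Finset.card_eq_sum_card_fiberwise (f := fun x : G × G => part (x.1 * x.2)) (t := K) (by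
    intro x hx
    have hx' := (Finset.mem_filter.1 hx).2
    exact hKmem _ (hinv _ hx'))]
  rw [← smul_eq_mul, ← Finset.sum_const]
  refine Finset.sum_congr rfl fun b hb => ?_
  -- the conjugation
  have hb2 := hKord b hb
  obtain ⟨c, hc⟩ := isConj_iff.1 (hone J b hJ2 hb2)
  have hmem : ∀ (d x : G), x ∈ K → d * x * d⁻¹ ∈ K := by
    intro d x hx
    apply hKmem
    rw [orderOf_conj]
    exact hKord x hx
  have hfilter : (Finset.filter (fun x : G × G => part (x.1 * x.2) = b) ((K ×ˢ K).filter (fun x : G × G => 2 ∣ orderOf (x.1 * x.2)))) =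
      (K ×ˢ K).filter (fun x : G × G => IsPPart 2 (x.1 * x.2) b) := by
    ext x
    simp only [Finset.mem_filter, Finset.mem_product]
    constructor
    · rintro ⟨⟨h1, h2⟩, h3⟩
      refine ⟨h1, ?_⟩
      rw [← h3]
      exact hpart _
    · rintro ⟨h1, h2⟩
      have h3 := IsPPart_eq h2 (hpart (x.1 * x.2))
      refine ⟨⟨h1, ?_⟩, h3.symm⟩
      by_contra h4
      have h5 : IsPPart 2 (x.1 * x.2) 1 := ⟨x.1 * x.2, one_mul _, Commute.one_left _, ⟨0, by simp⟩, h4⟩
      have h6 := IsPPart_eq h2 h5
      rw [h6] at hb2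
      simp at hb2
  rw [hfilter]
  apply Finset.card_nbij' (fun x : G × G => (c⁻¹ * x.1 * c, c⁻¹ * x.2 * c)) (fun x : G × G => (c * x.1 * c⁻¹, c * x.2 * c⁻¹))
  · intro x hx
    have hx' := Finset.mem_filter.1 (Finset.mem_coe.1 hx)
    have hx1 := Finset.mem_product.1 hx'.1
    apply Finset.mem_coe.2
    refine Finset.mem_filter.2 ⟨Finset.mem_product.2 ⟨?_, ?_⟩, ?_⟩
    · have := hmem c⁻¹ x.1 hx1.1
      simpa using this
    · have := hmem c⁻¹ x.2 hx1.2
      simpa using this
    · have h1 := isPPart_conj hx'.2 c⁻¹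
      have e1 : c⁻¹ * (x.1 * x.2) * c⁻¹⁻¹ = c⁻¹ * x.1 * c * (c⁻¹ * x.2 * c) := by group
      have e2 : c⁻¹ * b * c⁻¹⁻¹ = J := by rw [← hc]; group
      rw [e1, e2] at h1
      exact h1
  · intro x hx
    have hx' := Finset.mem_filter.1 (Finset.mem_coe.1 hx)
    have hx1 := Finset.mem_product.1 hx'.1
    apply Finset.mem_coe.2
    refine Finset.mem_filter.2 ⟨Finset.mem_product.2 ⟨hmem c _ hx1.1, hmem c _ hx1.2⟩, ?_⟩
    have h1 := isPPart_conj hx'.2 c
    have e1 : c * (x.1 * x.2) * c⁻¹ = c * x.1 * c⁻¹ * (c * x.2 * c⁻¹) := by group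
    rw [e1, hc] at h1
    exact h1
  · intro x _
    ext <;> simp only <;> group
  · intro x _
    ext <;> simp only <;> group

end Count

end Cfsg.Agent.Lib.FF
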