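import Cfsg.Agent.Lib.Block.Klein2
import Cfsg.Agent.Lib.Block.Extended
import Cfsg.Agent.Lib.Block.CentralDefect3
import Cfsg.Agent.Lib.Block.DefectInd
import Cfsg.Agent.Lib.CharExtra.PIndex

/-!
# Sections of blocks: general formulas

The section expansion for a general block, the two-variable sum formula, central involutions.
-/

set_option autoImplicit false
set_option linter.unusedSectionVars false
set_option linter.unusedSimpArgs false
set_option linter.unusedVariables false

open scoped ComplexConjugate
open Cfsg MonoidAlgebra Cfsg.Agent.Lib.Char Cfsg.Agent.Lib.Block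

namespace Cfsg.Agent.Lib.FF

section Sec

variable {G : Type*} [Group G] [Fintype G] {p : ℕ} [hp : Fact p.Prime] {M : Ideal AlgInt}

open Classical in
/-- The section formula for a general block. -/
theorem irr_section_block (hM : IsPModular p M) {B : Set (IrrCharacter G)} (hB : IsBlockUnion M B) {u : G}
    (hu : ∃ k, orderOf u = p ^ k)
    [Fintype (Subgroup.centralizer ({u} : Set G))] (y : Subgroup.centralizer ({u} : Set G)) (hy : ¬ p ∣ orderOf y)
    (χ : IrrCharacter G) (hχ : χ ∈ B) :
    (χ : G → ℂ) (u * y) = ∑ ξ : IrrCharacter (Subgroup.centralizer ({u} : Set G)),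
      if ξ ∈ indSet M (Subgroup.centralizer ({u} : Set G)) B then
        classInner (fun c : Subgroup.centralizer ({u} : Set G) => (χ : G → ℂ) (u * c))
          (ξ : Subgroup.centralizer ({u} : Set G) → ℂ) * (ξ : Subgroup.centralizer ({u} : Set G) → ℂ) y else 0 := by
  classical
  have := isPModular_isPrime hM
  have h1 := tr_irr_section hM hB hu y hy χ
  rw [tr_mul_central χ.2 (isCentralElt_blockElt _), om_blockElt_of_mem hχ, one_mul, tr_single, one_mul,
    tr_blockElt_mul _ (isClassFunction_section _ (IsCharacter.isClassFunction (IsIrrCharacter.isCharacter χ.2)))] at h1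
  rw [h1]
  refine Finset.sum_congr rfl fun ξ _ => ?_
  rw [tr_single, one_mul]

open Classical in
/-- **The section sum formula**: `∑_{χ ∈ B} conj χ(z y') χ(z y) = ∑_{ξ ∈ b} conj ξ(y') ξ(y)`. -/
theorem sum_block_section (hM : IsPModular p M) {B : Set (IrrCharacter G)} (hB : IsBlockUnion M B) {z : G}
    (hz : ∃ k, orderOf z = p ^ k)
    [Fintype (Subgroup.centralizer ({z} : Set G))] (y y' : Subgroup.centralizer ({z} : Set G))
    (hy : ¬ p ∣ orderOf y) (hy'o : ¬ p ∣ orderOf y') :
    ∑ ζ : IrrCharacter G, (if ζ ∈ B then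
        conj ((ζ : G → ℂ) (z * y')) * (ζ : G → ℂ) (z * y) else 0) =
      ∑ ξ : IrrCharacter (Subgroup.centralizer ({z} : Set G)),
        (if ξ ∈ indSet M (Subgroup.centralizer ({z} : Set G)) B then
          conj ((ξ : Subgroup.centralizer ({z} : Set G) → ℂ) y') * (ξ : Subgroup.centralizer ({z} : Set G) → ℂ) y else 0) := by
  have := isPModular_isPrime hM
  have hy' : ¬ p ∣ orderOf (y' : G) := by rwa [Subgroup.orderOf_coe]
  have hb : IsBlockUnion M (indSet M (Subgroup.centralizer ({z} : Set G)) B) := isBlockUnion_indSet _ B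
  have h1 := tr_classInd_blockElt_mul (z * (y' : G)) B (MonoidAlgebra.single (z * (y : G)) 1)
  have h2 := tr_block_section hM hB hz y hy (classInd (z * (y' : G))) (classInd_isClassFunction _)
  have h3 := tr_classInd_blockElt_mul y' (indSet M (Subgroup.centralizer ({z} : Set G)) B) (MonoidAlgebra.single y 1)
  have h4 : tr (fun c : Subgroup.centralizer ({z} : Set G) => classInd (z * (y' : G)) (z * c))
      (blockElt (indSet M (Subgroup.centralizer ({z} : Set G)) B) * MonoidAlgebra.single y 1) =
      tr (classInd y')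
      (blockElt (indSet M (Subgroup.centralizer ({z} : Set G)) B) * MonoidAlgebra.single y 1) := by
    have h5 := tr_classFunction_block_eq_zero hM hb
      (fun c : Subgroup.centralizer ({z} : Set G) => classInd (z * (y' : G)) (z * c) - classInd y' c)
      (by
        intro c k
        have e1 := isClassFunction_section (x := z) _ (classInd_isClassFunction (z * (y' : G))) c k
        have e2 := classInd_isClassFunction y' c k
        simp only at e1 ⊢
        rw [e1, e2])
      (by
        intro c hc
        have hc' : ¬ p ∣ orderOf (c : G) := by rwa [Subgroup.orderOf_coe]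
        have e := isConj_mul_iff hz hy' hc'
        unfold classInd
        by_cases h : IsConj c y'
        · rw [if_pos (e.2 h), if_pos h, sub_self]
        · rw [if_neg (fun h' => h (e.1 h')), if_neg h, sub_self])
      hy
    unfold tr at h5 ⊢
    simp only [mul_sub, Finset.sum_sub_distrib] at h5
    exact sub_eq_zero.1 h5
  rw [h1, h4, h3, card_centralizer_mul hz y' hy'] at h2
  simp only [tr_single, one_mul] at h2
  exact mul_left_cancel₀ (inv_ne_zero (card_centralizer_ne_zero _)) h2

/-- A central involution acts on an irreducible module by a sign. -/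
theorem central_inv_sign {H : Type*} [Group H] [Fintype H] (ξ : IrrCharacter H) {z : H}
    (hzc : ∀ c : H, z * c = c * z) (hz2 : z * z = 1) :
    ∃ s : ℤ, (s = 1 ∨ s = -1) ∧ ∀ c : H, (ξ : H → ℂ) (z * c) = (s : ℂ) * (ξ : H → ℂ) c := by
  classical
  have hcen : IsCentralElt (MonoidAlgebra.single z (1 : ℂ)) := by
    rw [isCentralElt_iff_commute_single]
    intro c
    rw [MonoidAlgebra.single_mul_single, MonoidAlgebra.single_mul_single, hzc c]
  set ω := om (ξ : H → ℂ) (MonoidAlgebra.single z (1 : ℂ)) with hω
  have h1 : ∀ c : H, (ξ : H → ℂ) (z * c) = ω * (ξ : H → ℂ) c := by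
    intro c
    have h2 := tr_mul_central ξ.2 hcen (MonoidAlgebra.single c 1)
    rw [MonoidAlgebra.single_mul_single, tr_single, tr_single, one_mul, one_mul, one_mul] at h2
    exact h2
  have h2 : (ξ : H → ℂ) 1 = ω * (ω * (ξ : H → ℂ) 1) := by
    conv_lhs => rw [← hz2, h1 z, ← mul_one z, h1 1]
  have h3 : (ξ : H → ℂ) 1 ≠ 0 := by
    rw [← charDegree_cast (IsIrrCharacter.isCharacter ξ.2)]
    exact_mod_cast (charDegree_pos_of_irr ξ.2).ne'
  have h4 : ω * ω = 1 := by
    apply mul_right_cancel₀ h3
    rw [mul_assoc, ← h2, one_mul]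
  have h5 : ω = 1 ∨ ω = -1 := mul_self_eq_one_iff.1 h4
  rcases h5 with h5 | h5
  · exact ⟨1, Or.inl rfl, fun c => by rw [h1, h5]; simp⟩
  · exact ⟨-1, Or.inr rfl, fun c => by rw [h1, h5]; simp⟩

/-- The inner product of the section function of a central involution. -/
theorem classInner_section_central (χ : G → ℂ) {x : G} [Fintype (Subgroup.centralizer ({x} : Set G))] (hx2 : x * x = 1)
    (ξ : Subgroup.centralizer ({x} : Set G) → ℂ) (s : ℤ)
    (hs : ∀ c : Subgroup.centralizer ({x} : Set G),
      ξ ((⟨x, mem_centralizer_self x⟩ : Subgroup.centralizer ({x} : Set G)) * c) = (s : ℂ) * ξ c) :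
    classInner (fun c : Subgroup.centralizer ({x} : Set G) => χ (x * c)) ξ =
      (s : ℂ) * classInner (fun c : Subgroup.centralizer ({x} : Set G) => χ c) ξ := by
  classical
  unfold classInner
  rw [mul_left_comm]
  congr 1
  rw [Finset.mul_sum]
  let x' : Subgroup.centralizer ({x} : Set G) := ⟨x, mem_centralizer_self x⟩
  rw [← Equiv.sum_comp (Equiv.mulLeft x') (fun c : Subgroup.centralizer ({x} : Set G) => χ (x * c) * conj (ξ c))]
  refine Finset.sum_congr rfl fun c _ => ?_
  simp only [Equiv.coe_mulLeft]
  have h1 : x * ((x' * c : Subgroup.centralizer ({x} : Set G)) : G) = c := by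
    change x * (x * (c : G)) = c
    rw [← mul_assoc, hx2, one_mul]
  rw [h1, hs c]
  simp only [map_mul, map_intCast]
  ring

theorem two_signs {ι : Type*} (S : Finset ι) (a : ι → ℤ) (hne : ∀ i ∈ S, a i ≠ 0)
    (hsum : ∑ i ∈ S, (a i) ^ 2 = 2) : S.card = 2 ∧ ∀ i ∈ S, a i = 1 ∨ a i = -1 := by
  have h1 : ∀ i ∈ S, (a i) ^ 2 = 1 := by
    intro i hi
    have h2 : (a i) ^ 2 ≤ 2 := by
      rw [← hsum]
      exact Finset.single_le_sum (f := fun i => (a i) ^ 2) (fun j _ => sq_nonneg _) hi
    have h3 : a i ≠ 0 := hne i hi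
    have h4 : |a i| < 2 := by
      by_contra hc
      push Not at hc
      have : (2 : ℤ) ^ 2 ≤ |a i| ^ 2 := pow_le_pow_left₀ (by norm_num) hc 2
      rw [sq_abs] at this
      omega
    have h5 : -2 < a i ∧ a i < 2 := abs_lt.1 h4
    have h6 : a i = 1 ∨ a i = -1 := by omega
    rcases h6 with h6 | h6 <;> rw [h6] <;> norm_num
  constructor
  · rw [Finset.sum_congr rfl h1] at hsum
    simp only [Finset.sum_const, nsmul_eq_mul, mul_one] at hsum
    exact_mod_cast hsum
  · intro i hi
    have := h1 i hi
    have h2 : (a i - 1) * (a i + 1) = 0 := by ring_nf; omega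
    rcases mul_eq_zero.1 h2 with h3 | h3
    · left; omega
    · right; omega

open Classical in
theorem sum_ite_pair {ι R : Type*} [Fintype ι] [AddCommMonoid R] {b : Set ι} {a c : ι} (hb : b = {a, c}) (hac : a ≠ c)
    (f : ι → R) : ∑ i : ι, (if i ∈ b then f i else 0) = f a + f c := by
  rw [← Finset.sum_filter]
  have : Finset.univ.filter (fun i => i ∈ b) = {a, c} := by
    ext i
    simp [hb]
  rw [this, Finset.sum_pair hac]

end Sec

end Cfsg.Agent.Lib.FF
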