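import Cfsg.Agent.Lib.FF.KleinBlock
import Cfsg.Agent.Lib.FF.SectionSum

/-!
# Groups of order `4 g₀` without normal `2`-complement: the order formula, first part
-/

set_option autoImplicit false
set_option linter.unusedSectionVars false
set_option linter.unusedSimpArgs false
set_option linter.unusedVariables false

open scoped ComplexConjugate
open Cfsg MonoidAlgebra Cfsg.Agent.Lib.Char Cfsg.Agent.Lib.Block

namespace Cfsg.Agent.Lib.FF

section Inv

variable {X : Type*} [Group X]

/-- Two involutions whose product has odd order are conjugate. -/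
theorem isConj_of_mul_odd {a b : X} (ha : a * a = 1) (hb : b * b = 1) (h : ¬ 2 ∣ orderOf (a * b)) : IsConj b a := by
  obtain ⟨r, hr⟩ : ∃ r, orderOf (a * b) + 1 = 2 * r := by
    have : Odd (orderOf (a * b)) := Nat.not_even_iff_odd.1 (fun h' => h h'.two_dvd)
    obtain ⟨m, hm⟩ := this
    exact ⟨m + 1, by omega⟩
  set w := a * b with hw
  have hw2 : w ^ (2 * r) = w := by
    rw [← hr, pow_succ, pow_orderOf_eq_one, one_mul]
  have hbinv : b⁻¹ = b := inv_eq_of_mul_eq_one_left hb
  have hinv : b * w⁻¹ * b⁻¹ = w := by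
    rw [hbinv, hw, mul_inv_rev, hbinv, inv_eq_of_mul_eq_one_left ha]
    calc b * (b * a) * b = (b * b) * a * b := by group
      _ = a * b := by rw [hb, one_mul]
  have hinvp : ∀ k : ℕ, b * (w⁻¹) ^ k * b⁻¹ = w ^ k := by
    intro k
    induction k with
    | zero => simp [hb, hbinv]
    | succ k ih =>
      calc b * w⁻¹ ^ (k + 1) * b⁻¹ = (b * w⁻¹ ^ k * b⁻¹) * (b * w⁻¹ * b⁻¹) := by
            rw [pow_succ]
            group
        _ = w ^ (k + 1) := by rw [ih, hinv, pow_succ]
  rw [isConj_iff]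
  refine ⟨w ^ r, ?_⟩
  have h1 : (w ^ r)⁻¹ = (w⁻¹) ^ r := by rw [inv_pow]
  rw [h1]
  calc w ^ r * b * w⁻¹ ^ r = w ^ r * (b * w⁻¹ ^ r * b⁻¹) * b := by group
    _ = w ^ r * w ^ r * b := by rw [hinvp]
    _ = w ^ (2 * r) * b := by rw [two_mul, pow_add]
    _ = w * b := by rw [hw2]
    _ = a := by rw [hw, mul_assoc, hb, mul_one]

/-- A retraction onto a commutative subgroup of exponent two, with odd kernel: conjugates of a nontrivial element
are characterised. -/
theorem isConj_retract_iff [Finite X] {T : Subgroup X} (τ : X →* T) (hτ : ∀ t : T, τ t = t)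
    (hker : ¬ 2 ∣ Nat.card τ.ker) (hcomm : ∀ a ∈ T, ∀ b ∈ T, a * b = b * a) (hsq : ∀ a ∈ T, a * a = 1)
    (p : T) (hp : p ≠ 1) (c : X) : IsConj (p : X) c ↔ orderOf c = 2 ∧ τ c = p := by
  haveI : Fintype X := Fintype.ofFinite X
  have hp1 : (p : X) ≠ 1 := fun h => hp (Subtype.ext h)
  have hpp : (p : X) * p = 1 := hsq p p.2
  have hodd : ∀ w : X, τ w = 1 → ¬ 2 ∣ orderOf w := by
    intro w hw hd
    have h1 : w ∈ τ.ker := hw
    have h2 : orderOf (⟨w, h1⟩ : τ.ker) = orderOf w := Subgroup.orderOf_mk _ _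
    have h3 : orderOf (⟨w, h1⟩ : τ.ker) ∣ Nat.card τ.ker := orderOf_dvd_natCard _
    rw [h2] at h3
    exact hker (hd.trans h3)
  constructor
  · intro h
    obtain ⟨d, hd⟩ := isConj_iff.1 h
    constructor
    · rw [← hd, orderOf_conj]
      exact orderOf_eq_prime (by rw [pow_two, hpp]) hp1
    · rw [← hd, map_mul, map_mul, map_inv, hτ p]
      apply Subtype.ext
      push_cast
      have h1 := hcomm _ (τ d).2 _ p.2
      rw [h1]
      group
  · rintro ⟨h1, h2⟩
    have hcc : c * c = 1 := by rw [← pow_two, ← h1, pow_orderOf_eq_one]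
    apply isConj_of_mul_odd hcc hpp
    apply hodd
    rw [map_mul, h2, hτ p]
    apply Subtype.ext
    exact hpp

/-- The retraction from Burnside's transfer. -/
theorem exists_retraction [Finite X] (Q : Sylow 2 X)
    (h : Subgroup.normalizer ((Q : Subgroup X) : Set X) ≤ Subgroup.centralizer ((Q : Subgroup X) : Set X))
    (hsq : ∀ a ∈ (Q : Subgroup X), a * a = 1) :
    ∃ τ : X →* (Q : Subgroup X), (∀ t : (Q : Subgroup X), τ t = t) ∧ ¬ 2 ∣ Nat.card τ.ker := by
  refine ⟨MonoidHom.transferSylow Q h, ?_, MonoidHom.not_dvd_card_ker_transferSylow Q h⟩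
  intro t
  have h1 := congrFun (MonoidHom.transferSylow_domRestrict_eq_pow Q h) t
  simp only [MonoidHom.domRestrict_apply] at h1
  rw [h1]
  have h2 : ¬ 2 ∣ (Q : Subgroup X).index := Q.not_dvd_index
  obtain ⟨m, hm⟩ := Nat.not_even_iff_odd.1 (fun h' => h2 h'.two_dvd)
  rw [hm]
  apply Subtype.ext
  have h3 : (t : X) * t = 1 := hsq t t.2
  simp only [SubgroupClass.coe_pow]
  rw [pow_succ, pow_mul, pow_two, h3, one_pow, one_mul]

end Inv

section Struct

variable {G : Type*} [Group G] [Fintype G]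

/-- The four elements of a four-group. -/
theorem klein_elements {P : Subgroup G} (hcard : Nat.card P = 4) {z y : G} (hzP : z ∈ P) (hy : y ∈ P) (hz1 : z ≠ 1)
    (hy1 : y ≠ 1) (hyz : y ≠ z) (hzz : z * z = 1) {w : G} (hw : w ∈ P) : w = 1 ∨ w = z ∨ w = y ∨ w = z * y := by
  classical
  have hzy : z * y ∈ P := P.mul_mem hzP hy
  have hne1 : z * y ≠ 1 := by
    intro h
    apply hyz
    have : y = z * z * y := by rw [hzz, one_mul]
    rw [this, mul_assoc, h, mul_one]
  have hne2 : z * y ≠ z := by
    intro h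
    exact hy1 (by simpa using h)
  have hne3 : z * y ≠ y := by
    intro h
    exact hz1 (by simpa using h)
  haveI : Fintype P := Fintype.ofFinite _
  have hFin : (P : Set G).toFinset = {1, z, y, z * y} := by
    symm
    apply Finset.eq_of_subset_of_card_le
    · intro w hw
      simp only [Finset.mem_insert, Finset.mem_singleton] at hw
      rw [Set.mem_toFinset]
      rcases hw with rfl | rfl | rfl | rfl
      · exact P.one_mem
      · exact hzP
      · exact hy
      · exact hzy
    · have h1 : (P : Set G).toFinset.card = 4 := by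
        rw [Set.toFinset_card, ← hcard, Nat.card_eq_fintype_card]
        rfl
      rw [h1, Finset.card_insert_of_notMem, Finset.card_insert_of_notMem, Finset.card_insert_of_notMem,
        Finset.card_singleton]
      · simpa using hne3.symm
      · simp only [Finset.mem_insert, Finset.mem_singleton, not_or]
        exact ⟨Ne.symm hyz, Ne.symm hne2⟩
      · simp only [Finset.mem_insert, Finset.mem_singleton, not_or]
        exact ⟨Ne.symm hz1, Ne.symm hy1, Ne.symm hne1⟩
  have : w ∈ (P : Set G).toFinset := by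
    rw [Set.mem_toFinset]
    exact hw
  rw [hFin] at this
  simpa using this

/-- The structure of a group of order `4 g₀` without a normal subgroup of order `g₀`. -/
theorem klein_struct (g₀ : ℕ) (hg₀ : Odd g₀) (hG : Nat.card G = 4 * g₀)
    (hnc : ¬ ∃ N : Subgroup G, N.Normal ∧ Nat.card N = g₀) (P : Sylow 2 G) :
    IsKleinFour (P : Subgroup G) ∧ ∀ s t : G, orderOf s = 2 → orderOf t = 2 → IsConj s t := by
  classical
  have hg2 : ¬ 2 ∣ g₀ := fun h => (Nat.not_even_iff_odd.2 hg₀) (even_iff_two_dvd.2 h)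
  have hg0 : g₀ ≠ 0 := hg₀.pos.ne'
  have hfac : (Nat.card G).factorization 2 = 2 := by
    rw [hG, Nat.factorization_mul (by norm_num) hg0]
    simp only [Finsupp.coe_add, Pi.add_apply, Nat.factorization_eq_zero_of_not_dvd hg2, add_zero]
    rw [show (4 : ℕ) = 2 ^ 2 by norm_num, Nat.Prime.factorization_pow Nat.prime_two]
    simp
  have hcard : Nat.card (P : Subgroup G) = 4 := by
    rw [Sylow.card_eq_multiplicity P, hfac]
    norm_num
  have hcompl : ∀ K : Subgroup G, K.Normal → ¬ 2 ∣ Nat.card K → (∃ k, K.index = 2 ^ k) → False := by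
    intro K hKn hK ⟨k, hk⟩
    apply hnc
    refine ⟨K, hKn, ?_⟩
    have h1 : Nat.card K * K.index = 4 * g₀ := by rw [Subgroup.card_mul_index, hG]
    rw [hk] at h1
    have h2 : 2 ^ k ∣ 4 := by
      have h3 : 2 ^ k ∣ 4 * g₀ := ⟨Nat.card K, by rw [← h1]; ring⟩
      have h4 : Nat.Coprime (2 ^ k) g₀ := Nat.Coprime.pow_left _ ((Nat.Prime.coprime_iff_not_dvd Nat.prime_two).2 hg2)
      exact h4.dvd_of_dvd_mul_right h3
    have h5 : 4 ∣ 2 ^ k := by
      have h3 : 4 ∣ Nat.card K * 2 ^ k := ⟨g₀, h1⟩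
      have h4 : Nat.Coprime 4 (Nat.card K) := by
        rw [show (4 : ℕ) = 2 ^ 2 by norm_num]
        exact Nat.Coprime.pow_left _ ((Nat.Prime.coprime_iff_not_dvd Nat.prime_two).2 hK)
      exact h4.dvd_of_dvd_mul_left h3
    have h6 : 2 ^ k = 4 := Nat.dvd_antisymm h2 h5
    rw [h6] at h1
    omega
  have hminFac : (Nat.card G).minFac = 2 := by
    rw [Nat.minFac_eq_two_iff, hG]
    exact ⟨2 * g₀, by ring⟩
  have hncyc : ¬ IsCyclic (P : Subgroup G) := by
    intro hc
    obtain ⟨K, hKn, hK, hidx⟩ := exists_complement_of_burnside P (IsCyclic.normalizer_le_centralizer hminFac hc)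
    exact hcompl K hKn hK hidx
  have hsq' : ∀ x : (P : Subgroup G), x * x = 1 := by
    intro x
    haveI : Fintype (P : Subgroup G) := Fintype.ofFinite _
    have h1 : orderOf x ∣ 4 := by
      rw [← hcard]
      exact orderOf_dvd_natCard x
    have h2 : orderOf x ≠ 4 := by
      intro h
      apply hncyc
      exact isCyclic_of_orderOf_eq_card x (by rw [h, hcard])
    have h3 : orderOf x ≤ 4 := Nat.le_of_dvd (by norm_num) h1
    have h4 : orderOf x = 1 ∨ orderOf x = 2 := by
      interval_cases h : orderOf x <;> simp_all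
    rw [← pow_two]
    rcases h4 with h4 | h4
    · rw [orderOf_eq_one_iff] at h4
      rw [h4]
      simp
    · have := pow_orderOf_eq_one x
      rwa [h4] at this
  have hsq : ∀ x ∈ (P : Subgroup G), x * x = 1 := fun x hx => congrArg Subtype.val (hsq' ⟨x, hx⟩)
  have hKlein : IsKleinFour (P : Subgroup G) := by
    refine ⟨hcard, ?_⟩
    have h1 : Monoid.exponent (P : Subgroup G) ∣ 2 := by
      apply Monoid.exponent_dvd_of_forall_pow_eq_one
      intro g
      rw [pow_two]
      exact hsq' g
    have h2 : Monoid.exponent (P : Subgroup G) ≠ 1 := by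
      intro h3
      have h4 := Monoid.exp_eq_one_iff.1 h3
      have h5 := Nat.card_eq_one_iff_unique.2 ⟨h4, ⟨1⟩⟩
      rw [hcard] at h5
      omega
    rcases (Nat.dvd_prime Nat.prime_two).1 h1 with h | h
    · exact absurd h h2
    · exact h
  refine ⟨hKlein, ?_⟩
  have hcomm : ∀ a ∈ (P : Subgroup G), ∀ b ∈ (P : Subgroup G), a * b = b * a := by
    intro a ha b hb
    have h1 := hsq a ha
    have h2 := hsq b hb
    have h3 := hsq _ ((P : Subgroup G).mul_mem ha hb)
    have ha' : a⁻¹ = a := inv_eq_of_mul_eq_one_left h1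
    have hb' : b⁻¹ = b := inv_eq_of_mul_eq_one_left h2
    have h4 : (a * b)⁻¹ = a * b := inv_eq_of_mul_eq_one_left h3
    rw [mul_inv_rev, ha', hb'] at h4
    exact h4.symm
  -- an element of the normalizer moving `P`
  have hnotle : ¬ Subgroup.normalizer ((P : Subgroup G) : Set G) ≤ Subgroup.centralizer ((P : Subgroup G) : Set G) := by
    intro h
    obtain ⟨K, hKn, hK, hidx⟩ := exists_complement_of_burnside P h
    exact hcompl K hKn hK hidx
  obtain ⟨n, hnN, hnC⟩ := Set.not_subset.1 hnotle
  obtain ⟨u, v, huv, hc, hu2, hv, hun, hvn⟩ := exists_jordan (p := 2) n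
  have hzN : Subgroup.zpowers n ≤ Subgroup.normalizer ((P : Subgroup G) : Set G) := by
    rw [Subgroup.zpowers_le]
    exact hnN
  have huP : u ∈ (P : Subgroup G) := mem_sylow_of_normalizes P hu2 (hzN hun)
  have hvN : v ∈ Subgroup.normalizer ((P : Subgroup G) : Set G) := hzN hvn
  have hvconj : ∀ y ∈ (P : Subgroup G), v * y * v⁻¹ ∈ (P : Subgroup G) := fun y hy =>
    (Subgroup.mem_normalizer_iff.1 hvN y).1 hy
  have hvC : ¬ ∀ y ∈ (P : Subgroup G), v * y * v⁻¹ = y := by
    intro h
    apply hnC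
    rw [SetLike.mem_coe, Subgroup.mem_centralizer_iff]
    intro y hy
    have h1 : v * y = y * v := by
      have := h y hy
      calc v * y = (v * y * v⁻¹) * v := by group
        _ = y * v := by rw [this]
    rw [← huv]
    calc y * (u * v) = (y * u) * v := by group
      _ = (u * y) * v := by rw [hcomm y hy u huP]
      _ = u * (y * v) := by group
      _ = u * (v * y) := by rw [h1]
      _ = u * v * y := by group
  have hmove : ∀ z ∈ (P : Subgroup G), z ≠ 1 → v * z * v⁻¹ ≠ z := by
    intro z hz hz1 h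
    exact hvC fun y hy => odd_fix_klein hsq hcomm hcard hz hz1 hv hvconj h hy
  -- all nontrivial elements of `P` are conjugate
  have hPconj : ∀ z ∈ (P : Subgroup G), z ≠ 1 → ∀ w ∈ (P : Subgroup G), w ≠ 1 → IsConj z w := by
    intro z hz hz1 w hw hw1
    set z₁ := v * z * v⁻¹ with hz₁
    set z₂ := v * z₁ * v⁻¹ with hz₂
    have hz₁P : z₁ ∈ (P : Subgroup G) := hvconj z hz
    have hz₂P : z₂ ∈ (P : Subgroup G) := hvconj z₁ hz₁P
    have hz₁1 : z₁ ≠ 1 := by
      intro h
      apply hz1
      have : z = v⁻¹ * z₁ * v := by rw [hz₁]; group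
      rw [this, h]
      simp
    have hzz₁ : z₁ ≠ z := hmove z hz hz1
    have hz₂1 : z₂ ≠ z₁ := hmove z₁ hz₁P hz₁1
    have hz₂z : z₂ ≠ z := by
      intro h
      -- `v^2` fixes `z`, hence `v` does
      obtain ⟨m, hm⟩ := Nat.not_even_iff_odd.1 (fun h' => hv h'.two_dvd)
      have hpow : ∀ k : ℕ, v ^ (2 * k) * z * (v ^ (2 * k))⁻¹ = z := by
        intro k
        induction k with
        | zero => simp
        | succ k ih =>
          have e : v ^ (2 * (k + 1)) = v * v * v ^ (2 * k) := by
            rw [show 2 * (k + 1) = 2 + 2 * k by ring, pow_add, pow_two]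
          rw [e]
          calc v * v * v ^ (2 * k) * z * (v * v * v ^ (2 * k))⁻¹
              = v * (v * (v ^ (2 * k) * z * (v ^ (2 * k))⁻¹) * v⁻¹) * v⁻¹ := by group
            _ = z₂ := by rw [ih]
            _ = z := h
      have h1 := hpow (m + 1)
      have h2 : v ^ (2 * (m + 1)) = v := by
        rw [show 2 * (m + 1) = orderOf v + 1 by omega, pow_succ, pow_orderOf_eq_one, one_mul]
      rw [h2] at h1
      exact hzz₁ h1
    have hzP2 : z * z = 1 := hsq z hz
    have hcases := klein_elements hcard hz hz₁P hz1 hz₁1 hzz₁ hzP2 hw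
    have hz₂eq : z₂ = z * z₁ := by
      have := klein_elements hcard hz hz₁P hz1 hz₁1 hzz₁ hzP2 hz₂P
      rcases this with h | h | h | h
      · exfalso
        have h3 : z₁ = v⁻¹ * z₂ * v := by rw [hz₂]; group
        rw [h] at h3
        simp at h3
        exact hz₁1 h3
      · exact absurd h hz₂z
      · exact absurd h hz₂1
      · exact h
    have hc1 : IsConj z z₁ := isConj_iff.2 ⟨v, rfl⟩
    have hc2 : IsConj z₁ z₂ := isConj_iff.2 ⟨v, rfl⟩
    rcases hcases with h | h | h | h
    · exact absurd h hw1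
    · rw [h]
    · rw [h]
      exact hc1
    · rw [h, ← hz₂eq]
      exact hc1.trans hc2
  -- conjugate involutions into `P`
  have hintoP : ∀ s : G, orderOf s = 2 → ∃ s' ∈ (P : Subgroup G), s' ≠ 1 ∧ IsConj s s' := by
    intro s hs
    have h1 : IsPGroup 2 (Subgroup.zpowers s) := isPGroup_zpowers_of_orderOf ⟨1, by simpa using hs⟩
    obtain ⟨Q, hQ⟩ := h1.exists_le_sylow
    obtain ⟨c, hc'⟩ := MulAction.exists_smul_eq G Q P
    have h2 : c * s * c⁻¹ ∈ (P : Subgroup G) := by
      rw [← hc']
      refine ⟨s, hQ (Subgroup.mem_zpowers s), ?_⟩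
      simp [MulAut.smul_def]
    refine ⟨_, h2, ?_, isConj_iff.2 ⟨c, rfl⟩⟩
    intro h
    have h3 : s = c⁻¹ * (c * s * c⁻¹) * c := by group
    rw [h] at h3
    simp at h3
    rw [h3] at hs
    simp at hs
  intro s t hs ht
  obtain ⟨s', hs', hs1, hsc⟩ := hintoP s hs
  obtain ⟨t', ht', ht1, htc⟩ := hintoP t ht
  exact hsc.trans ((hPconj s' hs' hs1 t' ht' ht1).trans htc.symm)

end Struct

section ClassSum

variable {G : Type*} [Group G] [Fintype G]

open Classical in
theorem classSum_eq_sum (J : G) :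
    classSum J = ∑ u ∈ Finset.univ.filter (fun u => IsConj J u), MonoidAlgebra.single u (1 : ℂ) := by
  unfold classSum ofFun
  rw [Finset.sum_filter]
  refine Finset.sum_congr rfl fun u _ => ?_
  by_cases h : IsConj J u
  · rw [if_pos h]
    simp only [if_pos h]
  · rw [if_neg h]
    simp only [if_neg h, MonoidAlgebra.single_zero]

open Classical in
/-- The double sum of an irreducible character over a conjugacy class. -/
theorem sum_class_mul_irr (χ : IrrCharacter G) (J : G) :
    ∑ u ∈ Finset.univ.filter (fun u => IsConj J u), ∑ v ∈ Finset.univ.filter (fun v => IsConj J v),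
      (χ : G → ℂ) (u * v) =
      ((Subgroup.centralizer ({J} : Set G)).index : ℂ) ^ 2 * ((χ : G → ℂ) J) ^ 2 / (χ : G → ℂ) 1 := by
  have hcf := IsCharacter.isClassFunction (IsIrrCharacter.isCharacter χ.2)
  have h1 := tr_mul_central χ.2 (isCentralElt_classSum J) (classSum J)
  rw [om_classSum hcf, tr_classSum hcf] at h1
  unfold centralChar at h1
  have h2 : tr (χ : G → ℂ) (classSum J * classSum J) =
      ∑ u ∈ Finset.univ.filter (fun u => IsConj J u), ∑ v ∈ Finset.univ.filter (fun v => IsConj J v),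
      (χ : G → ℂ) (u * v) := by
    rw [classSum_eq_sum, Finset.sum_mul_sum, tr_sum]
    refine Finset.sum_congr rfl fun u _ => ?_
    rw [tr_sum]
    refine Finset.sum_congr rfl fun v _ => ?_
    rw [MonoidAlgebra.single_mul_single, tr_single, one_mul, one_mul]
  rw [← h2, h1]
  ring

end ClassSum

end Cfsg.Agent.Lib.FF
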