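import Cfsg.Agent.Lib.FF.Lattice
import Mathlib

/-!
# Small helpers.  Owner: helper18.
-/

set_option autoImplicit false

namespace Cfsg.Agent.Lib.FF

open Subgroup

variable {G : Type*} [Group G]

/-- Factorization in a join, when the second factor normalizes the first. -/
theorem exists_mul_of_le_normalizer {Q R : Subgroup G} (hR : R ≤ normalizer (Q : Set G)) {x : G}
    (hx : x ∈ Q ⊔ R) : ∃ q ∈ Q, ∃ t ∈ R, x = q * t := by
  have hconj : ∀ r ∈ R, ∀ q ∈ Q, r * q * r⁻¹ ∈ Q := fun r hr q hq =>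
    (Subgroup.mem_normalizer_iff.mp (hR hr) q).mp hq
  let W : Subgroup G :=
    { carrier := {x | ∃ q ∈ Q, ∃ t ∈ R, x = q * t}
      mul_mem' := by
        rintro _ _ ⟨q, hq, t, ht, rfl⟩ ⟨q', hq', t', ht', rfl⟩
        refine ⟨q * (t * q' * t⁻¹), Q.mul_mem hq (hconj t ht q' hq'), t * t', R.mul_mem ht ht', ?_⟩
        group
      one_mem' := ⟨1, Q.one_mem, 1, R.one_mem, by simp⟩
      inv_mem' := by
        rintro _ ⟨q, hq, t, ht, rfl⟩
        refine ⟨t⁻¹ * q⁻¹ * t, ?_, t⁻¹, R.inv_mem ht, by group⟩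
        have := hconj t⁻¹ (R.inv_mem ht) q⁻¹ (Q.inv_mem hq)
        simpa using this }
  have hle : Q ⊔ R ≤ W := by
    refine sup_le (fun q hq => ⟨q, hq, 1, R.one_mem, by simp⟩) (fun t ht => ⟨1, Q.one_mem, t, ht, by simp⟩)
  exact hle hx

/-- A subgroup of prime order is generated by any nontrivial element. -/
theorem zpowers_eq_of_card_prime' [Finite G] {p : ℕ} (hp : p.Prime) {A : Subgroup G}
    (hA : Nat.card A = p) {z : G} (hz : z ∈ A) (h1 : z ≠ 1) : A = zpowers z := by
  have hle : zpowers z ≤ A := (Subgroup.zpowers_le).mpr hz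
  have hdvd : Nat.card (zpowers z) ∣ p := hA ▸ Subgroup.card_dvd_of_le hle
  rcases (Nat.dvd_prime hp).mp hdvd with h | h
  · exfalso
    have h3 : zpowers z = ⊥ := (Subgroup.card_eq_one).mp h
    exact h1 (Subgroup.zpowers_eq_bot.mp h3)
  · exact (Subgroup.eq_of_le_of_card_ge hle (by rw [hA, h])).symm

/-- The join of two commuting cyclic subgroups of order `p`, meeting trivially, is elementary abelian of order `p²`. -/
theorem card_sup_zpowers_of_commute [Finite G] {p : ℕ} {a b : G} (hab : a * b = b * a)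
    (ha : orderOf a = p) (hb : orderOf b = p) (hinf : zpowers a ⊓ zpowers b = ⊥) :
    Nat.card ↥(zpowers a ⊔ zpowers b) = p ^ 2 := by
  classical
  have hcomm : ∀ x ∈ zpowers a, ∀ y ∈ zpowers b, x * y = y * x := by
    rintro _ ⟨i, rfl⟩ _ ⟨j, rfl⟩
    exact (Commute.zpow_zpow hab i j).eq
  have hRN : zpowers b ≤ normalizer ((zpowers a : Subgroup G) : Set G) := by
    intro y hy
    rw [Subgroup.mem_normalizer_iff]
    intro x
    have e : ∀ x ∈ zpowers a, y * x * y⁻¹ = x := by
      intro x hx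
      rw [← hcomm x hx y hy]; group
    constructor
    · intro hx
      rw [e x hx]; exact hx
    · intro hx
      have h2 := e _ hx
      have : y * x * y⁻¹ = x := by
        have h3 : y * (y * x * y⁻¹) * y⁻¹ = y * x * y⁻¹ := h2
        have h4 : y * (y * x * y⁻¹) = y * x := by
          calc y * (y * x * y⁻¹) = y * (y * x * y⁻¹) * y⁻¹ * y := by group
            _ = y * x * y⁻¹ * y := by rw [h3]
            _ = y * x := by group
        exact mul_left_cancel h4
      rwa [this] at hx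
  apply le_antisymm
  · let f : zpowers a × zpowers b → ↥(zpowers a ⊔ zpowers b) := fun q =>
      ⟨q.1 * q.2, Subgroup.mul_mem _ (Subgroup.mem_sup_left q.1.2) (Subgroup.mem_sup_right q.2.2)⟩
    have hf : Function.Surjective f := by
      rintro ⟨x, hx⟩
      obtain ⟨q, hq, t, ht, rfl⟩ := exists_mul_of_le_normalizer hRN hx
      exact ⟨(⟨q, hq⟩, ⟨t, ht⟩), rfl⟩
    have := Nat.card_le_card_of_surjective f hf
    rw [Nat.card_prod, Nat.card_zpowers, Nat.card_zpowers, ha, hb] at this
    rwa [pow_two]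
  · have h := Cfsg.Agent.Lib.FF.card_mul_card_le_card_sup_mul_card_inf (zpowers a) (zpowers b)
    rw [hinf, Nat.card_zpowers, Nat.card_zpowers, ha, hb, Subgroup.card_bot, mul_one] at h
    rwa [pow_two]

/-- Every element of the join of two commuting cyclic subgroups of exponent `p` has `p`-th power `1`. -/
theorem pow_eq_one_of_mem_sup_zpowers {p : ℕ} {a b : G} (hab : a * b = b * a)
    (ha : a ^ p = 1) (hb : b ^ p = 1) {x : G} (hx : x ∈ zpowers a ⊔ zpowers b) : x ^ p = 1 := by
  have hc : Commute a b := hab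
  let W : Subgroup G :=
    { carrier := {x | ∃ i j : ℤ, x = a ^ i * b ^ j}
      mul_mem' := by
        rintro _ _ ⟨i, j, rfl⟩ ⟨k, l, rfl⟩
        refine ⟨i + k, j + l, ?_⟩
        have : b ^ j * a ^ k = a ^ k * b ^ j := (hc.zpow_zpow k j).eq.symm
        calc a ^ i * b ^ j * (a ^ k * b ^ l) = a ^ i * (b ^ j * a ^ k) * b ^ l := by group
          _ = a ^ i * (a ^ k * b ^ j) * b ^ l := by rw [this]
          _ = _ := by rw [zpow_add, zpow_add]; group
      one_mem' := ⟨0, 0, by simp⟩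
      inv_mem' := by
        rintro _ ⟨i, j, rfl⟩
        refine ⟨-i, -j, ?_⟩
        have : b ^ (-j) * a ^ (-i) = a ^ (-i) * b ^ (-j) := (hc.zpow_zpow (-i) (-j)).eq.symm
        rw [← this]; group }
  have hle : zpowers a ⊔ zpowers b ≤ W := by
    refine sup_le ((Subgroup.zpowers_le).mpr ⟨1, 0, by simp⟩) ((Subgroup.zpowers_le).mpr ⟨0, 1, by simp⟩)
  obtain ⟨i, j, rfl⟩ := hle hx
  have hc2 : Commute (a ^ i) (b ^ j) := hc.zpow_zpow i j
  rw [hc2.mul_pow, ← zpow_natCast, ← zpow_natCast, ← zpow_mul, ← zpow_mul, mul_comm i, mul_comm j,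
    zpow_mul, zpow_mul, zpow_natCast, zpow_natCast, ha, hb]
  simp

end Cfsg.Agent.Lib.FF
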