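import Cfsg.Agent.Lib.FrobThm.Replacement
import Mathlib

/-!
The counting core of replacement theorems: for a subgroup `A` and an element `x`, the subgroup `M` generated by the
commutators `[x,a]`, `a ∈ A`.
-/

set_option autoImplicit false

namespace Cfsg.Agent.Lib.FF

open Subgroup
open scoped commutatorElement
open Cfsg.Agent.Lib.FrobThm

variable {G : Type*} [Group G]

/-- The subgroup generated by the commutators `[x,a]`, `a ∈ A`. -/
def commGen (x : G) (A : Subgroup G) : Subgroup G :=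
  closure ((fun a : G => ⁅x, a⁆) '' (A : Set G))

/-- The elements `a ∈ A` with `x a x⁻¹ ∈ A`. -/
def conjInf (x : G) (A : Subgroup G) : Subgroup G :=
  A ⊓ A.comap (MulAut.conj x).toMonoidHom

theorem mem_commGen {x a : G} {A : Subgroup G} (ha : a ∈ A) : ⁅x, a⁆ ∈ commGen x A :=
  subset_closure ⟨a, ha, rfl⟩

theorem commGen_le {x : G} {A L : Subgroup G} (h : ∀ a ∈ A, ⁅x, a⁆ ∈ L) : commGen x A ≤ L :=
  (closure_le _).2 (by rintro _ ⟨a, ha, rfl⟩; exact h a ha)

theorem commGen_mono {x : G} {A B : Subgroup G} (h : A ≤ B) : commGen x A ≤ commGen x B :=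
  commGen_le (fun _ ha => mem_commGen (h ha))

theorem mem_conjInf {x a : G} {A : Subgroup G} : a ∈ conjInf x A ↔ a ∈ A ∧ x * a * x⁻¹ ∈ A := by
  constructor
  · rintro ⟨h1, h2⟩
    exact ⟨h1, by simpa [MulAut.conj_apply] using h2⟩
  · rintro ⟨h1, h2⟩
    exact ⟨h1, by simpa [MulAut.conj_apply] using h2⟩

theorem conj_eq_comm_mul (x a : G) : x * a * x⁻¹ = ⁅x, a⁆ * a := by
  simp [commutatorElement_def, mul_assoc]

theorem mem_conjInf' {x a : G} {A : Subgroup G} : a ∈ conjInf x A ↔ a ∈ A ∧ ⁅x, a⁆ ∈ A := by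
  rw [mem_conjInf, conj_eq_comm_mul]
  constructor
  · rintro ⟨h1, h2⟩
    refine ⟨h1, ?_⟩
    have := A.mul_mem h2 (A.inv_mem h1)
    simpa using this
  · rintro ⟨h1, h2⟩
    exact ⟨h1, A.mul_mem h2 h1⟩

theorem commGen_comm {x : G} {A : Subgroup G}
    (hc : ∀ a ∈ A, ∀ b ∈ A, ⁅x, a⁆ * ⁅x, b⁆ = ⁅x, b⁆ * ⁅x, a⁆) :
    ∀ m ∈ commGen x A, ∀ n ∈ commGen x A, m * n = n * m := by
  have h1 : commGen x A ≤ centralizer ((fun a : G => ⁅x, a⁆) '' (A : Set G)) := by
    apply commGen_le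
    intro a ha
    rw [mem_centralizer_iff]
    rintro _ ⟨b, hb, rfl⟩
    exact hc b hb a ha
  have h2 : ∀ m ∈ commGen x A, commGen x A ≤ centralizer ({m} : Set G) := by
    intro m hm
    apply commGen_le
    intro a ha
    rw [mem_centralizer_iff]
    rintro _ rfl
    exact (mem_centralizer_iff.mp (h1 hm) _ ⟨a, ha, rfl⟩).symm
  intro m hm n hn
  exact (mem_centralizer_iff.mp (h2 m hm hn) m rfl)

theorem conj_mem_commGen {x a m : G} {A : Subgroup G} (ha : a ∈ A) (hm : m ∈ commGen x A) :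
    a * m * a⁻¹ ∈ commGen x A := by
  have : commGen x A ≤ (commGen x A).comap (MulAut.conj a).toMonoidHom := by
    apply commGen_le
    intro b hb
    show a * ⁅x, b⁆ * a⁻¹ ∈ commGen x A
    have h1 := commutator_comm_identity x a b
    have h2 : a * ⁅x, b⁆ * a⁻¹ = ⁅x, a⁆⁻¹ * ⁅x, a * b⁆ := by rw [h1]; group
    rw [h2]
    exact (commGen x A).mul_mem ((commGen x A).inv_mem (mem_commGen ha)) (mem_commGen (A.mul_mem ha hb))
  exact this hm

variable [Finite G]

/-- The basic count: `A → M/(M ∩ A)`, `a ↦ [x,a]`, is an epimorphism with kernel `{a ∈ A | x a x⁻¹ ∈ A}`. -/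
theorem card_commGen {x : G} {A : Subgroup G}
    (hc : ∀ a ∈ A, ∀ b ∈ A, ⁅x, a⁆ * ⁅x, b⁆ = ⁅x, b⁆ * ⁅x, a⁆)
    (hn : ∀ a ∈ A, ∀ b ∈ A, (⁅x, b⁆)⁻¹ * a * ⁅x, b⁆ ∈ A) :
    Nat.card A * Nat.card (A ⊓ commGen x A : Subgroup G) =
      Nat.card (commGen x A) * Nat.card (conjInf x A) := by
  set M := commGen x A with hM
  have hMcomm := commGen_comm hc
  let Q : Subgroup M := A.subgroupOf M
  haveI hQn : Q.Normal := by
    refine ⟨fun n hn g => ?_⟩
    have : g * n * g⁻¹ = n := by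
      apply Subtype.ext
      have h1 := hMcomm g g.2 n n.2
      show (g : G) * n * (g : G)⁻¹ = n
      rw [h1]; group
    rw [this]; exact hn
  have hmod : ∀ a ∈ A, ∀ b ∈ A, (⁅x, b⁆)⁻¹ * (a * ⁅x, b⁆ * a⁻¹) ∈ A := by
    intro a ha b hb
    have h1 := hn a ha b hb
    have : (⁅x, b⁆)⁻¹ * (a * ⁅x, b⁆ * a⁻¹) = ((⁅x, b⁆)⁻¹ * a * ⁅x, b⁆) * a⁻¹ := by group
    rw [this]
    exact A.mul_mem h1 (A.inv_mem ha)
  let φ : A →* M ⧸ Q := MonoidHom.mk' (fun a => ((⟨⁅x, (a : G)⁆, mem_commGen a.2⟩ : M) : M ⧸ Q)) (by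
    intro a b
    rw [← QuotientGroup.mk_mul, QuotientGroup.eq]
    change ((⁅x, ((a * b : A) : G)⁆)⁻¹ * (⁅x, (a : G)⁆ * ⁅x, (b : G)⁆) : G) ∈ A
    have h1 : ⁅x, ((a * b : A) : G)⁆ = ⁅x, (a : G)⁆ * ((a : G) * ⁅x, (b : G)⁆ * (a : G)⁻¹) :=
      commutator_comm_identity x a b
    have h2 := hmod a a.2 b b.2
    rw [h1]
    have h3 : (⁅x, (a : G)⁆ * ((a : G) * ⁅x, (b : G)⁆ * (a : G)⁻¹))⁻¹ * (⁅x, (a : G)⁆ * ⁅x, (b : G)⁆) =
        ((⁅x, (b : G)⁆)⁻¹ * ((a : G) * ⁅x, (b : G)⁆ * (a : G)⁻¹))⁻¹ := by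
      group
    rw [h3]
    exact A.inv_mem h2)
  have hφ : ∀ a : A, φ a = ((⟨⁅x, (a : G)⁆, mem_commGen a.2⟩ : M) : M ⧸ Q) := fun _ => rfl
  have hsurj : Function.Surjective φ := by
    intro q
    obtain ⟨m, rfl⟩ := QuotientGroup.mk_surjective q
    let W : Subgroup G := ((φ.range).comap (QuotientGroup.mk' Q)).map M.subtype
    have hW : M ≤ W := by
      apply commGen_le
      intro a ha
      exact ⟨⟨⁅x, a⁆, mem_commGen ha⟩, ⟨⟨a, ha⟩, rfl⟩, rfl⟩
    obtain ⟨m', hm', hmm'⟩ := hW m.2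
    have : m' = m := Subtype.ext hmm'
    subst this
    obtain ⟨a, ha⟩ := hm'
    exact ⟨a, ha⟩
  have hker : Nat.card φ.ker = Nat.card (conjInf x A) := by
    have hle : conjInf x A ≤ A := inf_le_left
    have : φ.ker = (conjInf x A).subgroupOf A := by
      ext a
      rw [MonoidHom.mem_ker, hφ, QuotientGroup.eq_one_iff, mem_subgroupOf, mem_subgroupOf, mem_conjInf']
      constructor
      · intro h; exact ⟨a.2, h⟩
      · intro h; exact h.2
    rw [this]
    exact Nat.card_congr (subgroupOfEquivOfLe hle).toEquiv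
  have h1 : Nat.card φ.ker * Nat.card (M ⧸ Q) = Nat.card A := by
    have := Subgroup.card_mul_index φ.ker
    rw [Subgroup.index_ker, MonoidHom.range_eq_top.mpr hsurj] at this
    rw [← this]
    congr 1
    exact Nat.card_congr (Subgroup.topEquiv.toEquiv.symm)
  have hcard2 : Nat.card M = Nat.card (M ⧸ Q) * Nat.card (A ⊓ M : Subgroup G) := by
    have h1 := Subgroup.card_eq_card_quotient_mul_card_subgroup Q
    have h3 : Nat.card Q = Nat.card (A ⊓ M : Subgroup G) := by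
      show Nat.card (A.subgroupOf M) = _
      rw [← Subgroup.inf_subgroupOf_right]
      exact Nat.card_congr (Subgroup.subgroupOfEquivOfLe inf_le_right).toEquiv
    rw [h1, h3]
  rw [← h1, hcard2, hker]
  ring

/-- Equality form: if `K = conjInf x A` commutes with `M` and `M ∩ A ≤ K` then `|M ⊔ K| = |A|`. -/
theorem card_commGen_sup {x : G} {A : Subgroup G}
    (hc : ∀ a ∈ A, ∀ b ∈ A, ⁅x, a⁆ * ⁅x, b⁆ = ⁅x, b⁆ * ⁅x, a⁆)
    (hn : ∀ a ∈ A, ∀ b ∈ A, (⁅x, b⁆)⁻¹ * a * ⁅x, b⁆ ∈ A)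
    (hK : ∀ m ∈ commGen x A, ∀ k ∈ conjInf x A, m * k = k * m)
    (hMA : commGen x A ⊓ A ≤ conjInf x A) :
    Nat.card (commGen x A ⊔ conjInf x A : Subgroup G) = Nat.card A := by
  have h1 := card_commGen hc hn
  have hsup := card_sup_mul_inf (le_normalizer_of_commute hK)
  have hinf : conjInf x A ⊓ commGen x A = A ⊓ commGen x A := by
    apply le_antisymm
    · exact inf_le_inf_right _ inf_le_left
    · rintro y ⟨hy1, hy2⟩
      exact ⟨hMA ⟨hy2, hy1⟩, hy2⟩
  rw [hinf] at hsup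
  have hpos : 0 < Nat.card (A ⊓ commGen x A : Subgroup G) := Nat.card_pos
  apply Nat.eq_of_mul_eq_mul_right hpos
  rw [hsup, h1]

/-- Inequality form, used for abelian subgroups of maximal order. -/
theorem card_le_commGen_sup {x : G} {A : Subgroup G}
    (hA : ∀ a ∈ A, ∀ b ∈ A, a * b = b * a)
    (hc : ∀ a ∈ A, ∀ b ∈ A, ⁅x, a⁆ * ⁅x, b⁆ = ⁅x, b⁆ * ⁅x, a⁆)
    (hn : ∀ a ∈ A, ∀ b ∈ A, (⁅x, b⁆)⁻¹ * a * ⁅x, b⁆ ∈ A) :
    Nat.card A ≤ Nat.card (commGen x A ⊔ (A ⊓ centralizer (commGen x A : Set G)) : Subgroup G) := by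
  set M := commGen x A with hM
  set A₀ := A ⊓ centralizer (M : Set G) with hA₀
  have h1 := card_commGen hc hn
  have hMcomm := commGen_comm hc
  have hcomm : ∀ m ∈ M, ∀ k ∈ A₀, m * k = k * m := fun m hm k hk =>
    mem_centralizer_iff.mp hk.2 m hm
  have hsup := card_sup_mul_inf (le_normalizer_of_commute hcomm)
  have hinf : A₀ ⊓ M = A ⊓ M := by
    apply le_antisymm
    · exact inf_le_inf_right _ inf_le_left
    · rintro y ⟨hy1, hy2⟩
      exact ⟨⟨hy1, mem_centralizer_iff.mpr (fun m hm => hMcomm m hm y hy2)⟩, hy2⟩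
  rw [hinf] at hsup
  -- `|conjInf x A| ≤ |A₀|`
  have hle : Nat.card (conjInf x A) ≤ Nat.card A₀ := by
    let f : G →* G := (MulAut.conj x).toMonoidHom
    have hfinj : Function.Injective f := (MulAut.conj x).injective
    have hmap : (conjInf x A).map f ≤ A₀ := by
      rintro _ ⟨a, ha, rfl⟩
      obtain ⟨ha1, ha2⟩ := mem_conjInf.mp ha
      have e : f a = x * a * x⁻¹ := rfl
      rw [e]
      refine ⟨ha2, mem_centralizer_iff.mpr ?_⟩
      -- `y = x a x⁻¹` commutes with the generators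
      have hle2 : M ≤ centralizer ({x * a * x⁻¹} : Set G) := by
        apply commGen_le
        intro b hb
        rw [mem_centralizer_iff]
        rintro _ rfl
        have hbb : a * b = b * a := hA _ ha1 _ hb
        have hyb : (x * a * x⁻¹) * b⁻¹ = b⁻¹ * (x * a * x⁻¹) := hA _ ha2 _ (A.inv_mem hb)
        have hyxb : (x * a * x⁻¹) * (x * b * x⁻¹) = (x * b * x⁻¹) * (x * a * x⁻¹) := by
          calc (x * a * x⁻¹) * (x * b * x⁻¹) = x * (a * b) * x⁻¹ := by group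
            _ = x * (b * a) * x⁻¹ := by rw [hbb]
            _ = _ := by group
        rw [commutatorElement_def]
        calc (x * a * x⁻¹) * (x * b * x⁻¹ * b⁻¹) = ((x * a * x⁻¹) * (x * b * x⁻¹)) * b⁻¹ := by group
          _ = (x * b * x⁻¹) * ((x * a * x⁻¹) * b⁻¹) := by rw [hyxb]; group
          _ = (x * b * x⁻¹) * (b⁻¹ * (x * a * x⁻¹)) := by rw [hyb]
          _ = _ := by group
      intro m hm
      have := mem_centralizer_iff.mp (hle2 hm) _ rfl
      exact this.symm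
    have h2 : Nat.card ((conjInf x A).map f : Subgroup G) = Nat.card (conjInf x A) :=
      Subgroup.card_map_of_injective hfinj
    rw [← h2]
    exact Subgroup.card_le_of_le hmap
  have hpos : 0 < Nat.card (A ⊓ M : Subgroup G) := Nat.card_pos
  apply Nat.le_of_mul_le_mul_right _ hpos
  rw [hsup, h1]
  exact Nat.mul_le_mul_left _ hle

omit [Finite G] in
/-- The join of two commuting abelian subgroups is abelian. -/
theorem comm_sup {X Y : Subgroup G} (hX : ∀ a ∈ X, ∀ b ∈ X, a * b = b * a)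
    (hY : ∀ a ∈ Y, ∀ b ∈ Y, a * b = b * a) (hXY : ∀ a ∈ X, ∀ b ∈ Y, a * b = b * a) :
    ∀ a ∈ X ⊔ Y, ∀ b ∈ X ⊔ Y, a * b = b * a := by
  have h1 : ∀ a ∈ X, X ⊔ Y ≤ centralizer ({a} : Set G) := by
    intro a ha
    apply sup_le
    · intro b hb
      exact mem_centralizer_iff.mpr (by rintro _ rfl; exact hX _ ha _ hb)
    · intro b hb
      exact mem_centralizer_iff.mpr (by rintro _ rfl; exact hXY _ ha _ hb)
  have h2 : ∀ a ∈ Y, X ⊔ Y ≤ centralizer ({a} : Set G) := by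
    intro a ha
    apply sup_le
    · intro b hb
      exact mem_centralizer_iff.mpr (by rintro _ rfl; exact (hXY _ hb _ ha).symm)
    · intro b hb
      exact mem_centralizer_iff.mpr (by rintro _ rfl; exact hY _ ha _ hb)
  intro a ha b hb
  have h3 : X ⊔ Y ≤ centralizer ({b} : Set G) := by
    apply sup_le
    · intro c hc
      exact mem_centralizer_iff.mpr (by rintro _ rfl; exact (mem_centralizer_iff.mp (h1 c hc hb) c rfl).symm)
    · intro c hc
      exact mem_centralizer_iff.mpr (by rintro _ rfl; exact (mem_centralizer_iff.mp (h2 c hc hb) c rfl).symm)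
  exact (mem_centralizer_iff.mp (h3 ha) b rfl).symm

end Cfsg.Agent.Lib.FF
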