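import Cfsg.Agent.Lib.FF.Basic
import Cfsg.Prelude.Def_SylowControl
import Mathlib

/-!
# `sylowMembers` and `subgroupConjRight`.  Owner: helper18.
-/

set_option autoImplicit false
set_option linter.unusedSectionVars false

namespace Cfsg.Agent.Lib.FF

open Subgroup Cfsg

variable {G : Type*} [Group G] [Finite G] {p : ℕ} [hp : Fact p.Prime]

theorem exists_sylow_map_iff {A X : Subgroup G} (hAX : A ≤ X) :
    (∃ P : Sylow p ↥X, (P : Subgroup ↥X).map X.subtype = A) ↔ IsSylowIn p A X := by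
  constructor
  · rintro ⟨P, rfl⟩
    exact isSylowIn_of_sylow P
  · intro h
    refine ⟨h.toSylow, ?_⟩
    rw [IsSylowIn.coe_toSylow, Subgroup.map_subgroupOf_eq_of_le hAX]

theorem mem_sylowMembers_iff {𝓕 : Set (Subgroup G)} {S X : Subgroup G} :
    X ∈ sylowMembers p 𝓕 S ↔ X ∈ 𝓕 ∧ IsSylowIn p (S ⊓ X) X := by
  rw [sylowMembers, Set.mem_ofPred_eq, exists_sylow_map_iff inf_le_right]

/-- Moving members of `𝓕(S^g)` to `𝓕(S)`: here `X^g = g⁻¹ X g`. -/
theorem conjRight_mem_sylowMembers {𝓕 : Set (Subgroup G)} (h𝓕 : IsNormalSet 𝓕) {S X : Subgroup G}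
    (g : G) (hX : X ∈ sylowMembers p 𝓕 S) :
    subgroupConjRight g X ∈ sylowMembers p 𝓕 (subgroupConjRight g S) := by
  rw [mem_sylowMembers_iff] at hX ⊢
  refine ⟨h𝓕 X hX.1 g, ?_⟩
  have := hX.2.conj g⁻¹
  rw [Subgroup.map_inf _ _ _ (MulEquiv.injective _)] at this
  exact this

theorem conjRight_conj (g : G) (X : Subgroup G) :
    subgroupConjRight g (X.map (MulAut.conj g).toMonoidHom) = X := by
  rw [subgroupConjRight, conj_mul_conj, inv_mul_cancel, conj_one']

theorem conj_conjRight (g : G) (X : Subgroup G) :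
    (subgroupConjRight g X).map (MulAut.conj g).toMonoidHom = X := by
  rw [subgroupConjRight, conj_mul_conj, mul_inv_cancel, conj_one']

end Cfsg.Agent.Lib.FF
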