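import Cfsg.Agent.Lib.FF.TateLift

/-!
# The Tate formula for an endomorphism acting by rank one on one of the cohomology groups;
link between the reduction and the characteristic polynomial on a pure submodule
-/

set_option autoImplicit false
set_option linter.unusedSectionVars false
set_option linter.unusedVariables false

namespace Cfsg.Agent.Lib.FF

open Module Polynomial

section Count

variable {R : Type*} [CommRing R] {L : Type*} [AddCommGroup L] [Module R L]
variable {k V : Type*} [Field k] [AddCommGroup V] [Module k V]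
variable {p : ℕ} (d : RedData p R k L V)

theorem exists_theta (S : Submodule R L) {ι : Type*} [Fintype ι] (b : Basis ι R S)
    (htf : ∀ v : L, (p : R) • v = 0 → v = 0) (hpure : ∀ v, (p : R) • v ∈ S → v ∈ S) :
    ∃ Θ : (ι → k) →ₗ[k] V, Function.Injective Θ ∧ LinearMap.range Θ = d.imS S ∧
      (∀ s : S, Θ (fun i => d.σ (b.repr s i)) = d.red (s : L)) ∧
      ∀ u : ι → k, ∃ s : S, u = fun i => d.σ (b.repr s i) := by
  classical
  have hsum : ∀ s : S, d.red (s : L) = ∑ i, d.σ (b.repr s i) • d.red (b i : L) := by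
    intro s
    conv_lhs => rw [← b.sum_repr s]
    rw [Submodule.coe_sum, map_sum]
    refine Finset.sum_congr rfl fun i _ => ?_
    rw [Submodule.coe_smul, d.red_smul]
  let Θ : (ι → k) →ₗ[k] V := Fintype.linearCombination k (fun i => d.red (b i : L))
  have hΘ : ∀ s : S, Θ (fun i => d.σ (b.repr s i)) = d.red (s : L) := by
    intro s
    rw [hsum s]
    exact Fintype.linearCombination_apply _ _ _
  have hlift : ∀ u : ι → k, ∃ s : S, u = fun i => d.σ (b.repr s i) := by
    intro u
    refine ⟨∑ i, Function.surjInv d.σ_surj (u i) • b i, ?_⟩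
    ext i
    simp only [map_sum, map_smul, Finsupp.coe_finsetSum, Finset.sum_apply, Finsupp.smul_apply,
      Basis.repr_self, smul_eq_mul]
    rw [Finset.sum_eq_single i]
    · simp [Function.surjInv_eq d.σ_surj]
    · intro j _ hj
      simp [Finsupp.single_apply, hj]
    · simp
  refine ⟨Θ, ?_, ?_, hΘ, hlift⟩
  · rw [← LinearMap.ker_eq_bot, LinearMap.ker_eq_bot']
    intro u hu
    obtain ⟨s, rfl⟩ := hlift u
    rw [hΘ] at hu
    obtain ⟨w, hw⟩ := (d.red_ker _).1 hu
    have hwS : w ∈ S := hpure w (by rw [← hw]; exact s.2)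
    have h1 : s = (p : R) • (⟨w, hwS⟩ : S) := Subtype.ext hw
    ext i
    rw [h1, map_smul, Finsupp.smul_apply, smul_eq_mul, map_mul, d.σ_p, zero_mul]
    rfl
  · apply le_antisymm
    · rintro _ ⟨u, rfl⟩
      obtain ⟨s, rfl⟩ := hlift u
      rw [hΘ]
      exact d.red_mem_imS s.2
    · rintro _ ⟨a, ha, rfl⟩
      exact ⟨_, hΘ ⟨a, ha⟩⟩

/-- The dimension of the image of a pure submodule is its rank. -/
theorem finrank_imS (S : Submodule R L) [Module.Free R S] [Module.Finite R S]
    (htf : ∀ v : L, (p : R) • v = 0 → v = 0) (hpure : ∀ v, (p : R) • v ∈ S → v ∈ S) :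
    finrank k (d.imS S) = finrank R S := by
  classical
  have : Nontrivial R := d.σ.domain_nontrivial
  obtain ⟨Θ, h1, h2, h3, -⟩ := exists_theta d S (Module.Free.chooseBasis R S) htf hpure
  rw [← h2, LinearMap.finrank_range_of_inj h1, Module.finrank_fintype_fun_eq_card,
    Module.finrank_eq_card_chooseBasisIndex]

theorem natTrailing_add_rk (S : Submodule R L) [Module.Free R S] [Module.Finite R S]
    (htf : ∀ v : L, (p : R) • v = 0 → v = 0) (hpure : ∀ v, (p : R) • v ∈ S → v ∈ S)
    (E : Module.End R L) (hE : ∀ v ∈ S, E v ∈ S)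
    (hπ : IsIdempotentElem (d.bar E : Module.End k V)) :
    ((E.restrict hE).charpoly.map d.σ).natTrailingDegree + rk (d.bar E) (d.imS S) = finrank R S := by
  classical
  have : Nontrivial R := d.σ.domain_nontrivial
  let b := Module.Free.chooseBasis R S
  obtain ⟨Θ, h1, h2, h3, hlift⟩ := exists_theta (k := k) (V := V) d S b htf hpure
  let m := LinearMap.toMatrix b b (E.restrict hE)
  let φ : Module.End k (_ → k) := Matrix.toLin' (m.map d.σ)
  have hchar : (E.restrict hE).charpoly.map d.σ = φ.charpoly := by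
    rw [Matrix.charpoly_toLin', Matrix.charpoly_map, LinearMap.charpoly_toMatrix]
  have hΘφ : ∀ u, Θ (φ u) = d.bar E (Θ u) := by
    intro u
    obtain ⟨s, rfl⟩ := hlift u
    rw [h3, d.bar_red]
    have h7 : φ (fun i => d.σ (b.repr s i)) = fun i => d.σ (b.repr (E.restrict hE s) i) := by
      ext i
      show ((m.map d.σ).mulVec (fun i => d.σ (b.repr s i))) i = _
      have h8 := RingHom.map_mulVec d.σ m (b.repr s) i
      have h9 : (d.σ ∘ (b.repr s)) = fun i => d.σ (b.repr s i) := rfl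
      rw [h9] at h8
      rw [← h8]
      congr 1
      have h10 := LinearMap.toMatrix_mulVec_repr b b (E.restrict hE) s
      exact congrFun h10 i
    rw [h7, h3]
    rfl
  have hidem : ∀ v, d.bar E (d.bar E v) = d.bar E v := fun v => by
    have := congrArg (fun f : Module.End k V => f v) hπ
    simpa using this
  have hφ' : ∀ u, φ (φ u) = φ u := fun u => by
    apply h1
    rw [hΘφ, hΘφ, hidem]
  have hmax : φ.maxGenEigenspace 0 = LinearMap.ker φ := by
    ext v
    rw [Module.End.mem_maxGenEigenspace, LinearMap.mem_ker]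
    constructor
    · rintro ⟨n, hn⟩
      simp only [zero_smul, sub_zero] at hn
      have h11 : ∀ n : ℕ, ∀ w, (φ ^ (n + 1)) w = φ w := by
        intro n w
        induction n with
        | zero => simp
        | succ n ih =>
          rw [pow_succ']
          show φ ((φ ^ (n + 1)) w) = φ w
          rw [ih, hφ']
      cases n with
      | zero =>
        simp only [pow_zero, Module.End.one_apply] at hn
        rw [hn, map_zero]
      | succ n =>
        rw [← h11 n, hn]
    · intro hv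
      exact ⟨1, by simpa using hv⟩
  have h4 := LinearMap.finrank_maxGenEigenspace_zero_eq φ
  have h5 := LinearMap.finrank_range_add_finrank_ker φ
  rw [hmax] at h4
  rw [hchar, ← h4]
  have h6 : rk (d.bar E) (d.imS S) = finrank k (LinearMap.range φ) := by
    unfold rk
    have h7 : (d.imS S).map (d.bar E) = (LinearMap.range φ).map Θ := by
      rw [← h2]
      ext t
      constructor
      · rintro ⟨_, ⟨u, rfl⟩, rfl⟩
        exact ⟨φ u, ⟨u, rfl⟩, hΘφ u⟩
      · rintro ⟨_, ⟨u, rfl⟩, rfl⟩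
        exact ⟨Θ u, ⟨u, rfl⟩, (hΘφ u).symm⟩
    rw [h7]
    exact (LinearEquiv.finrank_eq (Submodule.equivMapOfInjective Θ h1 _)).symm
  rw [h6, add_comm, h5, Module.finrank_fintype_fun_eq_card, Module.finrank_eq_card_chooseBasisIndex]

variable {X : Module.End R L}

theorem red_notMem_nrm (htf : ∀ v : L, (p : R) • v = 0 → v = 0) (hX : X ^ p = 1) {a : L}
    (ha : a ∈ LinearMap.ker (X - 1)) (haN : ∀ v, nrm X p v ≠ a) :
    d.red a ∉ (⊤ : Submodule k V).map (d.bar (nrm X p)) := by
  rintro ⟨u, -, hu⟩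
  obtain ⟨v, rfl⟩ := d.red_surj u
  rw [d.bar_red] at hu
  have h1 : d.red (a - nrm X p v) = 0 := by rw [map_sub, hu, sub_self]
  obtain ⟨w, hw⟩ := (d.red_ker _).1 h1
  have h2 : (X - 1) w = 0 := by
    apply htf
    rw [← map_smul, ← hw, map_sub, LinearMap.mem_ker.mp ha, zero_sub, neg_eq_zero]
    exact congrArg (fun f : Module.End R L => f v) (y_mul_nrm hX)
  have h3 := nrm_apply_of_ker (p := p) (LinearMap.mem_ker.mpr h2)
  apply haN (v + w)
  rw [map_add, h3, ← hw]
  abel

variable [hpp : Fact p.Prime]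

theorem red_notMem_y (htf : ∀ v : L, (p : R) • v = 0 → v = 0) (hX : X ^ p = 1) {b : L}
    (hb : b ∈ LinearMap.ker (nrm X p)) (hbN : ∀ v, (X - 1) v ≠ b) :
    d.red b ∉ (⊤ : Submodule k V).map (d.bar (X - 1)) := by
  rintro ⟨u, -, hu⟩
  obtain ⟨v, rfl⟩ := d.red_surj u
  rw [d.bar_red] at hu
  have h1 : d.red (b - (X - 1) v) = 0 := by rw [map_sub, hu, sub_self]
  obtain ⟨w, hw⟩ := (d.red_ker _).1 h1
  have hyv : nrm X p ((X - 1) v) = 0 :=
    congrArg (fun f : Module.End R L => f v) (nrm_mul_y hX)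
  have h2 : w ∈ LinearMap.ker (nrm X p) := by
    rw [LinearMap.mem_ker]
    apply htf
    rw [← map_smul, ← hw, map_sub, LinearMap.mem_ker.mp hb, hyv, sub_zero]
  have h3 := y_qop_apply hX h2
  apply hbN (v - qop X p w)
  rw [map_sub, h3, ← hw]
  abel

/-- The Tate formula when `f` acts on `W` by a line and by zero on `W'`. -/
theorem tate_W [FiniteDimensional k V] (htf : ∀ v : L, (p : R) • v = 0 → v = 0) (hX : X ^ p = 1)
    {f : Module.End R L} (hf : Commute f X) {a : L} (ha : a ∈ LinearMap.ker (X - 1))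
    (haN : ∀ v, nrm X p v ≠ a) (ℓ : V → k)
    (hℓ : ∀ v ∈ LinearMap.ker (X - 1), ∃ r t, d.σ r = ℓ (d.red v) ∧ f v - r • a = nrm X p t)
    (hℓa : ℓ (d.red a) ≠ 0)
    (hfB : ∀ v ∈ LinearMap.ker (nrm X p), ∃ t, f v = (X - 1) t) (M : ℕ)
    (hM : IsIdempotentElem (d.bar (f ^ (M + 1)) : Module.End k V)) :
    ((p : ℤ) - 1) * rk (d.bar (f ^ (M + 1))) (d.imS (LinearMap.ker (X - 1))) -
        rk (d.bar (f ^ (M + 1))) (d.imS (LinearMap.ker (nrm X p))) = (p : ℤ) - 1 := by
  have hf' : Commute (f ^ (M + 1)) X := hf.pow_left _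
  have hform := tate_formula (p := p) d htf hX hf' hM
  set π : Module.End k V := d.bar (f ^ (M + 1)) with hπdef
  have hπpow : π = (d.bar f : Module.End k V) ^ (M + 1) := d.bar_pow _ _
  set Tn := (⊤ : Submodule k V).map (d.bar (nrm X p)) with hTn
  set Ty := (⊤ : Submodule k V).map (d.bar (X - 1)) with hTy
  have hNπ : Commute (d.bar (nrm X p) : Module.End k V) π :=
    d.bar_commute (commute_nrm_of_commute hf').symm
  have hyπ : Commute (d.bar (X - 1) : Module.End k V) π :=
    d.bar_commute (commute_y_of_commute hf').symm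
  have hTnπ : Tn.map π ≤ Tn := stable_map_of_commute hNπ stable_top
  have hTyπ : Ty.map π ≤ Ty := stable_map_of_commute hyπ stable_top
  have hTnA : Tn ≤ d.imS (LinearMap.ker (X - 1)) := by
    rintro _ ⟨u, -, rfl⟩
    obtain ⟨v, rfl⟩ := d.red_surj u
    rw [d.bar_red]
    apply d.red_mem_imS
    rw [LinearMap.mem_ker]
    exact congrArg (fun f : Module.End R L => f v) (y_mul_nrm hX)
  have hTyB : Ty ≤ d.imS (LinearMap.ker (nrm X p)) := by
    rintro _ ⟨u, -, rfl⟩
    obtain ⟨v, rfl⟩ := d.red_surj u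
    rw [d.bar_red]
    apply d.red_mem_imS
    rw [LinearMap.mem_ker]
    exact congrArg (fun f : Module.End R L => f v) (nrm_mul_y hX)
  have hAπ : (d.imS (LinearMap.ker (X - 1))).map π ≤ d.imS (LinearMap.ker (X - 1)) := by
    rw [hπdef, d.map_bar_imS]
    apply d.imS_mono
    rintro _ ⟨v, hv, rfl⟩
    rw [LinearMap.mem_ker]
    have : (X - 1) ((f ^ (M + 1)) v) = (f ^ (M + 1)) ((X - 1) v) :=
      congrArg (fun g : Module.End R L => g v) (commute_y_of_commute hf').symm.eq
    rw [this, LinearMap.mem_ker.mp hv, map_zero]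
  have hfTn : Tn.map (d.bar f) ≤ Tn := by
    refine stable_map_of_commute (π := d.bar f) (d.bar_commute (commute_nrm_of_commute hf).symm) stable_top
  have hfTy : Ty.map (d.bar f) ≤ Ty := by
    refine stable_map_of_commute (π := d.bar f) (d.bar_commute (commute_y_of_commute hf).symm) stable_top
  have hfA : ∀ u ∈ d.imS (LinearMap.ker (X - 1)), d.bar f u - ℓ u • d.red a ∈ Tn := by
    rintro _ ⟨v, hv, rfl⟩
    obtain ⟨r, t, hr, ht⟩ := hℓ v hv
    rw [d.bar_red, ← hr, ← d.red_smul, ← map_sub, ht, ← d.bar_red]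
    exact ⟨_, trivial, rfl⟩
  have hiter := iter_line hfTn (d.red_mem_imS ha) hfA M
  rw [← hπpow] at hiter
  have hA : rk π (d.imS (LinearMap.ker (X - 1))) = rk π Tn + 1 := by
    refine rk_succ_of_line hM hTnπ hTnA hAπ (d.red_mem_imS ha) (red_notMem_nrm d htf hX ha haN)
      (c := ℓ (d.red a) * ℓ (d.red a) ^ M) (mul_ne_zero hℓa (pow_ne_zero _ hℓa))
      (hiter _ (d.red_mem_imS ha)) (fun u hu => ⟨_, hiter u hu⟩)
  have hB : rk π (d.imS (LinearMap.ker (nrm X p))) = rk π Ty := by
    refine rk_eq_of_image_le hM hTyπ hTyB ?_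
    rintro _ ⟨_, ⟨v, hv, rfl⟩, rfl⟩
    obtain ⟨t, ht⟩ := hfB v hv
    rw [hπdef, d.bar_red]
    have h1 : (f ^ (M + 1)) v = (f ^ M) (f v) := by
      rw [pow_succ]
      rfl
    rw [h1, ht]
    have h2 : (f ^ M) ((X - 1) t) = (X - 1) ((f ^ M) t) :=
      congrArg (fun g : Module.End R L => g t) (commute_y_of_commute (hf.pow_left M)).eq
    rw [h2, ← d.bar_red]
    exact ⟨_, trivial, rfl⟩
  rw [hform, hA, hB]
  push_cast
  ring

/-- The Tate formula when `f` acts on `W'` by a line and by zero on `W`. -/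
theorem tate_W' [FiniteDimensional k V] (htf : ∀ v : L, (p : R) • v = 0 → v = 0) (hX : X ^ p = 1)
    {f : Module.End R L} (hf : Commute f X) {b : L} (hb : b ∈ LinearMap.ker (nrm X p))
    (hbN : ∀ v, (X - 1) v ≠ b) (ℓ : V → k)
    (hℓ : ∀ v ∈ LinearMap.ker (nrm X p), ∃ r t, d.σ r = ℓ (d.red v) ∧ f v - r • b = (X - 1) t)
    (hℓb : ℓ (d.red b) ≠ 0)
    (hfA : ∀ v ∈ LinearMap.ker (X - 1), ∃ t, f v = nrm X p t) (M : ℕ)
    (hM : IsIdempotentElem (d.bar (f ^ (M + 1)) : Module.End k V)) :
    ((p : ℤ) - 1) * rk (d.bar (f ^ (M + 1))) (d.imS (LinearMap.ker (X - 1))) -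
        rk (d.bar (f ^ (M + 1))) (d.imS (LinearMap.ker (nrm X p))) = -((p : ℤ) - 1) := by
  have hf' : Commute (f ^ (M + 1)) X := hf.pow_left _
  have hform := tate_formula (p := p) d htf hX hf' hM
  set π : Module.End k V := d.bar (f ^ (M + 1)) with hπdef
  have hπpow : π = (d.bar f : Module.End k V) ^ (M + 1) := d.bar_pow _ _
  set Tn := (⊤ : Submodule k V).map (d.bar (nrm X p)) with hTn
  set Ty := (⊤ : Submodule k V).map (d.bar (X - 1)) with hTy
  have hNπ : Commute (d.bar (nrm X p) : Module.End k V) π :=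
    d.bar_commute (commute_nrm_of_commute hf').symm
  have hyπ : Commute (d.bar (X - 1) : Module.End k V) π :=
    d.bar_commute (commute_y_of_commute hf').symm
  have hTnπ : Tn.map π ≤ Tn := stable_map_of_commute hNπ stable_top
  have hTyπ : Ty.map π ≤ Ty := stable_map_of_commute hyπ stable_top
  have hTnA : Tn ≤ d.imS (LinearMap.ker (X - 1)) := by
    rintro _ ⟨u, -, rfl⟩
    obtain ⟨v, rfl⟩ := d.red_surj u
    rw [d.bar_red]
    apply d.red_mem_imS
    rw [LinearMap.mem_ker]
    exact congrArg (fun f : Module.End R L => f v) (y_mul_nrm hX)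
  have hTyB : Ty ≤ d.imS (LinearMap.ker (nrm X p)) := by
    rintro _ ⟨u, -, rfl⟩
    obtain ⟨v, rfl⟩ := d.red_surj u
    rw [d.bar_red]
    apply d.red_mem_imS
    rw [LinearMap.mem_ker]
    exact congrArg (fun f : Module.End R L => f v) (nrm_mul_y hX)
  have hBπ : (d.imS (LinearMap.ker (nrm X p))).map π ≤ d.imS (LinearMap.ker (nrm X p)) := by
    rw [hπdef, d.map_bar_imS]
    apply d.imS_mono
    rintro _ ⟨v, hv, rfl⟩
    rw [LinearMap.mem_ker]
    have : nrm X p ((f ^ (M + 1)) v) = (f ^ (M + 1)) (nrm X p v) :=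
      congrArg (fun g : Module.End R L => g v) (commute_nrm_of_commute hf').symm.eq
    rw [this, LinearMap.mem_ker.mp hv, map_zero]
  have hfTy : Ty.map (d.bar f) ≤ Ty := by
    refine stable_map_of_commute (π := d.bar f) (d.bar_commute (commute_y_of_commute hf).symm) stable_top
  have hfB : ∀ u ∈ d.imS (LinearMap.ker (nrm X p)), d.bar f u - ℓ u • d.red b ∈ Ty := by
    rintro _ ⟨v, hv, rfl⟩
    obtain ⟨r, t, hr, ht⟩ := hℓ v hv
    rw [d.bar_red, ← hr, ← d.red_smul, ← map_sub, ht, ← d.bar_red]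
    exact ⟨_, trivial, rfl⟩
  have hiter := iter_line hfTy (d.red_mem_imS hb) hfB M
  rw [← hπpow] at hiter
  have hB : rk π (d.imS (LinearMap.ker (nrm X p))) = rk π Ty + 1 := by
    refine rk_succ_of_line hM hTyπ hTyB hBπ (d.red_mem_imS hb) (red_notMem_y d htf hX hb hbN)
      (c := ℓ (d.red b) * ℓ (d.red b) ^ M) (mul_ne_zero hℓb (pow_ne_zero _ hℓb))
      (hiter _ (d.red_mem_imS hb)) (fun u hu => ⟨_, hiter u hu⟩)
  have hA : rk π (d.imS (LinearMap.ker (X - 1))) = rk π Tn := by
    refine rk_eq_of_image_le hM hTnπ hTnA ?_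
    rintro _ ⟨_, ⟨v, hv, rfl⟩, rfl⟩
    obtain ⟨t, ht⟩ := hfA v hv
    rw [hπdef, d.bar_red]
    have h1 : (f ^ (M + 1)) v = (f ^ M) (f v) := by
      rw [pow_succ]
      rfl
    rw [h1, ht]
    have h2 : (f ^ M) (nrm X p t) = nrm X p ((f ^ M) t) :=
      congrArg (fun g : Module.End R L => g t) (commute_nrm_of_commute (hf.pow_left M)).eq
    rw [h2, ← d.bar_red]
    exact ⟨_, trivial, rfl⟩
  rw [hform, hA, hB]
  push_cast
  ring

/-- When both cohomology groups vanish, the ranks are in ratio `p - 1`. -/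
theorem tate_id [FiniteDimensional k V] (htf : ∀ v : L, (p : R) • v = 0 → v = 0) (hX : X ^ p = 1)
    (hA : ∀ a ∈ LinearMap.ker (X - 1), ∃ v, nrm X p v = a)
    (hB : ∀ b ∈ LinearMap.ker (nrm X p), ∃ v, (X - 1) v = b) :
    ((p : ℤ) - 1) * finrank k (d.imS (LinearMap.ker (X - 1))) =
      finrank k (d.imS (LinearMap.ker (nrm X p))) := by
  have hπ : IsIdempotentElem (d.bar (1 : Module.End R L) : Module.End k V) := by
    rw [d.bar_one]
    exact IsIdempotentElem.one
  have hform := tate_formula (p := p) d htf hX (Commute.one_left X) hπ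
  have hrk : ∀ S : Submodule k V, rk (d.bar (1 : Module.End R L)) S = finrank k S := by
    intro S
    unfold rk
    rw [d.bar_one]
    have h0 : S.map (1 : Module.End k V) = S := Submodule.map_id S
    rw [h0]
  simp only [hrk] at hform
  have h1 : (⊤ : Submodule k V).map (d.bar (nrm X p)) = d.imS (LinearMap.ker (X - 1)) := by
    apply le_antisymm
    · rintro _ ⟨u, -, rfl⟩
      obtain ⟨v, rfl⟩ := d.red_surj u
      rw [d.bar_red]
      apply d.red_mem_imS
      rw [LinearMap.mem_ker]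
      exact congrArg (fun f : Module.End R L => f v) (y_mul_nrm hX)
    · rintro _ ⟨a, ha, rfl⟩
      obtain ⟨v, rfl⟩ := hA a ha
      rw [← d.bar_red]
      exact ⟨_, trivial, rfl⟩
  have h2 : (⊤ : Submodule k V).map (d.bar (X - 1)) = d.imS (LinearMap.ker (nrm X p)) := by
    apply le_antisymm
    · rintro _ ⟨u, -, rfl⟩
      obtain ⟨v, rfl⟩ := d.red_surj u
      rw [d.bar_red]
      apply d.red_mem_imS
      rw [LinearMap.mem_ker]
      exact congrArg (fun f : Module.End R L => f v) (nrm_mul_y hX)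
    · rintro _ ⟨a, ha, rfl⟩
      obtain ⟨v, rfl⟩ := hB a ha
      rw [← d.bar_red]
      exact ⟨_, trivial, rfl⟩
  rw [h1, h2] at hform
  linarith

end Count

end Cfsg.Agent.Lib.FF
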