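import Cfsg.Agent.Lib.FF.TateRank

/-!
# Reduction modulo `p` of a lattice with an operator of order `p`

An abstract reduction `red : L → V` to a vector space over the residue field; the induced operators,
the images of submodules and the Tate rank formula.
-/

set_option autoImplicit false
set_option linter.unusedSectionVars false
set_option linter.unusedVariables false

namespace Cfsg.Agent.Lib.FF

open Module Polynomial

/-- A reduction modulo `p`. -/
structure RedData (p : ℕ) (R k L V : Type*) [CommRing R] [Field k] [AddCommGroup L] [Module R L]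
    [AddCommGroup V] [Module k V] where
  σ : R →+* k
  σ_surj : Function.Surjective σ
  σ_ker : ∀ r, σ r = 0 ↔ ∃ s, r = (p : R) * s
  red : L →+ V
  red_smul : ∀ (r : R) (v : L), red (r • v) = σ r • red v
  red_surj : Function.Surjective red
  red_ker : ∀ v, red v = 0 ↔ ∃ w, v = (p : R) • w

namespace RedData

variable {p : ℕ} {R k L V : Type*} [CommRing R] [Field k] [AddCommGroup L] [Module R L]
    [AddCommGroup V] [Module k V] (d : RedData p R k L V)

/-- The image of a submodule. -/
def imS (S : Submodule R L) : Submodule k V where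
  carrier := d.red '' S
  add_mem' := by
    rintro _ _ ⟨a, ha, rfl⟩ ⟨b, hb, rfl⟩
    exact ⟨a + b, S.add_mem ha hb, map_add _ _ _⟩
  zero_mem' := ⟨0, S.zero_mem, map_zero _⟩
  smul_mem' := by
    rintro c _ ⟨a, ha, rfl⟩
    obtain ⟨r, rfl⟩ := d.σ_surj c
    exact ⟨r • a, S.smul_mem _ ha, d.red_smul _ _⟩

theorem mem_imS {S : Submodule R L} {u : V} : u ∈ d.imS S ↔ ∃ a ∈ S, d.red a = u := by
  show u ∈ d.red '' S ↔ _
  rfl

theorem red_mem_imS {S : Submodule R L} {a : L} (ha : a ∈ S) : d.red a ∈ d.imS S := ⟨a, ha, rfl⟩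

theorem red_natCast (v : L) : d.red ((p : R) • v) = 0 := (d.red_ker _).2 ⟨v, rfl⟩

theorem σ_p : d.σ (p : R) = 0 := (d.σ_ker _).2 ⟨1, by simp⟩

theorem red_eq_of_eq {E : L →ₗ[R] L} {a b : L} (h : d.red a = d.red b) : d.red (E a) = d.red (E b) := by
  have h1 : d.red (a - b) = 0 := by rw [map_sub, h, sub_self]
  obtain ⟨w, hw⟩ := (d.red_ker _).1 h1
  have h2 : E a - E b = (p : R) • E w := by
    rw [← map_sub, hw, map_smul]
  have h3 : d.red (E a - E b) = 0 := by
    rw [h2]
    exact d.red_natCast _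
  rw [map_sub, sub_eq_zero] at h3
  exact h3

/-- The operator induced on the reduction. -/
noncomputable def bar (E : L →ₗ[R] L) : V →ₗ[k] V where
  toFun u := d.red (E (Function.surjInv d.red_surj u))
  map_add' u v := by
    have h : d.red (Function.surjInv d.red_surj (u + v)) =
        d.red (Function.surjInv d.red_surj u + Function.surjInv d.red_surj v) := by
      rw [map_add, Function.surjInv_eq d.red_surj, Function.surjInv_eq d.red_surj,
        Function.surjInv_eq d.red_surj]
    rw [d.red_eq_of_eq h, map_add, map_add]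
  map_smul' c u := by
    obtain ⟨r, rfl⟩ := d.σ_surj c
    have h : d.red (Function.surjInv d.red_surj (d.σ r • u)) =
        d.red (r • Function.surjInv d.red_surj u) := by
      rw [d.red_smul, Function.surjInv_eq d.red_surj, Function.surjInv_eq d.red_surj]
    rw [d.red_eq_of_eq h, map_smul, d.red_smul]
    rfl

@[simp] theorem bar_red (E : L →ₗ[R] L) (v : L) : d.bar E (d.red v) = d.red (E v) := by
  show d.red (E (Function.surjInv d.red_surj (d.red v))) = _
  exact d.red_eq_of_eq (Function.surjInv_eq _ _)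

theorem bar_ext {f g : V →ₗ[k] V} (h : ∀ v, f (d.red v) = g (d.red v)) : f = g := by
  ext u
  obtain ⟨v, rfl⟩ := d.red_surj u
  exact h v

theorem bar_mul (E F : Module.End R L) : d.bar (E * F) = (d.bar E : Module.End k V) * d.bar F :=
  d.bar_ext fun v => by simp

theorem bar_one : d.bar (1 : Module.End R L) = (1 : Module.End k V) :=
  d.bar_ext fun v => by simp

theorem bar_sub (E F : Module.End R L) : d.bar (E - F) = d.bar E - d.bar F :=
  d.bar_ext fun v => by simp

theorem bar_add (E F : Module.End R L) : d.bar (E + F) = d.bar E + d.bar F :=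
  d.bar_ext fun v => by simp

theorem bar_pow (E : Module.End R L) (n : ℕ) : d.bar (E ^ n) = (d.bar E : Module.End k V) ^ n := by
  induction n with
  | zero => rw [pow_zero, pow_zero, d.bar_one]
  | succ n ih => rw [pow_succ, pow_succ, d.bar_mul, ih]

theorem bar_commute {E F : Module.End R L} (h : Commute E F) :
    Commute (d.bar E : Module.End k V) (d.bar F) := by
  show (d.bar E : Module.End k V) * d.bar F = d.bar F * d.bar E
  rw [← d.bar_mul, ← d.bar_mul, h.eq]

theorem map_bar_imS (E : Module.End R L) (S : Submodule R L) :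
    (d.imS S).map (d.bar E) = d.imS (S.map E) := by
  ext u
  constructor
  · rintro ⟨_, ⟨a, ha, rfl⟩, rfl⟩
    exact ⟨E a, ⟨a, ha, rfl⟩, (d.bar_red _ _).symm⟩
  · rintro ⟨_, ⟨a, ha, rfl⟩, rfl⟩
    exact ⟨d.red a, ⟨a, ha, rfl⟩, d.bar_red _ _⟩

theorem imS_top : d.imS (⊤ : Submodule R L) = ⊤ := by
  ext u
  simp only [Submodule.mem_top, iff_true]
  obtain ⟨v, rfl⟩ := d.red_surj u
  exact ⟨v, trivial, rfl⟩

theorem imS_mono {S T : Submodule R L} (h : S ≤ T) : d.imS S ≤ d.imS T := by
  rintro _ ⟨a, ha, rfl⟩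
  exact ⟨a, h ha, rfl⟩

end RedData

section Tate

variable {R : Type*} [CommRing R] {L : Type*} [AddCommGroup L] [Module R L]

/-- The norm operator. -/
noncomputable def nrm (X : Module.End R L) (p : ℕ) : Module.End R L := ∑ i ∈ Finset.range p, X ^ i

variable {X : Module.End R L} {p : ℕ}

theorem y_mul_nrm (hX : X ^ p = 1) : (X - 1) * nrm X p = 0 := by
  rw [nrm, mul_geom_sum, hX, sub_self]

theorem nrm_mul_y (hX : X ^ p = 1) : nrm X p * (X - 1) = 0 := by
  rw [nrm, geom_sum_mul, hX, sub_self]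

theorem pow_apply_of_ker {a : L} (ha : a ∈ LinearMap.ker (X - 1)) (i : ℕ) : (X ^ i) a = a := by
  have h1 : X a = a := by
    have := LinearMap.mem_ker.mp ha
    simpa [sub_eq_zero] using this
  induction i with
  | zero => simp
  | succ i ih =>
    rw [pow_succ]
    show (X ^ i) (X a) = a
    rw [h1, ih]

theorem nrm_apply_of_ker {a : L} (ha : a ∈ LinearMap.ker (X - 1)) : nrm X p a = (p : R) • a := by
  rw [nrm, LinearMap.sum_apply]
  simp only [pow_apply_of_ker ha, Finset.sum_const, Finset.card_range]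
  rw [Nat.cast_smul_eq_nsmul]

theorem commute_y_of_commute {f : Module.End R L} (h : Commute f X) : Commute f (X - 1) :=
  h.sub_right (Commute.one_right _)

theorem commute_nrm_of_commute {f : Module.End R L} (h : Commute f X) : Commute f (nrm X p) := by
  unfold nrm
  exact Commute.sum_right _ _ _ fun i _ => h.pow_right i

theorem aeval_nrm (X : Module.End R L) (p : ℕ) :
    aeval X (∑ i ∈ Finset.range p, (Polynomial.X : ℤ[X]) ^ i) = nrm X p := by
  simp [nrm, map_sum]

theorem aeval_y (X : Module.End R L) (n : ℕ) :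
    aeval X ((Polynomial.X - 1 : ℤ[X]) ^ n) = (X - 1) ^ n := by
  simp

variable [hp : Fact p.Prime]

omit hp in
theorem commute_aeval (X : Module.End R L) (W : ℤ[X]) : Commute (aeval X W : Module.End R L) X := by
  have := (Polynomial.commute_X W).map (aeval X)
  simpa using this.symm

/-- `y ^ (p-1) = N + p W`. -/
theorem exists_y_pow (X : Module.End R L) :
    ∃ W : Module.End R L, Commute W X ∧ (X - 1) ^ (p - 1) = nrm X p + (p : R) • W := by
  obtain ⟨W, hW⟩ := poly_one p
  refine ⟨aeval X W, commute_aeval X W, ?_⟩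
  have := congrArg (aeval X) hW
  rw [aeval_y, map_add, aeval_nrm, map_mul, aeval_C] at this
  rw [this]
  congr 1
  simp [Algebra.smul_def]

/-- `p = y ^ (p-1) C + N Q`. -/
theorem exists_p_eq (X : Module.End R L) :
    ∃ C₁ Q₁ : Module.End R L, Commute C₁ X ∧ Commute Q₁ X ∧
      (p : R) • (1 : Module.End R L) = (X - 1) ^ (p - 1) * C₁ + nrm X p * Q₁ := by
  obtain ⟨C₀, Q₀, h⟩ := poly_two p
  refine ⟨aeval X C₀, aeval X Q₀, commute_aeval X C₀, commute_aeval X Q₀, ?_⟩
  have := congrArg (aeval X) h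
  rw [map_add, map_mul, map_mul, aeval_y, aeval_nrm, aeval_C] at this
  rw [← this]
  simp [Algebra.smul_def]

variable {k V : Type*} [Field k] [AddCommGroup V] [Module k V]

omit hp in
theorem commute_y_self (X : Module.End R L) : Commute (X - 1) X :=
  (Commute.refl X).sub_left (Commute.one_left X)

omit hp in
theorem commute_nrm_y_pow (X : Module.End R L) (p i : ℕ) : Commute (nrm X p) ((X - 1) ^ i) :=
  ((commute_nrm_of_commute (p := p) (commute_y_self X)).symm).pow_right i

omit hp in
theorem y_pow_inj_on (htf : ∀ v : L, (p : R) • v = 0 → v = 0) {c : L}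
    (hc : c ∈ LinearMap.ker (nrm X p)) (i : ℕ) (h : ((X - 1) ^ i) c = 0) : c = 0 := by
  induction i generalizing c with
  | zero => simpa using h
  | succ i ih =>
    apply ih hc
    have h1 : (X - 1) (((X - 1) ^ i) c) = 0 := by
      rw [pow_succ'] at h
      exact h
    have h2 : ((X - 1) ^ i) c ∈ LinearMap.ker (X - 1) := LinearMap.mem_ker.mpr h1
    have h3 := nrm_apply_of_ker (p := p) h2
    apply htf
    rw [← h3]
    have h4 : nrm X p (((X - 1) ^ i) c) = ((X - 1) ^ i) (nrm X p c) :=
      congrArg (fun f : Module.End R L => f c) (commute_nrm_y_pow X p i).eq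
    rw [h4, LinearMap.mem_ker.mp hc, map_zero]

variable [FiniteDimensional k V] (d : RedData p R k L V)

theorem ker_nrm_bar (htf : ∀ v : L, (p : R) • v = 0 → v = 0) (hX : X ^ p = 1) :
    LinearMap.ker (d.bar (nrm X p)) =
      d.imS (LinearMap.ker (nrm X p)) ⊔ LinearMap.ker (d.bar (X - 1)) := by
  apply le_antisymm
  · intro u hu
    obtain ⟨v, rfl⟩ := d.red_surj u
    have h1 : d.red (nrm X p v) = 0 := by
      rw [← d.bar_red]
      exact LinearMap.mem_ker.mp hu
    obtain ⟨w, hw⟩ := (d.red_ker _).1 h1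
    have h2 : (X - 1) w = 0 := by
      apply htf
      rw [← map_smul, ← hw]
      exact congrArg (fun f : Module.End R L => f v) (y_mul_nrm hX)
    have h3 : w ∈ LinearMap.ker (X - 1) := LinearMap.mem_ker.mpr h2
    have h4 : nrm X p (v - w) = 0 := by
      rw [map_sub, nrm_apply_of_ker h3, hw, sub_self]
    have h5 : d.red v = d.red (v - w) + d.red w := by
      rw [← map_add, sub_add_cancel]
    rw [h5]
    refine Submodule.add_mem _ (Submodule.mem_sup_left (d.red_mem_imS (LinearMap.mem_ker.mpr h4)))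
      (Submodule.mem_sup_right ?_)
    rw [LinearMap.mem_ker, d.bar_red, h2, map_zero]
  · refine sup_le ?_ ?_
    · rintro _ ⟨b, hb, rfl⟩
      rw [LinearMap.mem_ker, d.bar_red, LinearMap.mem_ker.mp hb, map_zero]
    · intro u hu
      obtain ⟨v, rfl⟩ := d.red_surj u
      have h1 : d.red ((X - 1) v) = 0 := by
        rw [← d.bar_red]
        exact LinearMap.mem_ker.mp hu
      obtain ⟨W, _, hW⟩ := exists_y_pow (p := p) X
      have hp1 : p - 1 = (p - 2) + 1 := by
        have := hp.out.two_le
        omega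
      have h2 : nrm X p v = ((X - 1) ^ (p - 2)) ((X - 1) v) - (p : R) • W v := by
        have : ((X - 1) ^ (p - 1)) v = nrm X p v + (p : R) • W v := by
          rw [hW]
          rfl
        rw [hp1, pow_succ] at this
        have h3 : ((X - 1) ^ (p - 2) * (X - 1)) v = ((X - 1) ^ (p - 2)) ((X - 1) v) := rfl
        rw [← h3, this]
        abel
      rw [LinearMap.mem_ker, d.bar_red, h2, map_sub, d.red_natCast, sub_zero, ← d.bar_red, h1,
        map_zero]

theorem lay_nrm_bar (htf : ∀ v : L, (p : R) • v = 0 → v = 0) (hX : X ^ p = 1) (i : ℕ) (hi : i < p - 1) :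
    d.imS (LinearMap.ker (nrm X p)) ⊓ LinearMap.ker ((d.bar (X - 1) : Module.End k V) ^ i) ≤
      (d.imS (LinearMap.ker (nrm X p))).map (d.bar (X - 1)) := by
  rintro _ ⟨⟨b, hb, rfl⟩, hu⟩
  have h1 : d.red (((X - 1) ^ i) b) = 0 := by
    rw [← d.bar_red, d.bar_pow]
    exact LinearMap.mem_ker.mp hu
  obtain ⟨w, hw⟩ := (d.red_ker _).1 h1
  have hcomm := commute_nrm_y_pow X p i
  have hNb : nrm X p b = 0 := LinearMap.mem_ker.mp hb
  have h2 : nrm X p w = 0 := by
    apply htf
    rw [← map_smul, ← hw]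
    have : nrm X p (((X - 1) ^ i) b) = ((X - 1) ^ i) (nrm X p b) :=
      congrArg (fun f : Module.End R L => f b) hcomm.eq
    rw [this, hNb, map_zero]
  obtain ⟨C₁, Q₁, hC, hQ, hp⟩ := exists_p_eq (p := p) X
  have hcN : Commute C₁ (nrm X p) := commute_nrm_of_commute hC
  have hQN : Commute Q₁ (nrm X p) := commute_nrm_of_commute hQ
  have h3 : (p : R) • w = ((X - 1) ^ (p - 1)) (C₁ w) := by
    have := congrArg (fun f : Module.End R L => f w) hp
    simp only [LinearMap.smul_apply, Module.End.one_apply, LinearMap.add_apply,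
      Module.End.mul_apply] at this
    rw [this]
    have h4 : nrm X p (Q₁ w) = Q₁ (nrm X p w) :=
      congrArg (fun f : Module.End R L => f w) hQN.symm.eq
    rw [h4, h2, map_zero, add_zero]
  have hw1 : C₁ w ∈ LinearMap.ker (nrm X p) := by
    rw [LinearMap.mem_ker]
    have h4 : nrm X p (C₁ w) = C₁ (nrm X p w) :=
      congrArg (fun f : Module.End R L => f w) hcN.symm.eq
    rw [h4, h2, map_zero]
  have hp2 : p - 1 = i + ((p - 2 - i) + 1) := by omega
  set w' := ((X - 1) ^ (p - 2 - i)) (C₁ w) with hw'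
  have hw'B : w' ∈ LinearMap.ker (nrm X p) := by
    rw [LinearMap.mem_ker, hw']
    have : nrm X p (((X - 1) ^ (p - 2 - i)) (C₁ w)) = ((X - 1) ^ (p - 2 - i)) (nrm X p (C₁ w)) :=
      congrArg (fun f : Module.End R L => f _) (commute_nrm_y_pow X p (p - 2 - i)).eq
    rw [this, LinearMap.mem_ker.mp hw1, map_zero]
  have h5 : ((X - 1) ^ (p - 1)) (C₁ w) = ((X - 1) ^ i) ((X - 1) w') := by
    rw [hp2, pow_add, pow_succ']
    rfl
  have hyB : (X - 1) w' ∈ LinearMap.ker (nrm X p) := by
    rw [LinearMap.mem_ker]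
    have : nrm X p ((X - 1) w') = (nrm X p * (X - 1)) w' := rfl
    rw [this, nrm_mul_y hX]
    rfl
  have h6 : b - (X - 1) w' = 0 := by
    apply y_pow_inj_on (p := p) htf (Submodule.sub_mem _ hb hyB) i
    rw [map_sub, hw, h3, h5, sub_self]
  have h7 : b = (X - 1) w' := sub_eq_zero.mp h6
  refine ⟨d.red w', d.red_mem_imS hw'B, ?_⟩
  rw [d.bar_red, ← h7]

theorem top_nrm_bar (hX : X ^ p = 1) :
    (d.imS (LinearMap.ker (nrm X p))).map ((d.bar (X - 1) : Module.End k V) ^ (p - 1)) = ⊥ := by
  rw [eq_bot_iff]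
  rintro _ ⟨_, ⟨b, hb, rfl⟩, rfl⟩
  obtain ⟨W, _, hW⟩ := exists_y_pow (p := p) X
  have h1 : ((X - 1) ^ (p - 1)) b = (p : R) • W b := by
    rw [hW]
    show nrm X p b + (p : R) • W b = _
    rw [LinearMap.mem_ker.mp hb, zero_add]
  simp only [Submodule.mem_bot]
  rw [← d.bar_pow, d.bar_red, h1, d.red_natCast]

/-- **The Tate rank formula.** -/
theorem tate_formula (htf : ∀ v : L, (p : R) • v = 0 → v = 0) (hX : X ^ p = 1)
    {f : Module.End R L} (hf : Commute f X) (hπ : IsIdempotentElem (d.bar f : Module.End k V)) :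
    ((p : ℤ) - 1) * rk (d.bar f) (d.imS (LinearMap.ker (X - 1))) -
        rk (d.bar f) (d.imS (LinearMap.ker (nrm X p))) =
      ((p : ℤ) - 1) * (((rk (d.bar f) (d.imS (LinearMap.ker (X - 1))) : ℤ) -
          rk (d.bar f) ((⊤ : Submodule k V).map (d.bar (nrm X p)))) -
        ((rk (d.bar f) (d.imS (LinearMap.ker (nrm X p))) : ℤ) -
          rk (d.bar f) ((⊤ : Submodule k V).map (d.bar (X - 1))))) := by
  set π : Module.End k V := d.bar f with hπdef
  have hy : Commute (d.bar (X - 1) : Module.End k V) π :=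
    d.bar_commute (commute_y_of_commute hf).symm
  have hN : Commute (d.bar (nrm X p) : Module.End k V) π :=
    d.bar_commute (commute_nrm_of_commute hf).symm
  have hBst : (d.imS (LinearMap.ker (nrm X p))).map π ≤ d.imS (LinearMap.ker (nrm X p)) := by
    rw [hπdef, d.map_bar_imS]
    apply d.imS_mono
    rintro _ ⟨b, hb, rfl⟩
    rw [LinearMap.mem_ker]
    have : nrm X p (f b) = f (nrm X p b) :=
      congrArg (fun g : Module.End R L => g b) (commute_nrm_of_commute (p := p) hf).symm.eq
    rw [this, LinearMap.mem_ker.mp hb, map_zero]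
  have h1 := rk_tate_one hπ hy hN hBst (ker_nrm_bar d htf hX)
  have hyB : (d.imS (LinearMap.ker (nrm X p))).map (d.bar (X - 1)) ≤
      d.imS (LinearMap.ker (nrm X p)) := by
    rw [d.map_bar_imS]
    apply d.imS_mono
    rintro _ ⟨b, hb, rfl⟩
    rw [LinearMap.mem_ker]
    have : nrm X p ((X - 1) b) = (nrm X p * (X - 1)) b := rfl
    rw [this, nrm_mul_y hX]
    rfl
  have h2 := rk_layers hπ hy hBst (p - 1) hyB (top_nrm_bar d hX) (fun i hi => lay_nrm_bar d htf hX i hi)
  have hle : rk π ((d.imS (LinearMap.ker (nrm X p))).map (d.bar (X - 1))) ≤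
      rk π (d.imS (LinearMap.ker (nrm X p))) := by
    have := rk_map_add_ker hπ hy hBst
    omega
  have hp1 : ((p - 1 : ℕ) : ℤ) = (p : ℤ) - 1 := by
    have := hp.out.one_le
    omega
  have h3 : (rk π (d.imS (LinearMap.ker (nrm X p))) : ℤ) = ((p : ℤ) - 1) *
      ((rk π (d.imS (LinearMap.ker (nrm X p))) : ℤ) -
        rk π ((d.imS (LinearMap.ker (nrm X p))).map (d.bar (X - 1)))) := by
    have := congrArg (fun n : ℕ => (n : ℤ)) h2
    simp only [Nat.cast_mul, hp1] at this
    rw [Nat.cast_sub hle] at this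
    exact this
  have h4 : (rk π ((⊤ : Submodule k V).map (d.bar (X - 1))) : ℤ) =
      rk π ((⊤ : Submodule k V).map (d.bar (nrm X p))) +
        rk π ((d.imS (LinearMap.ker (nrm X p))).map (d.bar (X - 1))) := by
    exact_mod_cast h1
  rw [h4]
  linear_combination -h3

end Tate

end Cfsg.Agent.Lib.FF
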