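import Cfsg.Agent.Lib.FF.TateLat

/-!
# Lifting rank one maps on Tate cohomology to endomorphisms commuting with the operator

Also the link between the reduction and the characteristic polynomial on a pure submodule.
-/

set_option autoImplicit false
set_option linter.unusedSectionVars false
set_option linter.unusedVariables false

namespace Cfsg.Agent.Lib.FF

open Module Polynomial

section Lift

variable {R : Type*} [CommRing R] {L : Type*} [AddCommGroup L] [Module R L]
variable {k V : Type*} [Field k] [AddCommGroup V] [Module k V]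
variable {p : ℕ} (d : RedData p R k L V)

/-- Lift a functional on the reduction to a free module. -/
theorem exists_lift_dual [Module.Free R L] (h₁ : V →ₗ[k] k) :
    ∃ h : L →ₗ[R] R, ∀ v, d.σ (h v) = h₁ (d.red v) := by
  classical
  let b := Module.Free.chooseBasis R L
  refine ⟨b.constr ℤ fun i => Function.surjInv d.σ_surj (h₁ (d.red (b i))), ?_⟩
  intro v
  conv_lhs => rw [← b.linearCombination_repr v]
  rw [Finsupp.linearCombination_apply, Finsupp.sum, map_sum, map_sum]
  conv_rhs => rw [← b.linearCombination_repr v]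
  rw [Finsupp.linearCombination_apply, Finsupp.sum, map_sum, map_sum]
  refine Finset.sum_congr rfl fun i _ => ?_
  rw [map_smul, Module.Basis.constr_basis, smul_eq_mul, map_mul, Function.surjInv_eq d.σ_surj,
    d.red_smul, map_smul, smul_eq_mul]

/-- Division of a functional by a non-zero-divisor. -/
theorem exists_div_functional {c : R} (hc : ∀ a b : R, c * a = c * b → a = b) (φ : L →ₗ[R] R)
    (h : ∀ v, ∃ s, φ v = c * s) : ∃ ψ : L →ₗ[R] R, ∀ v, φ v = c * ψ v := by
  choose s hs using h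
  refine ⟨{ toFun := s, map_add' := ?_, map_smul' := ?_ }, hs⟩
  · intro u v
    apply hc
    rw [← hs, map_add, hs, hs]
    ring
  · intro r v
    apply hc
    rw [← hs, map_smul, hs, RingHom.id_apply, smul_eq_mul, smul_eq_mul]
    ring

/-- Division through an injective linear map. -/
theorem exists_div_linear {M' M N' : Type*} [AddCommGroup M'] [Module R M'] [AddCommGroup M] [Module R M]
    [AddCommGroup N'] [Module R N'] (D : M' →ₗ[R] M) (hD : Function.Injective D) (φ : N' →ₗ[R] M)
    (h : ∀ v, φ v ∈ LinearMap.range D) : ∃ ψ : N' →ₗ[R] M', ∀ v, D (ψ v) = φ v := by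
  refine ⟨(LinearEquiv.ofInjective D hD).symm.toLinearMap ∘ₗ φ.codRestrict (LinearMap.range D) h, ?_⟩
  intro v
  have := (LinearEquiv.ofInjective D hD).apply_symm_apply (φ.codRestrict (LinearMap.range D) h v)
  exact congrArg Subtype.val this

variable {X : Module.End R L}

/-- The lift in the `W`-case: `v ↦ (h(Nv)/p) a`. -/
theorem exists_lift_W [Module.Free R L] (hpc : ∀ a b : R, (p : R) * a = (p : R) * b → a = b)
    (hX : X ^ p = 1) (h₁ : V →ₗ[k] k) (hN : ∀ u, h₁ (d.bar (nrm X p) u) = 0)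
    {a : L} (ha : a ∈ LinearMap.ker (X - 1)) :
    ∃ (h : L →ₗ[R] R) (g : Module.End R L), (∀ v, d.σ (h v) = h₁ (d.red v)) ∧ Commute g X ∧
      (∀ v ∈ LinearMap.ker (X - 1), g v = h v • a) ∧ (∀ v ∈ LinearMap.ker (nrm X p), g v = 0) := by
  obtain ⟨h, hh⟩ := exists_lift_dual d h₁
  obtain ⟨ℓ, hℓ⟩ := exists_div_functional hpc (h ∘ₗ nrm X p) (by
    intro v
    have h1 : d.σ (h (nrm X p v)) = 0 := by
      rw [hh, ← d.bar_red, hN]
    obtain ⟨s, hs⟩ := (d.σ_ker _).1 h1
    exact ⟨s, hs⟩)
  have hXa : X a = a := by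
    have := LinearMap.mem_ker.mp ha
    simpa [sub_eq_zero] using this
  refine ⟨h, ℓ.smulRight a, hh, ?_, ?_, ?_⟩
  · have h2 : ∀ v, ℓ (X v) = ℓ v := by
      intro v
      apply hpc
      rw [← hℓ, ← hℓ]
      have h3 : nrm X p (X v - v) = 0 :=
        congrArg (fun f : Module.End R L => f v) (nrm_mul_y hX)
      rw [map_sub, sub_eq_zero] at h3
      simp only [LinearMap.comp_apply, h3]
    show (ℓ.smulRight a : Module.End R L) * X = X * ℓ.smulRight a
    ext v
    simp [h2, hXa]
  · intro v hv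
    simp only [LinearMap.smulRight_apply]
    congr 1
    apply hpc
    rw [← hℓ]
    simp only [LinearMap.comp_apply]
    rw [nrm_apply_of_ker hv, map_smul, smul_eq_mul]
  · intro v hv
    simp only [LinearMap.smulRight_apply]
    have : ℓ v = 0 := by
      apply hpc
      rw [← hℓ, mul_zero]
      simp only [LinearMap.comp_apply]
      rw [LinearMap.mem_ker.mp hv, map_zero]
    rw [this, zero_smul]

/-- `Q = ∑_{j<n} (n-j) X^j`. -/
noncomputable def qop (X : Module.End R L) (n : ℕ) : Module.End R L :=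
  ∑ j ∈ Finset.range n, ((n - j : ℕ) : R) • X ^ j

/-- `[m] = ∑_{j<m} X^j`. -/
noncomputable def gop (X : Module.End R L) (m : ℕ) : Module.End R L := nrm X m

theorem qop_succ (X : Module.End R L) (n : ℕ) : qop X (n + 1) = qop X n + nrm X (n + 1) := by
  unfold qop nrm
  rw [Finset.sum_range_succ _ n, Finset.sum_range_succ _ n]
  simp only [Nat.add_sub_cancel_left, Nat.cast_one, one_smul]
  have : ∑ x ∈ Finset.range n, ((n + 1 - x : ℕ) : R) • X ^ x =
      ∑ x ∈ Finset.range n, ((n - x : ℕ) : R) • X ^ x + ∑ x ∈ Finset.range n, X ^ x := by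
    rw [← Finset.sum_add_distrib]
    refine Finset.sum_congr rfl fun x hx => ?_
    have hx' := Finset.mem_range.mp hx
    have : n + 1 - x = (n - x) + 1 := by omega
    rw [this]
    push_cast
    rw [add_smul, one_smul]
  rw [this]
  abel

theorem y_mul_qop (X : Module.End R L) (n : ℕ) :
    (X - 1) * qop X n = nrm X n + X ^ n - 1 - (n : R) • (1 : Module.End R L) := by
  induction n with
  | zero => simp [qop, nrm]
  | succ n ih =>
    rw [qop_succ, mul_add, ih]
    have h1 : (X - 1) * nrm X (n + 1) = X ^ (n + 1) - 1 := by rw [nrm, mul_geom_sum]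
    rw [h1]
    have h2 : nrm X (n + 1) = nrm X n + X ^ n := by
      unfold nrm
      rw [Finset.sum_range_succ]
    rw [h2]
    push_cast
    rw [add_smul, one_smul]
    abel

theorem y_mul_qop_of_pow (hX : X ^ p = 1) :
    (X - 1) * qop X p = nrm X p - (p : R) • (1 : Module.End R L) := by
  rw [y_mul_qop, hX]
  abel

/-- `G₀ v = ∑_{j<p} h(X^j v) [p-j] b`. -/
noncomputable def gzero (X : Module.End R L) (p : ℕ) (h : L →ₗ[R] R) (b : L) : Module.End R L :=
  ∑ j ∈ Finset.range p, (h ∘ₗ (X ^ j)).smulRight (nrm X (p - j) b)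

theorem gzero_apply (X : Module.End R L) (p : ℕ) (h : L →ₗ[R] R) (b v : L) :
    gzero X p h b v = ∑ j ∈ Finset.range p, h ((X ^ j) v) • nrm X (p - j) b := by
  simp [gzero, LinearMap.sum_apply]

theorem nrm_mem_ker {b : L} (hX : X ^ p = 1) (hb : b ∈ LinearMap.ker (nrm X p)) (m : ℕ) :
    nrm X m b ∈ LinearMap.ker (nrm X p) := by
  rw [LinearMap.mem_ker]
  have h1 : Commute (nrm X m) (nrm X p) := commute_nrm_of_commute (commute_nrm_of_commute (Commute.refl X)).symm
  have : nrm X p (nrm X m b) = nrm X m (nrm X p b) :=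
    congrArg (fun f : Module.End R L => f b) h1.symm.eq
  rw [this, LinearMap.mem_ker.mp hb, map_zero]

theorem gzero_mem {b : L} (hX : X ^ p = 1) (hb : b ∈ LinearMap.ker (nrm X p)) (h : L →ₗ[R] R) (v : L) :
    gzero X p h b v ∈ LinearMap.ker (nrm X p) := by
  rw [gzero_apply]
  exact Submodule.sum_mem _ fun j _ => Submodule.smul_mem _ _ (nrm_mem_ker hX hb _)

/-- The trace `v ↦ ∑_{j<p} h(X^j v) X^(p-j) b`. -/
noncomputable def gtr (X : Module.End R L) (p : ℕ) (h : L →ₗ[R] R) (b : L) (v : L) : L :=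
  ∑ j ∈ Finset.range p, h ((X ^ j) v) • (X ^ (p - j)) b

theorem y_gzero (X : Module.End R L) (p : ℕ) (h : L →ₗ[R] R) (b v : L) :
    (X - 1) (gzero X p h b v) = gtr X p h b v - h (nrm X p v) • b := by
  rw [gzero_apply, map_sum, gtr]
  have h1 : h (nrm X p v) • b = ∑ j ∈ Finset.range p, h ((X ^ j) v) • b := by
    rw [← Finset.sum_smul, nrm, LinearMap.sum_apply, map_sum]
  rw [h1, ← Finset.sum_sub_distrib]
  refine Finset.sum_congr rfl fun j _ => ?_
  rw [map_smul, ← smul_sub]
  congr 1
  have : ((X - 1) * nrm X (p - j)) b = (X ^ (p - j) - 1) b := by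
    rw [nrm, mul_geom_sum]
  exact this

theorem gtr_comm (hX : X ^ p = 1) (hp : 0 < p) (h : L →ₗ[R] R) (b v : L) :
    gtr X p h b (X v) = X (gtr X p h b v) := by
  obtain ⟨n, rfl⟩ : ∃ n, p = n + 1 := ⟨p - 1, by omega⟩
  unfold gtr
  rw [map_sum, Finset.sum_range_succ (fun j => h ((X ^ j) (X v)) • (X ^ (n + 1 - j)) b) n,
    Finset.sum_range_succ' (fun j => X (h ((X ^ j) v) • (X ^ (n + 1 - j)) b)) n]
  have h1 : (X ^ n) (X v) = (X ^ (n + 1)) v := by
    rw [pow_succ]
    rfl
  have h2 : (X ^ (n + 1)) v = v := by rw [hX]; rfl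
  have h3 : h ((X ^ n) (X v)) • (X ^ (n + 1 - n)) b = X (h ((X ^ 0) v) • (X ^ (n + 1 - 0)) b) := by
    rw [h1, h2, map_smul, pow_zero, Module.End.one_apply]
    congr 1
    have : n + 1 - n = 1 := by omega
    rw [this, pow_one, Nat.sub_zero, hX]
    rfl
  have h6 : ∑ j ∈ Finset.range n, h ((X ^ j) (X v)) • (X ^ (n + 1 - j)) b =
      ∑ j ∈ Finset.range n, X (h ((X ^ (j + 1)) v) • (X ^ (n + 1 - (j + 1))) b) := by
    refine Finset.sum_congr rfl fun j hj => ?_
    have hj' := Finset.mem_range.mp hj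
    rw [map_smul]
    have h4 : (X ^ j) (X v) = (X ^ (j + 1)) v := by
      rw [pow_succ]
      rfl
    rw [h4]
    congr 1
    have h5 : n + 1 - j = (n + 1 - (j + 1)) + 1 := by omega
    rw [h5, pow_succ']
    rfl
  rw [h3, h6]

variable [hpp : Fact p.Prime]

theorem gzero_comm (htf : ∀ v : L, (p : R) • v = 0 → v = 0) (hX : X ^ p = 1)
    {b u : L} (hb : b ∈ LinearMap.ker (nrm X p)) (hu : u ∈ LinearMap.ker (nrm X p)) (h : L →ₗ[R] R) :
    gzero X p h b (X u) = X (gzero X p h b u) := by
  have h1 : gzero X p h b (X u) - X (gzero X p h b u) = 0 := by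
    apply y_pow_inj_on (p := p) htf ?_ 1
    · rw [pow_one, map_sub, y_gzero]
      have h2 : (X - 1) (X (gzero X p h b u)) = X ((X - 1) (gzero X p h b u)) :=
        congrArg (fun f : Module.End R L => f _) (commute_y_self X).eq
      rw [h2, y_gzero, gtr_comm hX hpp.out.pos, LinearMap.mem_ker.mp hu, map_zero, zero_smul, sub_zero]
      have h3 : nrm X p (X u) = 0 := by
        have : nrm X p (X u) = X (nrm X p u) :=
          congrArg (fun f : Module.End R L => f _) (commute_nrm_of_commute (p := p) (Commute.refl X)).symm.eq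
        rw [this, LinearMap.mem_ker.mp hu, map_zero]
      rw [h3, map_zero, zero_smul, sub_zero, sub_self]
    · refine Submodule.sub_mem _ (gzero_mem hX hb h _) ?_
      rw [LinearMap.mem_ker]
      have : nrm X p (X (gzero X p h b u)) = X (nrm X p (gzero X p h b u)) :=
        congrArg (fun f : Module.End R L => f _) (commute_nrm_of_commute (p := p) (Commute.refl X)).symm.eq
      rw [this, LinearMap.mem_ker.mp (gzero_mem hX hb h u), map_zero]
  exact sub_eq_zero.mp h1

/-- Modulo `y`, `G₀ v` is `h(Q v) b`. -/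
theorem gzero_mod (hX : X ^ p = 1) {b : L} (hb : b ∈ LinearMap.ker (nrm X p)) (h : L →ₗ[R] R) (v : L) :
    ∃ t ∈ LinearMap.ker (nrm X p), gzero X p h b v - h (qop X p v) • b = (X - 1) t := by
  have h1 : ∀ m : ℕ, ∃ t ∈ LinearMap.ker (nrm X p), nrm X m b - (m : R) • b = (X - 1) t := by
    intro m
    induction m with
    | zero =>
      exact ⟨0, Submodule.zero_mem _, by simp [nrm]⟩
    | succ m ih =>
      obtain ⟨t, ht, htb⟩ := ih
      refine ⟨t + nrm X m b, Submodule.add_mem _ ht (nrm_mem_ker hX hb m), ?_⟩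
      have h2 : nrm X (m + 1) b = nrm X m b + (X ^ m) b := by
        unfold nrm
        rw [Finset.sum_range_succ]
        rfl
      have h3 : (X - 1) (nrm X m b) = (X ^ m) b - b := by
        have : ((X - 1) * nrm X m) b = (X ^ m - 1) b := by rw [nrm, mul_geom_sum]
        exact this
      rw [map_add, ← htb, h3, h2]
      push_cast
      rw [add_smul, one_smul]
      abel
  choose t ht htb using h1
  refine ⟨∑ j ∈ Finset.range p, h ((X ^ j) v) • t (p - j),
    Submodule.sum_mem _ fun j _ => Submodule.smul_mem _ _ (ht _), ?_⟩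
  rw [gzero_apply, map_sum]
  have h4 : h (qop X p v) • b = ∑ j ∈ Finset.range p, h ((X ^ j) v) • ((p - j : ℕ) : R) • b := by
    rw [qop, LinearMap.sum_apply, map_sum, Finset.sum_smul]
    refine Finset.sum_congr rfl fun j _ => ?_
    rw [LinearMap.smul_apply, map_smul, smul_eq_mul, mul_comm, mul_smul]
  rw [h4, ← Finset.sum_sub_distrib]
  refine Finset.sum_congr rfl fun j _ => ?_
  rw [map_smul, ← htb, smul_sub]

theorem qop_mem_ker {b : L} (hb : b ∈ LinearMap.ker (nrm X p)) :
    qop X p b ∈ LinearMap.ker (nrm X p) := by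
  rw [LinearMap.mem_ker]
  have hc : Commute (qop X p) (nrm X p) := by
    apply commute_nrm_of_commute
    unfold qop
    exact Commute.sum_left _ _ _ fun j _ => ((Commute.refl X).pow_left j).smul_left _
  have : nrm X p (qop X p b) = qop X p (nrm X p b) :=
    congrArg (fun f : Module.End R L => f b) hc.symm.eq
  rw [this, LinearMap.mem_ker.mp hb, map_zero]

theorem y_qop_apply (hX : X ^ p = 1) {b : L} (hb : b ∈ LinearMap.ker (nrm X p)) :
    (X - 1) (qop X p b) = -((p : R) • b) := by
  have := congrArg (fun f : Module.End R L => f b) (y_mul_qop_of_pow (R := R) (p := p) hX)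
  simp only [LinearMap.sub_apply, LinearMap.smul_apply, Module.End.one_apply,
    LinearMap.mem_ker.mp hb, zero_sub] at this
  exact this

/-- The lift in the `W'`-case. -/
theorem exists_lift_W' [Module.Free R L] (htf : ∀ v : L, (p : R) • v = 0 → v = 0) (hX : X ^ p = 1)
    {b : L} (hb : b ∈ LinearMap.ker (nrm X p))
    (ĥ : d.imS (LinearMap.ker (nrm X p)) →ₗ[k] k)
    (hĥ : ∀ (u : V) (hu : u ∈ d.imS (LinearMap.ker (nrm X p))),
      (∃ v, u = d.bar (X - 1) v) → ĥ ⟨u, hu⟩ = 0) :
    ∃ g : Module.End R L, Commute g X ∧ (∀ v ∈ LinearMap.ker (X - 1), g v = 0) ∧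
      ∀ v (hv : v ∈ LinearMap.ker (nrm X p)) (r : R), d.σ r = ĥ ⟨d.red v, d.red_mem_imS hv⟩ →
        ∃ t ∈ LinearMap.ker (nrm X p), g v - r • b = (X - 1) t := by
  -- the functional `h₁`
  let f : d.imS (LinearMap.ker (nrm X p)) →ₗ[k] V :=
    (d.bar (qop X p)).comp (d.imS (LinearMap.ker (nrm X p))).subtype
  have hmem : ĥ ∈ LinearMap.range f.dualMap := by
    rw [LinearMap.range_dualMap_eq_dualAnnihilator_ker, Submodule.mem_dualAnnihilator]
    rintro ⟨u, hu⟩ hu0
    obtain ⟨v, hv, rfl⟩ := d.mem_imS.1 hu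
    have h1 : d.red (qop X p v) = 0 := by
      rw [← d.bar_red]
      exact LinearMap.mem_ker.mp hu0
    obtain ⟨w, hw⟩ := (d.red_ker _).1 h1
    have hNv : nrm X p v = 0 := LinearMap.mem_ker.mp hv
    have hq := qop_mem_ker (p := p) (X := X) hv
    have hNw : w ∈ LinearMap.ker (nrm X p) := by
      rw [LinearMap.mem_ker]
      apply htf
      rw [← map_smul, ← hw]
      exact LinearMap.mem_ker.mp hq
    have h2 := y_qop_apply hX hNw
    have hcq : Commute (X - 1) (qop X p) := by
      unfold qop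
      exact Commute.sum_right _ _ _ fun j _ => ((commute_y_self X).pow_right j).smul_right _
    have h3 : qop X p (v + (X - 1) w) = 0 := by
      have h4 : qop X p ((X - 1) w) = (X - 1) (qop X p w) :=
        congrArg (fun f : Module.End R L => f w) hcq.symm.eq
      rw [map_add, h4, h2, hw, add_neg_cancel]
    have hc : v + (X - 1) w ∈ LinearMap.ker (nrm X p) := by
      refine Submodule.add_mem _ hv ?_
      rw [LinearMap.mem_ker]
      have : nrm X p ((X - 1) w) = (nrm X p * (X - 1)) w := rfl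
      rw [this, nrm_mul_y hX]
      rfl
    have h5 := y_qop_apply hX hc
    rw [h3, map_zero] at h5
    have h6 : v + (X - 1) w = 0 := htf _ (neg_eq_zero.mp h5.symm)
    have h7 : v = (X - 1) (-w) := by
      rw [map_neg]
      exact eq_neg_of_add_eq_zero_left h6
    apply hĥ
    refine ⟨d.red (-w), ?_⟩
    rw [d.bar_red, ← h7]
  obtain ⟨h₁, hh₁⟩ := hmem
  have hh₁' : ∀ (u : V) (hu : u ∈ d.imS (LinearMap.ker (nrm X p))),
      h₁ (d.bar (qop X p) u) = ĥ ⟨u, hu⟩ := fun u hu => by
    have := congrArg (fun g => g ⟨u, hu⟩) hh₁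
    exact this
  obtain ⟨h, hh⟩ := exists_lift_dual d h₁
  -- main congruence
  have key : ∀ w (hw : w ∈ LinearMap.ker (nrm X p)) (r : R),
      d.σ r = ĥ ⟨d.red w, d.red_mem_imS hw⟩ →
        ∃ t ∈ LinearMap.ker (nrm X p), gzero X p h b w - r • b = (X - 1) t := by
    intro w hw r hr
    obtain ⟨t, ht, htb⟩ := gzero_mod hX hb h w
    have h1 : d.σ (h (qop X p w) - r) = 0 := by
      rw [map_sub, hh, hr, ← d.bar_red, hh₁' _ (d.red_mem_imS hw), sub_self]
    obtain ⟨s, hs⟩ := (d.σ_ker _).1 h1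
    refine ⟨t - s • qop X p b, Submodule.sub_mem _ ht (Submodule.smul_mem _ _ (qop_mem_ker hb)), ?_⟩
    rw [map_sub, map_smul, y_qop_apply hX hb, ← htb]
    have h2 : h (qop X p w) = r + (p : R) * s := by rw [← hs]; ring
    rw [h2, add_smul, mul_smul, smul_neg, smul_comm s]
    abel
  -- division by `y` on `B`
  let D : LinearMap.ker (nrm X p) →ₗ[R] L := (X - 1) ∘ₗ (LinearMap.ker (nrm X p)).subtype
  have hD : Function.Injective D := by
    rw [← LinearMap.ker_eq_bot, LinearMap.ker_eq_bot']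
    rintro ⟨c, hc⟩ hc0
    have : c = 0 := y_pow_inj_on (p := p) htf hc 1 (by rw [pow_one]; exact hc0)
    exact Subtype.ext this
  have hyB : ∀ v, (X - 1) v ∈ LinearMap.ker (nrm X p) := by
    intro v
    rw [LinearMap.mem_ker]
    have : nrm X p ((X - 1) v) = (nrm X p * (X - 1)) v := rfl
    rw [this, nrm_mul_y hX]
    rfl
  obtain ⟨ψ, hψ⟩ := exists_div_linear D hD (gzero X p h b ∘ₗ (X - 1)) (by
    intro v
    obtain ⟨t, ht, htb⟩ := key ((X - 1) v) (hyB v) 0 (by
      rw [map_zero]
      symm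
      apply hĥ
      exact ⟨d.red v, by rw [d.bar_red]⟩)
    rw [zero_smul, sub_zero] at htb
    exact ⟨⟨t, ht⟩, htb.symm⟩)
  have hψ' : ∀ v, (X - 1) ((ψ v : L)) = gzero X p h b ((X - 1) v) := hψ
  have huniq : ∀ {c₁ c₂ : L}, c₁ ∈ LinearMap.ker (nrm X p) → c₂ ∈ LinearMap.ker (nrm X p) →
      (X - 1) c₁ = (X - 1) c₂ → c₁ = c₂ := by
    intro c₁ c₂ h1 h2 h3
    have : c₁ - c₂ = 0 := y_pow_inj_on (p := p) htf (Submodule.sub_mem _ h1 h2) 1 (by
      rw [pow_one, map_sub, h3, sub_self])
    exact sub_eq_zero.mp this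
  have hXker : ∀ {c : L}, c ∈ LinearMap.ker (nrm X p) → X c ∈ LinearMap.ker (nrm X p) := by
    intro c hc
    rw [LinearMap.mem_ker]
    have : nrm X p (X c) = X (nrm X p c) :=
      congrArg (fun f : Module.End R L => f _) (commute_nrm_of_commute (p := p) (Commute.refl X)).symm.eq
    rw [this, LinearMap.mem_ker.mp hc, map_zero]
  have hyX : ∀ c : L, (X - 1) (X c) = X ((X - 1) c) := fun c =>
    congrArg (fun f : Module.End R L => f c) (commute_y_self X).eq
  refine ⟨(LinearMap.ker (nrm X p)).subtype ∘ₗ ψ, ?_, ?_, ?_⟩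
  · show ((LinearMap.ker (nrm X p)).subtype ∘ₗ ψ : Module.End R L) * X =
      X * ((LinearMap.ker (nrm X p)).subtype ∘ₗ ψ)
    ext v
    show ((ψ (X v) : L)) = X (ψ v : L)
    apply huniq (ψ (X v)).2 (hXker (ψ v).2)
    rw [hψ', hyX, hyX, hψ', gzero_comm htf hX hb (hyB v) h]
  · intro v hv
    show (ψ v : L) = 0
    have h1 : (X - 1) (ψ v : L) = 0 := by
      rw [hψ', LinearMap.mem_ker.mp hv, map_zero]
    exact y_pow_inj_on (p := p) htf (ψ v).2 1 (by rw [pow_one]; exact h1)
  · intro v hv r hr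
    have h1 : (ψ v : L) = gzero X p h b v := by
      apply huniq (ψ v).2 (gzero_mem hX hb h v)
      rw [hψ']
      have h2 : (X - 1) v = X v - v := by simp
      rw [h2, map_sub, gzero_comm htf hX hb hv h]
      simp
    show ∃ t ∈ LinearMap.ker (nrm X p), (ψ v : L) - r • b = (X - 1) t
    rw [h1]
    exact key v hv r hr

end Lift

end Cfsg.Agent.Lib.FF
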