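import Mathlib

/-!
# The Mackey decomposition of a relative trace from a subgroup of prime order
-/

set_option autoImplicit false
set_option linter.unusedSectionVars false
set_option linter.unusedVariables false

namespace Cfsg.Agent.Lib.FF

open Module

/-- A sum over a finite set with a free action, whose orbit sums lie in a subgroup. -/
theorem sum_mem_of_free_finset {P S M : Type*} [Group P] [Fintype P] [DecidableEq S] [MulAction P S]
    [AddCommGroup M] (M₀ : AddSubgroup M) (Φ : S → M) :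
    ∀ F : Finset S, (∀ s ∈ F, ∀ q : P, q • s ∈ F) → (∀ s ∈ F, ∀ q : P, q • s = s → q = 1) →
      (∀ s ∈ F, ∑ q : P, Φ (q • s) ∈ M₀) → ∑ s ∈ F, Φ s ∈ M₀ := by
  intro F
  induction h : F.card using Nat.strong_induction_on generalizing F with
  | _ n ih =>
    intro h1 h2 h3
    rcases F.eq_empty_or_nonempty with rfl | ⟨s₀, hs₀⟩
    · simp [M₀.zero_mem]
    · let O : Finset S := Finset.univ.image fun q : P => q • s₀
      have hO : O ⊆ F := by
        intro t ht
        obtain ⟨q, -, rfl⟩ := Finset.mem_image.mp ht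
        exact h1 s₀ hs₀ q
      have hinj : Function.Injective fun q : P => q • s₀ := by
        intro q q' hqq
        have hq : (q'⁻¹ * q) • s₀ = s₀ := by
          rw [mul_smul]
          have : q • s₀ = q' • s₀ := hqq
          rw [this, inv_smul_smul]
        have := h2 s₀ hs₀ _ hq
        exact (inv_mul_eq_one.mp this).symm
      have hsum : ∑ s ∈ O, Φ s = ∑ q : P, Φ (q • s₀) := by
        rw [Finset.sum_image (fun _ _ _ _ h => hinj h)]
      have hsplit : ∑ s ∈ F, Φ s = ∑ s ∈ O, Φ s + ∑ s ∈ F \ O, Φ s := by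
        rw [add_comm, Finset.sum_sdiff hO]
      rw [hsplit, hsum]
      refine M₀.add_mem (h3 s₀ hs₀) ?_
      have hlt : (F \ O).card < n := by
        rw [← h]
        apply Finset.card_lt_card
        refine ⟨Finset.sdiff_subset, fun hsub => ?_⟩
        have : s₀ ∈ F \ O := hsub hs₀
        exact (Finset.mem_sdiff.mp this).2 (Finset.mem_image.mpr ⟨1, Finset.mem_univ _, one_smul _ _⟩)
      refine ih _ hlt _ rfl ?_ ?_ ?_
      · intro s hs q
        obtain ⟨hs1, hs2⟩ := Finset.mem_sdiff.mp hs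
        refine Finset.mem_sdiff.mpr ⟨h1 s hs1 q, fun hq => hs2 ?_⟩
        obtain ⟨q', -, hq'⟩ := Finset.mem_image.mp hq
        refine Finset.mem_image.mpr ⟨q⁻¹ * q', Finset.mem_univ _, ?_⟩
        show (q⁻¹ * q') • s₀ = s
        rw [mul_smul]
        have : q' • s₀ = q • s := hq'
        rw [this, inv_smul_smul]
      · intro s hs q hq
        exact h2 s (Finset.mem_sdiff.mp hs).1 q hq
      · intro s hs
        exact h3 s (Finset.mem_sdiff.mp hs).1

section Mackey

variable {G : Type*} [Group G] [Fintype G] [DecidableEq G] {R L : Type*} [CommRing R] [AddCommGroup L]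
  [Module R L] (ρ : G →* Module.End R L) (P : Subgroup G) [Fintype (G ⧸ P)]

/-- `ρ(z) g ρ(z⁻¹)`. -/
noncomputable def conjOp (g : Module.End R L) (z : G) : Module.End R L := ρ z * g * ρ z⁻¹

theorem conjOp_mul_mem {g : Module.End R L} (hg : ∀ q ∈ P, Commute g (ρ q)) (z : G) {q : G} (hq : q ∈ P) :
    conjOp ρ g (z * q) = conjOp ρ g z := by
  unfold conjOp
  rw [mul_inv_rev, map_mul, map_mul]
  have h1 : ρ q * g * ρ q⁻¹ = g := by
    rw [(hg q hq).symm.eq, mul_assoc, ← map_mul, mul_inv_cancel, map_one, mul_one]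
  calc ρ z * ρ q * g * (ρ q⁻¹ * ρ z⁻¹) = ρ z * (ρ q * g * ρ q⁻¹) * ρ z⁻¹ := by noncomm_ring
    _ = ρ z * g * ρ z⁻¹ := by rw [h1]

theorem conjOp_out {g : Module.End R L} (hg : ∀ q ∈ P, Commute g (ρ q)) (z : G) :
    conjOp ρ g (Quotient.out (z : G ⧸ P)) = conjOp ρ g z := by
  have h1 : (Quotient.out (z : G ⧸ P) : G)⁻¹ * z ∈ P := by
    rw [← QuotientGroup.eq]
    exact QuotientGroup.out_eq' _
  have h2 : z = Quotient.out (z : G ⧸ P) * ((Quotient.out (z : G ⧸ P) : G)⁻¹ * z) := by group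
  conv_rhs => rw [h2]
  rw [conjOp_mul_mem ρ P hg _ h1]

/-- The relative trace from `P` to `G`. -/
noncomputable def relTrace (g : Module.End R L) : Module.End R L :=
  ∑ c : G ⧸ P, conjOp ρ g (Quotient.out c)

theorem conjOp_conj (g : Module.End R L) (h z : G) :
    ρ h * conjOp ρ g z = conjOp ρ g (h * z) * ρ h := by
  unfold conjOp
  rw [mul_inv_rev, map_mul, map_mul]
  have h1 : ρ z⁻¹ = ρ z⁻¹ * (ρ h⁻¹ * ρ h) := by
    rw [← map_mul, inv_mul_cancel, map_one, mul_one]
  conv_lhs => rw [h1]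
  noncomm_ring

theorem relTrace_commute {g : Module.End R L} (hg : ∀ q ∈ P, Commute g (ρ q)) (h : G) :
    Commute (relTrace ρ P g) (ρ h) := by
  show relTrace ρ P g * ρ h = ρ h * relTrace ρ P g
  unfold relTrace
  rw [Finset.mul_sum, Finset.sum_mul]
  simp only [conjOp_conj]
  have : ∀ c : G ⧸ P, conjOp ρ g (h * Quotient.out c) = conjOp ρ g (Quotient.out (h • c)) := by
    intro c
    have h1 : (h • c) = ((h * Quotient.out c : G) : G ⧸ P) := by
      conv_lhs => rw [← QuotientGroup.out_eq' c]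
      rfl
    rw [h1, conjOp_out ρ P hg]
  simp only [this]
  exact (Fintype.sum_equiv (MulAction.toPerm h : Equiv.Perm (G ⧸ P)) _ _ (fun c => rfl)).symm


variable {P}

/-- The part of the relative trace over the cosets not fixed by `P`. -/
theorem relTrace_free_mem {g : Module.End R L} (hg : ∀ q ∈ P, Commute g (ρ q))
    (e : Module.End R L) (he : ∀ q ∈ P, Commute e (ρ q)) [Fintype P] [DecidableEq (G ⧸ P)]
    (F : Finset (G ⧸ P)) (hF : ∀ c ∈ F, ∀ q : P, (q : G) • c ∈ F)
    (hfree : ∀ c ∈ F, ∀ q : P, (q : G) • c = c → q = 1)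
    (M₀ : AddSubgroup L) (v : L)
    (hM : ∀ c ∈ F, ∑ q : P, (ρ (q : G) * (e * conjOp ρ g (Quotient.out c)) * ρ (q : G)⁻¹) v ∈ M₀) :
    ∑ c ∈ F, e (conjOp ρ g (Quotient.out c) v) ∈ M₀ := by
  refine sum_mem_of_free_finset (P := P) (S := G ⧸ P) M₀ (fun c : G ⧸ P => e (conjOp ρ g (Quotient.out c) v)) F hF hfree ?_
  intro c hc
  have h1 : ∀ q : P, e (conjOp ρ g (Quotient.out (q • c)) v) =
      (ρ (q : G) * (e * conjOp ρ g (Quotient.out c)) * ρ (q : G)⁻¹) v := by
    intro q
    have h2 : (q • c) = (((q : G) * Quotient.out c : G) : G ⧸ P) := by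
      conv_lhs => rw [← QuotientGroup.out_eq' c]
      rfl
    rw [h2, conjOp_out ρ P hg]
    have h3 := conjOp_conj ρ g (q : G) (Quotient.out c)
    have h4 : conjOp ρ g ((q : G) * Quotient.out c) =
        ρ (q : G) * conjOp ρ g (Quotient.out c) * ρ (q : G)⁻¹ := by
      rw [h3, mul_assoc, ← map_mul, mul_inv_cancel, map_one, mul_one]
    rw [h4]
    have h5 : e * ρ (q : G) = ρ (q : G) * e := (he _ q.2).eq
    show e ((ρ (q : G) * conjOp ρ g (Quotient.out c) * ρ (q : G)⁻¹) v) = _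
    have h6 : e * (ρ (q : G) * conjOp ρ g (Quotient.out c) * ρ (q : G)⁻¹) =
        ρ (q : G) * (e * conjOp ρ g (Quotient.out c)) * ρ (q : G)⁻¹ := by
      rw [← mul_assoc, ← mul_assoc, h5, mul_assoc (ρ (q : G)) e]
    exact congrArg (fun f : Module.End R L => f v) h6
  simp only [h1]
  exact hM c hc

/-- Sums over a cyclic subgroup as sums over powers. -/
theorem sum_zpowers_eq {M : Type*} [AddCommMonoid M] (x : G) [Fintype (Subgroup.zpowers x)] (f : G → M) :
    ∑ q : Subgroup.zpowers x, f (q : G) = ∑ i ∈ Finset.range (orderOf x), f (x ^ i) := by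
  have hx : IsOfFinOrder x := isOfFinOrder_of_finite x
  rw [← Fin.sum_univ_eq_sum_range (fun i => f (x ^ i))]
  refine (Fintype.sum_equiv (finEquivZPowers hx) (fun i : Fin (orderOf x) => f (x ^ (i : ℕ))) _ ?_).symm
  intro i
  rw [finEquivZPowers_apply]

variable (P)

/-- **Mackey for Tate cohomology**, first half. -/
theorem relTrace_tate_A {g : Module.End R L} (hg : ∀ q ∈ P, Commute g (ρ q))
    (e : Module.End R L) (he : ∀ q ∈ P, Commute e (ρ q)) (hee : e * e = e)
    [Fintype P] [DecidableEq (G ⧸ P)] (Fix T₁ : Finset (G ⧸ P)) (hT : T₁ ⊆ Fix)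
    (hfree : ∀ c ∉ Fix, ∀ q : P, (q : G) • c = c → q = 1)
    (hfix : ∀ c, c ∈ Fix ↔ ∀ q : P, (q : G) • c = c)
    (h0 : ∀ c ∈ Fix, c ∉ T₁ → e * conjOp ρ g (Quotient.out c) = 0)
    (M₀ : AddSubgroup L) (hM₀ : ∀ w, e w = w → (∑ q : P, ρ (q : G)) w ∈ M₀) (v : L) (hv : ∀ q : P, ρ (q : G) v = v)
    (hA : ∀ c ∈ T₁, e (conjOp ρ g (Quotient.out c) v) - g v ∈ M₀) :
    e (relTrace ρ P g v) - T₁.card • g v ∈ M₀ := by
  classical
  have hsplit : e (relTrace ρ P g v) = ∑ c ∈ Fix, e (conjOp ρ g (Quotient.out c) v) +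
      ∑ c ∈ Finset.univ \ Fix, e (conjOp ρ g (Quotient.out c) v) := by
    unfold relTrace
    rw [LinearMap.sum_apply, map_sum, add_comm, Finset.sum_sdiff (Finset.subset_univ _)]
  have hfixsum : ∑ c ∈ Fix, e (conjOp ρ g (Quotient.out c) v) =
      ∑ c ∈ T₁, e (conjOp ρ g (Quotient.out c) v) := by
    symm
    apply Finset.sum_subset hT
    intro c hc hc'
    have := h0 c hc hc'
    exact congrArg (fun f : Module.End R L => f v) this
  have hfree' : ∑ c ∈ Finset.univ \ Fix, e (conjOp ρ g (Quotient.out c) v) ∈ M₀ := by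
    refine relTrace_free_mem ρ hg e he (Finset.univ \ Fix) ?_ ?_ M₀ v ?_
    · intro c hc q
      rw [Finset.mem_sdiff] at hc ⊢
      refine ⟨Finset.mem_univ _, fun hq => hc.2 ?_⟩
      rw [hfix] at hq ⊢
      intro q'
      have h1 := hq (q * q' * q⁻¹)
      have h2 : ((q * q' * q⁻¹ : P) : G) • ((q : G) • c) = (q : G) • ((q' : G) • c) := by
        simp only [Subgroup.coe_mul, Subgroup.coe_inv, mul_smul, inv_smul_smul]
      rw [h2] at h1
      exact smul_left_cancel _ h1
    · intro c hc q hq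
      exact hfree c (Finset.mem_sdiff.mp hc).2 q hq
    · intro c hc
      set u := e * conjOp ρ g (Quotient.out c) with hu
      have h1 : ∀ q : P, (ρ (q : G) * u * ρ (q : G)⁻¹) v = ρ (q : G) (u v) := by
        intro q
        have h2 : ρ (q : G)⁻¹ v = v := by
          have := hv q⁻¹
          simpa using this
        show ρ (q : G) (u (ρ (q : G)⁻¹ v)) = _
        rw [h2]
      simp only [h1]
      have h2 : ∑ q : P, ρ (q : G) (u v) = (∑ q : P, ρ (q : G)) (u v) := by
        rw [LinearMap.sum_apply]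
      rw [h2]
      apply hM₀
      have h3 : e * u = u := by rw [hu, ← mul_assoc, hee]
      exact congrArg (fun f : Module.End R L => f v) h3
  have h2 : e (relTrace ρ P g v) - T₁.card • g v =
      ∑ c ∈ T₁, (e (conjOp ρ g (Quotient.out c) v) - g v) +
        ∑ c ∈ Finset.univ \ Fix, e (conjOp ρ g (Quotient.out c) v) := by
    rw [hsplit, hfixsum, Finset.sum_sub_distrib, Finset.sum_const]
    abel
  rw [h2]
  exact M₀.add_mem (M₀.sum_mem hA) hfree'

/-- **Mackey for Tate cohomology**, second half. -/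
theorem relTrace_tate_B {g : Module.End R L} (hg : ∀ q ∈ P, Commute g (ρ q))
    (e : Module.End R L) (he : ∀ q ∈ P, Commute e (ρ q)) (hee : e * e = e)
    [Fintype P] [DecidableEq (G ⧸ P)] (Fix T₁ : Finset (G ⧸ P)) (hT : T₁ ⊆ Fix)
    (hfree : ∀ c ∉ Fix, ∀ q : P, (q : G) • c = c → q = 1)
    (hfix : ∀ c, c ∈ Fix ↔ ∀ q : P, (q : G) • c = c)
    (h0 : ∀ c ∈ Fix, c ∉ T₁ → e * conjOp ρ g (Quotient.out c) = 0)
    (M₀ : AddSubgroup L) (hM₀ : ∀ (w : L) (q : P), e w = w → ρ (q : G) w - w ∈ M₀) (v : L)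
    (hv : (∑ q : P, ρ (q : G)) v = 0)
    (hA : ∀ c ∈ T₁, e (conjOp ρ g (Quotient.out c) v) - g v ∈ M₀) :
    e (relTrace ρ P g v) - T₁.card • g v ∈ M₀ := by
  classical
  have hsplit : e (relTrace ρ P g v) = ∑ c ∈ Fix, e (conjOp ρ g (Quotient.out c) v) +
      ∑ c ∈ Finset.univ \ Fix, e (conjOp ρ g (Quotient.out c) v) := by
    unfold relTrace
    rw [LinearMap.sum_apply, map_sum, add_comm, Finset.sum_sdiff (Finset.subset_univ _)]
  have hfixsum : ∑ c ∈ Fix, e (conjOp ρ g (Quotient.out c) v) =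
      ∑ c ∈ T₁, e (conjOp ρ g (Quotient.out c) v) := by
    symm
    apply Finset.sum_subset hT
    intro c hc hc'
    have := h0 c hc hc'
    exact congrArg (fun f : Module.End R L => f v) this
  have hfree' : ∑ c ∈ Finset.univ \ Fix, e (conjOp ρ g (Quotient.out c) v) ∈ M₀ := by
    refine relTrace_free_mem ρ hg e he (Finset.univ \ Fix) ?_ ?_ M₀ v ?_
    · intro c hc q
      rw [Finset.mem_sdiff] at hc ⊢
      refine ⟨Finset.mem_univ _, fun hq => hc.2 ?_⟩
      rw [hfix] at hq ⊢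
      intro q'
      have h1 := hq (q * q' * q⁻¹)
      have h2 : ((q * q' * q⁻¹ : P) : G) • ((q : G) • c) = (q : G) • ((q' : G) • c) := by
        simp only [Subgroup.coe_mul, Subgroup.coe_inv, mul_smul, inv_smul_smul]
      rw [h2] at h1
      exact smul_left_cancel _ h1
    · intro c hc q hq
      exact hfree c (Finset.mem_sdiff.mp hc).2 q hq
    · intro c hc
      set u := e * conjOp ρ g (Quotient.out c) with hu
      have h3 : e * u = u := by rw [hu, ← mul_assoc, hee]
      have h4 : ∑ q : P, u (ρ (q : G)⁻¹ v) = 0 := by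
        rw [← map_sum]
        have h5 : ∑ q : P, ρ (q : G)⁻¹ v = (∑ q : P, ρ (q : G)) v := by
          rw [LinearMap.sum_apply]
          refine Fintype.sum_equiv (Equiv.inv P) _ _ fun q => ?_
          simp
        rw [h5, hv, map_zero]
      have h6 : ∑ q : P, (ρ (q : G) * u * ρ (q : G)⁻¹) v =
          ∑ q : P, (ρ (q : G) (u (ρ (q : G)⁻¹ v)) - u (ρ (q : G)⁻¹ v)) := by
        rw [Finset.sum_sub_distrib, h4, sub_zero]
        rfl
      rw [h6]
      refine M₀.sum_mem fun q _ => hM₀ _ q ?_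
      exact congrArg (fun f : Module.End R L => f _) h3
  have h2 : e (relTrace ρ P g v) - T₁.card • g v =
      ∑ c ∈ T₁, (e (conjOp ρ g (Quotient.out c) v) - g v) +
        ∑ c ∈ Finset.univ \ Fix, e (conjOp ρ g (Quotient.out c) v) := by
    rw [hsplit, hfixsum, Finset.sum_sub_distrib, Finset.sum_const]
    abel
  rw [h2]
  exact M₀.add_mem (M₀.sum_mem hA) hfree'

end Mackey

end Cfsg.Agent.Lib.FF
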