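import Mathlib

/-!
# Ranks of an idempotent on invariant subspaces

`rk π S` is the dimension of the image under the idempotent `π` of a subspace `S`.  On `π`-stable
subspaces it behaves additively, which is all that is needed for the Tate rank formula.
-/

set_option autoImplicit false
set_option linter.unusedSectionVars false
set_option linter.unusedVariables false

namespace Cfsg.Agent.Lib.FF

open Module

section KLinear

variable {k V : Type*} [Field k] [AddCommGroup V] [Module k V] [FiniteDimensional k V]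

/-- The dimension of the image of a subspace under `π`. -/
noncomputable def rk (π : Module.End k V) (S : Submodule k V) : ℕ := finrank k (S.map π)

theorem finrank_map_add_inf_ker (D : Module.End k V) (T : Submodule k V) :
    finrank k (T.map D) + finrank k (T ⊓ LinearMap.ker D : Submodule k V) = finrank k T := by
  have h := LinearMap.finrank_range_add_finrank_ker (D.domRestrict T)
  rw [LinearMap.range_domRestrict, LinearMap.ker_domRestrict] at h
  rw [← h]
  congr 1
  have h2 : ((LinearMap.ker D).comap T.subtype).map T.subtype = T ⊓ LinearMap.ker D := by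
    rw [Submodule.map_comap_subtype]
  rw [← h2]
  exact LinearEquiv.finrank_eq (Submodule.equivMapOfInjective _ T.injective_subtype _).symm

variable {π : Module.End k V}

theorem map_inf_of_stable (hπ : IsIdempotentElem π) {S₁ S₂ : Submodule k V}
    (h₁ : S₁.map π ≤ S₁) (h₂ : S₂.map π ≤ S₂) :
    (S₁ ⊓ S₂).map π = S₁.map π ⊓ S₂.map π := by
  apply le_antisymm
  · exact Submodule.map_inf_le _
  · rintro t ⟨⟨s₁, hs₁, rfl⟩, ⟨s₂, hs₂, hs⟩⟩
    have h3 : π s₁ ∈ S₁ := h₁ ⟨s₁, hs₁, rfl⟩
    have h4 : π s₁ ∈ S₂ := by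
      have h5 : π s₂ ∈ S₂ := h₂ ⟨s₂, hs₂, rfl⟩
      have hs' : π s₂ = π s₁ := hs
      rwa [hs'] at h5
    refine ⟨π s₁, ⟨h3, h4⟩, ?_⟩
    have := congrArg (fun f : Module.End k V => f s₁) hπ
    simpa using this

/-- `(a)`: rank–nullity for `D` commuting with `π`. -/
theorem rk_map_add_ker (hπ : IsIdempotentElem π) {D : Module.End k V} (hD : Commute D π)
    {S : Submodule k V} (hS : S.map π ≤ S) :
    rk π (S.map D) + rk π (S ⊓ LinearMap.ker D) = rk π S := by
  have hker : (LinearMap.ker D).map π ≤ LinearMap.ker D := by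
    rintro _ ⟨v, hv, rfl⟩
    have h1 : D (π v) = π (D v) := by
      have := congrArg (fun f : Module.End k V => f v) hD.eq
      simpa using this
    rw [LinearMap.mem_ker, h1, LinearMap.mem_ker.mp hv, map_zero]
  unfold rk
  rw [map_inf_of_stable hπ hS hker]
  have h1 : (S.map D).map π = (S.map π).map D := by
    rw [← Submodule.map_comp, ← Submodule.map_comp]
    congr 1
    exact hD.symm.eq
  rw [h1]
  have h2 := finrank_map_add_inf_ker D (S.map π)
  have h3 : S.map π ⊓ (LinearMap.ker D).map π = S.map π ⊓ LinearMap.ker D := by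
    apply le_antisymm
    · exact inf_le_inf_left _ hker
    · rintro t ⟨⟨s, hs, rfl⟩, ht⟩
      refine ⟨⟨s, hs, rfl⟩, ⟨π s, ht, ?_⟩⟩
      have := congrArg (fun f : Module.End k V => f s) hπ
      simpa using this
  rw [h3]
  exact h2

/-- `(b)`: modularity. -/
theorem rk_sup_add_inf (hπ : IsIdempotentElem π) {S₁ S₂ : Submodule k V}
    (h₁ : S₁.map π ≤ S₁) (h₂ : S₂.map π ≤ S₂) :
    rk π (S₁ ⊔ S₂) + rk π (S₁ ⊓ S₂) = rk π S₁ + rk π S₂ := by
  unfold rk
  rw [map_inf_of_stable hπ h₁ h₂, Submodule.map_sup]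
  exact Submodule.finrank_sup_add_finrank_inf_eq _ _

theorem rk_mono {S₁ S₂ : Submodule k V} (h : S₁ ≤ S₂) : rk π S₁ ≤ rk π S₂ :=
  Submodule.finrank_mono (Submodule.map_mono h)

theorem stable_map_of_commute {D : Module.End k V} (hD : Commute D π) {S : Submodule k V}
    (hS : S.map π ≤ S) : (S.map D).map π ≤ S.map D := by
  rw [← Submodule.map_comp]
  have : π ∘ₗ D = D ∘ₗ π := hD.symm.eq
  rw [this, Submodule.map_comp]
  exact Submodule.map_mono hS

theorem stable_ker_of_commute {D : Module.End k V} (hD : Commute D π) :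
    (LinearMap.ker D).map π ≤ LinearMap.ker D := by
  rintro _ ⟨v, hv, rfl⟩
  have h1 : D (π v) = π (D v) := by
    have := congrArg (fun f : Module.End k V => f v) hD.eq
    simpa using this
  rw [LinearMap.mem_ker, h1, LinearMap.mem_ker.mp hv, map_zero]

theorem stable_inf {S₁ S₂ : Submodule k V} (h₁ : S₁.map π ≤ S₁) (h₂ : S₂.map π ≤ S₂) :
    (S₁ ⊓ S₂).map π ≤ S₁ ⊓ S₂ :=
  (Submodule.map_inf_le _).trans (inf_le_inf h₁ h₂)

theorem stable_top : (⊤ : Submodule k V).map π ≤ ⊤ := le_top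

/-- First half of the Tate formula: `rk (y V) = rk (N V) + rk (y B)`. -/
theorem rk_tate_one (hπ : IsIdempotentElem π) {y N : Module.End k V} (hy : Commute y π)
    (hN : Commute N π) {B : Submodule k V} (hB : B.map π ≤ B)
    (hker : LinearMap.ker N = B ⊔ LinearMap.ker y) :
    rk π ((⊤ : Submodule k V).map y) = rk π ((⊤ : Submodule k V).map N) + rk π (B.map y) := by
  have h1 := rk_map_add_ker hπ hy (S := ⊤) stable_top
  have h2 := rk_map_add_ker hπ hN (S := ⊤) stable_top
  have h3 := rk_map_add_ker hπ hy hB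
  have h4 := rk_sup_add_inf hπ hB (stable_ker_of_commute hy)
  rw [top_inf_eq] at h1 h2
  rw [hker] at h2
  omega

/-- Second half of the Tate formula: the layers of `B` under `y`. -/
theorem rk_layers (hπ : IsIdempotentElem π) {y : Module.End k V} (hy : Commute y π)
    {B : Submodule k V} (hB : B.map π ≤ B) (n : ℕ)
    (hyB : B.map y ≤ B) (hn : B.map (y ^ n) = ⊥)
    (hlay : ∀ i < n, B ⊓ LinearMap.ker (y ^ i) ≤ B.map y) :
    rk π B = n * (rk π B - rk π (B.map y)) := by
  have hle : rk π (B.map y) ≤ rk π B := by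
    have := rk_map_add_ker hπ hy hB
    omega
  have key : ∀ i ≤ n, rk π (B.map (y ^ i)) + i * (rk π B - rk π (B.map y)) = rk π B := by
    intro i
    induction i with
    | zero =>
      intro _
      have : B.map (y ^ 0) = B := by
        rw [pow_zero]
        exact Submodule.map_id B
      rw [this]
      omega
    | succ i ih =>
      intro hi
      have ih' := ih (by omega)
      have hc : Commute (y ^ i) π := hy.pow_left i
      have h1 := rk_map_add_ker hπ hc hB
      have hB1 : (B.map y).map π ≤ B.map y := stable_map_of_commute hy hB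
      have h2 := rk_map_add_ker hπ hc hB1
      have h3 : B ⊓ LinearMap.ker (y ^ i) = B.map y ⊓ LinearMap.ker (y ^ i) := by
        apply le_antisymm
        · exact le_inf (hlay i (by omega)) inf_le_right
        · exact inf_le_inf_right _ hyB
      have h4 : (B.map y).map (y ^ i) = B.map (y ^ (i + 1)) := by
        rw [← Submodule.map_comp]
        rfl
      rw [h4] at h2
      rw [← h3] at h2
      rw [Nat.succ_mul]
      omega
  have := key n le_rfl
  rw [hn] at this
  have h0 : rk π (⊥ : Submodule k V) = 0 := by simp [rk]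
  rw [h0] at this
  omega


/-- A line on top of `T`. -/
theorem rk_succ_of_line (hπ : IsIdempotentElem π) {S T : Submodule k V} (hT : T.map π ≤ T)
    (hTS : T ≤ S) (hS : S.map π ≤ S) {s₀ : V} (hs₀ : s₀ ∈ S) (hs₀T : s₀ ∉ T) {c : k} (hc : c ≠ 0)
    (h₁ : π s₀ - c • s₀ ∈ T) (h₂ : ∀ u ∈ S, ∃ d : k, π u - d • s₀ ∈ T) :
    rk π S = rk π T + 1 := by
  have hidem : ∀ v, π (π v) = π v := fun v => by
    have := congrArg (fun f : Module.End k V => f v) hπ
    simpa using this
  have h3 : S.map π ⊓ T = T.map π := by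
    apply le_antisymm
    · rintro t ⟨⟨u, _, rfl⟩, ht⟩
      exact ⟨π u, ht, hidem u⟩
    · exact le_inf (Submodule.map_mono hTS) hT
  have h4 : S.map π ⊔ T = T ⊔ Submodule.span k {s₀} := by
    apply le_antisymm
    · refine sup_le ?_ le_sup_left
      rintro _ ⟨u, hu, rfl⟩
      obtain ⟨d, hd⟩ := h₂ u hu
      have : π u = (π u - d • s₀) + d • s₀ := by abel
      rw [this]
      exact Submodule.add_mem _ (Submodule.mem_sup_left hd)
        (Submodule.mem_sup_right (Submodule.smul_mem _ _ (Submodule.mem_span_singleton_self _)))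
    · refine sup_le le_sup_right ?_
      rw [Submodule.span_singleton_le_iff_mem]
      have h5 : s₀ = c⁻¹ • (π s₀ - (π s₀ - c • s₀)) := by
        simp [smul_smul, inv_mul_cancel₀ hc]
      rw [h5]
      refine Submodule.smul_mem _ _ (Submodule.sub_mem _ ?_ (Submodule.mem_sup_right h₁))
      exact Submodule.mem_sup_left ⟨s₀, hs₀, rfl⟩
  have h6 := Submodule.finrank_sup_add_finrank_inf_eq (S.map π) T
  rw [h3, h4, Submodule.finrank_sup_span_singleton hs₀T] at h6
  unfold rk
  omega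

/-- If `π` maps `S` into `T`, the ranks agree. -/
theorem rk_eq_of_image_le (hπ : IsIdempotentElem π) {S T : Submodule k V} (hT : T.map π ≤ T)
    (hTS : T ≤ S) (hS : S.map π ≤ T) : rk π S = rk π T := by
  have hidem : ∀ v, π (π v) = π v := fun v => by
    have := congrArg (fun f : Module.End k V => f v) hπ
    simpa using this
  apply le_antisymm
  · apply Submodule.finrank_mono
    rintro _ ⟨u, hu, rfl⟩
    exact ⟨π u, hS ⟨u, hu, rfl⟩, hidem u⟩
  · exact rk_mono hTS

/-- Iterating an endomorphism which acts on a subquotient by `u ↦ ℓ(u) s₀`. -/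
theorem iter_line {f : Module.End k V} {S T : Submodule k V} (hfT : T.map f ≤ T) {s₀ : V}
    (hs₀ : s₀ ∈ S) {ℓ : V → k} (hf : ∀ u ∈ S, f u - ℓ u • s₀ ∈ T) (M : ℕ) :
    ∀ u ∈ S, (f ^ (M + 1)) u - (ℓ u * ℓ s₀ ^ M) • s₀ ∈ T := by
  induction M with
  | zero =>
    intro u hu
    simpa using hf u hu
  | succ M ih =>
    intro u hu
    have h1 := ih u hu
    have h2 : (f ^ (M + 1 + 1)) u = f ((f ^ (M + 1)) u) := by
      rw [pow_succ' f (M + 1)]
      rfl
    have h3 : f ((f ^ (M + 1)) u - (ℓ u * ℓ s₀ ^ M) • s₀) ∈ T := hfT ⟨_, h1, rfl⟩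
    rw [map_sub, map_smul] at h3
    have h4 := hf s₀ hs₀
    have h5 : (f ^ (M + 1 + 1)) u - (ℓ u * ℓ s₀ ^ (M + 1)) • s₀ =
        (f ((f ^ (M + 1)) u) - (ℓ u * ℓ s₀ ^ M) • f s₀) +
          (ℓ u * ℓ s₀ ^ M) • (f s₀ - ℓ s₀ • s₀) := by
      rw [h2, smul_sub, smul_smul, pow_succ]
      ring_nf
      abel
    rw [h5]
    exact Submodule.add_mem _ h3 (Submodule.smul_mem _ _ h4)

end KLinear

section Poly

open Polynomial

/-- `(X-1)^(p-1) ≡ Φ_p (mod p)`. -/
theorem poly_one (p : ℕ) [hp : Fact p.Prime] :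
    ∃ W : ℤ[X], (X - 1 : ℤ[X]) ^ (p - 1) = (∑ i ∈ Finset.range p, X ^ i) + C (p : ℤ) * W := by
  have h1 : ((X - 1 : (ZMod p)[X]) ^ (p - 1)) = ∑ i ∈ Finset.range p, X ^ i := by
    have h2 : (X - 1 : (ZMod p)[X]) ≠ 0 := X_sub_C_ne_zero (1 : ZMod p)
    apply mul_left_cancel₀ h2
    rw [mul_geom_sum, ← pow_succ', Nat.sub_add_cancel hp.out.one_le]
    have := sub_pow_char (R := (ZMod p)[X]) (p := p) (X : (ZMod p)[X]) 1
    simpa using this
  have h3 : ((X - 1 : ℤ[X]) ^ (p - 1) - ∑ i ∈ Finset.range p, X ^ i).map (Int.castRingHom (ZMod p)) = 0 := by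
    simp [Polynomial.map_sum, h1]
  have h4 : (C (p : ℤ)) ∣ ((X - 1 : ℤ[X]) ^ (p - 1) - ∑ i ∈ Finset.range p, X ^ i) := by
    rw [Polynomial.C_dvd_iff_dvd_coeff]
    intro i
    have := congrArg (fun q => q.coeff i) h3
    simp only [coeff_map, coeff_zero] at this
    exact (ZMod.intCast_zmod_eq_zero_iff_dvd _ p).mp (by simpa using this)
  obtain ⟨W, hW⟩ := h4
  exact ⟨W, by rw [← hW]; ring⟩

/-- `p` lies in the ideal generated by `(X-1)^(p-1)` and `Φ_p`. -/
theorem poly_two (p : ℕ) [hp : Fact p.Prime] :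
    ∃ C₀ Q₀ : ℤ[X], C (p : ℤ) = (X - 1 : ℤ[X]) ^ (p - 1) * C₀ + (∑ i ∈ Finset.range p, X ^ i) * Q₀ := by
  have hpp := hp.out
  obtain ⟨n, hn⟩ : ∃ n, p = n + 1 := ⟨p - 1, (Nat.sub_add_cancel hpp.one_le).symm⟩
  have hz : IsPrimitiveRoot (Complex.exp (2 * Real.pi * Complex.I / (p : ℂ))) p :=
    Complex.isPrimitiveRoot_exp p hpp.ne_zero
  set ζ := Complex.exp (2 * Real.pi * Complex.I / (p : ℂ)) with hζ
  have hprod : ∏ k ∈ Finset.range n, (1 - ζ ^ (k + 1)) = (p : ℂ) := by
    have := (hn ▸ hz : IsPrimitiveRoot ζ (n + 1)).prod_one_sub_pow_eq_order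
    rw [this, hn]
    push_cast
    rfl
  set H : ℤ[X] := ∏ k ∈ Finset.range n, (1 - X ^ (k + 1)) - C (p : ℤ) with hH
  have hH0 : aeval ζ H = 0 := by
    simp only [hH, map_sub, map_prod, map_pow, aeval_X, map_one, aeval_C, hprod]
    simp
  have hdvd : minpoly ℤ ζ ∣ H := minpoly.isIntegrallyClosed_dvd (hz.isIntegral hpp.pos) hH0
  rw [← cyclotomic_eq_minpoly hz hpp.pos, cyclotomic_prime] at hdvd
  obtain ⟨Q, hQ⟩ := hdvd
  have hfac : ∏ k ∈ Finset.range n, (1 - X ^ (k + 1) : ℤ[X]) =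
      (X - 1) ^ n * ∏ k ∈ Finset.range n, (-(∑ i ∈ Finset.range (k + 1), X ^ i)) := by
    have h5 : ∀ k : ℕ, (1 - X ^ (k + 1) : ℤ[X]) = (X - 1) * (-(∑ i ∈ Finset.range (k + 1), X ^ i)) := by
      intro k
      rw [mul_neg, mul_geom_sum]
      ring
    rw [Finset.prod_congr rfl (fun k _ => h5 k), Finset.prod_mul_distrib, Finset.prod_const,
      Finset.card_range]
  refine ⟨∏ k ∈ Finset.range n, (-(∑ i ∈ Finset.range (k + 1), X ^ i)), -Q, ?_⟩
  have : p - 1 = n := by omega
  rw [this, ← hfac]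
  linear_combination -hQ


end Poly

end Cfsg.Agent.Lib.FF
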