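import Cfsg.Agent.S3078
import Cfsg.Agent.S3836
import Cfsg.Agent.S3062
import Cfsg.Agent.Lib.FF.CharP
import Cfsg.Agent.Lib.FF.SylowIn
import Cfsg.Agent.Lib.FrobThm.Replacement
import Cfsg.Agent.Lib.Core.Basic
import Cfsg.Agent.Lib.Core.Factor
import Mathlib

/-!
Glauberman's ZJ-theorem for strongly closed subgroups.  `Zee e D` is `Ω_e(Z(J_e(D)))`.
-/

set_option autoImplicit false

namespace Cfsg.Agent.Lib.FF

open Subgroup Cfsg Cfsg.Agent.Lib.FrobThm Cfsg.Agent.Lib.Techniques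
open scoped commutatorElement

variable {G : Type*} [Group G]

/-- `Ω_e(Z(J_e(D)))`. -/
def Zee (e : ℕ) (D : Subgroup G) : Subgroup G :=
  omegaOne e (JJ e D ⊓ centralizer (JJ e D : Set G))

theorem mem_Zee {e : ℕ} {D : Subgroup G} {z : G} :
    z ∈ Zee e D ↔ z ∈ JJ e D ∧ (∀ y ∈ JJ e D, y * z = z * y) ∧ z ^ e = 1 := by
  constructor
  · intro h
    induction h using closure_induction with
    | mem y hy => exact ⟨hy.1.1, fun u hu => mem_centralizer_iff.mp hy.1.2 u hu, hy.2⟩
    | one => exact ⟨one_mem _, by simp, one_pow _⟩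
    | mul a b _ _ ha hb =>
      refine ⟨mul_mem ha.1 hb.1, ?_, ?_⟩
      · intro y hy
        calc y * (a * b) = (y * a) * b := by group
          _ = (a * y) * b := by rw [ha.2.1 y hy]
          _ = a * (y * b) := by group
          _ = a * (b * y) := by rw [hb.2.1 y hy]
          _ = _ := by group
      · have hc : Commute a b := (ha.2.1 b hb.1).symm
        rw [hc.mul_pow, ha.2.2, hb.2.2, one_mul]
    | inv a _ ha =>
      refine ⟨inv_mem ha.1, ?_, by rw [inv_pow, ha.2.2, inv_one]⟩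
      intro y hy
      have h1 := ha.2.1 y hy
      calc y * a⁻¹ = a⁻¹ * (a * y) * a⁻¹ := by group
        _ = a⁻¹ * (y * a) * a⁻¹ := by rw [h1]
        _ = _ := by group
  · rintro ⟨h1, h2, h3⟩
    exact subset_closure ⟨⟨h1, mem_centralizer_iff.mpr h2⟩, h3⟩

theorem Zee_comm {e : ℕ} {D : Subgroup G} {a b : G} (ha : a ∈ Zee e D) (hb : b ∈ Zee e D) :
    a * b = b * a :=
  ((mem_Zee.mp hb).2.1 a (mem_Zee.mp ha).1).symm ▸ rfl

theorem Zee_EA (e : ℕ) (D : Subgroup G) : EA e (Zee e D) :=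
  ⟨fun _ ha _ hb => Zee_comm ha hb, fun _ ha => (mem_Zee.mp ha).2.2⟩

theorem Zee_le_JJ (e : ℕ) (D : Subgroup G) : Zee e D ≤ JJ e D := fun _ h => (mem_Zee.mp h).1

theorem Zee_le (e : ℕ) (D : Subgroup G) : Zee e D ≤ D := (Zee_le_JJ e D).trans JJ_le

theorem conj_mem_Zee {e : ℕ} {D : Subgroup G} {g z : G} (hg : g ∈ normalizer (D : Set G))
    (hz : z ∈ Zee e D) : g * z * g⁻¹ ∈ Zee e D := by
  obtain ⟨h1, h2, h3⟩ := mem_Zee.mp hz
  have hJ : g ∈ normalizer (JJ e D : Set G) := by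
    rw [mem_normalizer_iff_conjS, JJ_conj, mem_normalizer_iff_conjS.mp hg]
  refine mem_Zee.mpr ⟨conj_mem_of_mem_normalizer hJ h1, ?_, by rw [conj_pow, h3]; simp⟩
  intro y hy
  have hy' : g⁻¹ * y * g ∈ JJ e D := inv_conj_mem_of_mem_normalizer hJ hy
  have h4 := h2 _ hy'
  calc y * (g * z * g⁻¹) = g * ((g⁻¹ * y * g) * z) * g⁻¹ := by group
    _ = g * (z * (g⁻¹ * y * g)) * g⁻¹ := by rw [h4]
    _ = _ := by group

section Finite

variable [Finite G]

theorem Zee_le_of_mem_AA {e : ℕ} {D A : Subgroup G} (hA : A ∈ AA e D) : Zee e D ≤ A := by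
  have h1 : EA e (A ⊔ Zee e D) := EA.sup hA.2.1 (Zee_EA e D) (fun a ha z hz =>
    (mem_Zee.mp hz).2.1 a (le_JJ hA ha))
  have h2 := hA.2.2 _ (sup_le hA.1 (Zee_le e D)) h1
  have h3 := Subgroup.eq_of_le_of_card_ge (le_sup_left : A ≤ A ⊔ Zee e D) h2
  rw [h3]
  exact le_sup_right

theorem mem_Zee_of_forall {e : ℕ} {D : Subgroup G} {z : G} (h : ∀ A ∈ AA e D, z ∈ A) : z ∈ Zee e D := by
  obtain ⟨A₀, hA₀⟩ := exists_mem_AA e D
  refine mem_Zee.mpr ⟨le_JJ hA₀ (h A₀ hA₀), ?_, hA₀.2.1.2 z (h A₀ hA₀)⟩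
  have hle : JJ e D ≤ centralizer ({z} : Set G) := by
    apply sSup_le
    intro A hA a ha
    exact mem_centralizer_singleton_iff.mpr (hA.2.1.1 a ha z (h A hA))
  intro y hy
  exact (mem_centralizer_iff.mp (hle hy) z rfl).symm

variable {p : ℕ} [Fact p.Prime]

/-- The `p`-stability on a normal subgroup, from the normalizer form. -/
theorem isPStableOn_of_normalizer (hst : IsNormalizerPStable p G) (X : Subgroup G) [hX : X.Normal]
    (hXp : IsPGroup p X) : IsPStableOn p X := by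
  intro a ha
  have hN : ∀ g : G, g ∈ normalizer (X : Set G) := fun g => by
    rw [normalizer_eq_top_iff.mpr hX]; trivial
  have h1 := hst X hXp a (hN a) ha
  set N := normalizer (X : Set G) with hNdef
  set C := centralizer (X : Set G) with hC
  set C' : Subgroup N := C.subgroupOf N with hC'
  let i : G →* N := (MonoidHom.id G).codRestrict N hN
  let f : G →* N ⧸ C' := (QuotientGroup.mk' C').comp i
  have hf : ∀ x ∈ C, f x = 1 := by
    intro x hx
    exact (QuotientGroup.eq_one_iff _).mpr hx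
  let f' : G ⧸ C →* N ⧸ C' := QuotientGroup.lift C f hf
  have hinj : Function.Injective f' := by
    rw [injective_iff_map_eq_one]
    intro q hq
    obtain ⟨g, rfl⟩ := QuotientGroup.mk_surjective q
    have h2 : f g = 1 := hq
    have h3 : i g ∈ C' := (QuotientGroup.eq_one_iff _).mp h2
    exact (QuotientGroup.eq_one_iff _).mpr h3
  have hle : (pCore p (N ⧸ C')).comap f' ≤ pCore p (G ⧸ C) := by
    apply Cfsg.Agent.Lib.Core.le_pCore
    · exact (Cfsg.Agent.Lib.Core.pCore_normal p _).comap _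
    · exact (Cfsg.Agent.Lib.Core.pCore_isPGroup p _).comap_of_injective _ hinj
  exact hle h1

/-- The preimage of `O_p(G/C(X))`. -/
def Lx (p : ℕ) (X : Subgroup G) [X.Normal] : Subgroup G :=
  (pCore p (G ⧸ centralizer (X : Set G))).comap (QuotientGroup.mk' (centralizer (X : Set G)))

theorem Lx_normal (X : Subgroup G) [X.Normal] : (Lx p X).Normal :=
  (Cfsg.Agent.Lib.Core.pCore_normal p _).comap _

theorem centralizer_le_Lx (X : Subgroup G) [X.Normal] : centralizer (X : Set G) ≤ Lx p X := by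
  intro c hc
  show QuotientGroup.mk' (centralizer (X : Set G)) c ∈ pCore p _
  have h1 : QuotientGroup.mk' (centralizer (X : Set G)) c = 1 := (QuotientGroup.eq_one_iff c).mpr hc
  rw [h1]
  exact one_mem _

/-- Every element of `Lx` is, modulo `C(X)`, in any Sylow subgroup. -/
theorem exists_mul_of_mem_Lx (P : Sylow p G) (X : Subgroup G) [X.Normal] {l : G} (hl : l ∈ Lx p X) :
    ∃ c ∈ centralizer (X : Set G), ∃ y ∈ (P : Subgroup G), l = c * y := by
  have h := Cfsg.Agent.Lib.Core.pCore_le_sylow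
    (P.mapSurjective (QuotientGroup.mk'_surjective (centralizer (X : Set G))))
  rw [Sylow.coe_mapSurjective] at h
  obtain ⟨y, hy, hyl⟩ := h hl
  refine ⟨l * y⁻¹, ?_, y, hy, by simp⟩
  have h1 : y⁻¹ * l ∈ centralizer (X : Set G) := QuotientGroup.eq.mp hyl
  have h2 := (inferInstance : (centralizer (X : Set G)).Normal).conj_mem _ h1 y
  convert h2 using 1
  group

/-- An abelian subgroup normalized by the normal `p`-subgroup `X` lies in `Lx`. -/
theorem le_Lx_of_le_normalizer (hst : IsNormalizerPStable p G) (X : Subgroup G) [hX : X.Normal]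
    (hXp : IsPGroup p X) {A : Subgroup G} (hAc : ∀ a ∈ A, ∀ b ∈ A, a * b = b * a)
    (hXA : X ≤ normalizer (A : Set G)) : A ≤ Lx p X := by
  intro a ha
  apply isPStableOn_of_normalizer hst X hXp a
  have hz : zpowers a ≤ A := (zpowers_le).mpr ha
  have h1 : ⁅X, zpowers a⁆ ≤ A := by
    rw [Subgroup.commutator_le]
    intro x hx b hb
    show x * b * x⁻¹ * b⁻¹ ∈ A
    exact A.mul_mem (conj_mem_of_mem_normalizer (hXA hx) (hz hb)) (A.inv_mem (hz hb))
  rw [eq_bot_iff, Subgroup.commutator_le]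
  intro u hu v hv
  rw [Subgroup.mem_bot, commutatorElement_eq_one_iff_mul_comm]
  exact hAc _ (h1 hu) _ (hz hv)

/-- The Frattini factorization. -/
theorem exists_frattini (P : Sylow p G) (H : Subgroup G) [hH : H.Normal] (g : G) :
    ∃ h ∈ H, ∃ n ∈ normalizer (((P : Subgroup G) ⊓ H : Subgroup G) : Set G), g = h * n := by
  have hS := inf_normal_isSylowIn P H
  have h1 := Sylow.normalizer_sup_eq_top hS.toSylow
  have h2 : ((hS.toSylow : Sylow p H) : Subgroup H).map H.subtype = (P : Subgroup G) ⊓ H := by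
    rw [IsSylowIn.coe_toSylow, subgroupOf_map_subtype, inf_assoc, inf_idem]
  have h3 : g ∈ normalizer ((((hS.toSylow : Sylow p H) : Subgroup H).map H.subtype : Subgroup G) : Set G) ⊔ H := by
    show g ∈ normalizer ((hS.toSylow).map H.subtype : Set G) ⊔ H
    rw [h1]; trivial
  rw [h2, sup_comm] at h3
  obtain ⟨h, hh, n, hn, rfl⟩ := Subgroup.mem_sup_of_normal_left.mp h3
  exact ⟨h, hh, n, hn, rfl⟩

/-- Glauberman's replacement inside `D`. -/
theorem replacement_AA (hp : p ≠ 2) {e : ℕ} {D A B : Subgroup G} (hDp : IsPGroup p D) (hA : A ∈ AA e D)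
    (hBD : B ≤ D) (hB2 : ⁅⁅B, B⁆, B⁆ = ⊥) (hBA : ⁅B, B⁆ ≤ A) (hAB : A ≤ normalizer (B : Set G))
    (hnot : ¬ B ≤ normalizer (A : Set G)) :
    ∃ A' ∈ AA e D, Nat.card (A ⊓ B : Subgroup G) < Nat.card (A' ⊓ B : Subgroup G) ∧
      A' ≤ normalizer (A : Set G) := by
  classical
  have hAD := hA.1
  let f : D →* G := D.subtype
  have hinj : Function.Injective f := D.subtype_injective
  set A₁ : Subgroup D := A.subgroupOf D with hA₁
  set B₁ : Subgroup D := B.subgroupOf D with hB₁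
  have hmA : A₁.map f = A := by
    rw [hA₁, subgroupOf_map_subtype, inf_eq_left.mpr hAD]
  have hmB : B₁.map f = B := by
    rw [hB₁, subgroupOf_map_subtype, inf_eq_left.mpr hBD]
  have hA₁c : IsMulCommutative A₁ :=
    ⟨⟨fun u v => Subtype.ext (Subtype.ext (hA.2.1.1 _ u.2 _ v.2))⟩⟩
  have hB₁2 : ⁅⁅B₁, B₁⁆, B₁⁆ = ⊥ := by
    apply (map_eq_bot_iff_of_injective _ hinj).mp
    rw [map_commutator, map_commutator, hmB]; exact hB2
  have hB₁A : ⁅B₁, B₁⁆ ≤ A₁ := by
    rw [← map_le_map_iff_of_injective hinj, map_commutator, hmB, hmA]; exact hBA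
  have hA₁B : A₁ ≤ normalizer (B₁ : Set D) := by
    intro a ha
    apply mem_normalizer_of_forall_conj_mem
    intro b hb
    have h1 : (a : G) ∈ normalizer (B : Set G) := hAB ha
    have h2 : (b : G) ∈ B := hb
    have h3 : (a : G) * b * (a : G)⁻¹ ∈ B := conj_mem_of_mem_normalizer h1 h2
    exact h3
  have hB₁n : ¬ B₁ ≤ normalizer (A₁ : Set D) := by
    intro h
    apply hnot
    intro b hb
    apply mem_normalizer_of_forall_conj_mem
    intro a ha
    have h1 := h (show (⟨b, hBD hb⟩ : D) ∈ B₁ from hb)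
    have h2 := conj_mem_of_mem_normalizer h1 (show (⟨a, hAD ha⟩ : D) ∈ A₁ from ha)
    exact h2
  obtain ⟨A₂, h2c, h2card, h2lt, h2N, -, h2exp, -⟩ :=
    Cfsg.Agent.S3078.result hp hDp A₁ B₁ hA₁c hB₁2 hB₁A hA₁B hB₁n
  have hexpA₁ : Monoid.exponent A₁ ∣ e := by
    apply Monoid.exponent_dvd_of_forall_pow_eq_one
    rintro ⟨a, ha⟩
    apply Subtype.ext
    apply Subtype.ext
    exact hA.2.1.2 _ ha
  have hpow2 : ∀ u ∈ A₂, (u : G) ^ e = 1 := by
    intro u hu
    obtain ⟨k, hk⟩ := h2exp.trans hexpA₁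
    have h3 : (⟨u, hu⟩ : A₂) ^ e = 1 := by rw [hk, pow_mul, Monoid.pow_exponent_eq_one, one_pow]
    have h4 := congrArg (fun t : A₂ => ((t : D) : G)) h3
    simpa using h4
  have hcardA : Nat.card A₁ = Nat.card A := by
    conv_rhs => rw [← hmA]
    exact (Subgroup.card_map_of_injective hinj).symm
  have hcardA' : Nat.card (A₂.map f : Subgroup G) = Nat.card A := by
    rw [Subgroup.card_map_of_injective hinj, h2card, hcardA]
  have hEA' : EA e (A₂.map f) := by
    constructor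
    · rintro _ ⟨u, hu, rfl⟩ _ ⟨v, hv, rfl⟩
      exact congrArg (fun t : A₂ => ((t : D) : G)) (h2c.is_comm.comm ⟨u, hu⟩ ⟨v, hv⟩)
    · rintro _ ⟨u, hu, rfl⟩
      exact hpow2 u hu
  refine ⟨A₂.map f, ⟨Subgroup.map_subtype_le _, hEA', fun C hC hCe => ?_⟩, ?_, ?_⟩
  · rw [hcardA']
    exact hA.2.2 C hC hCe
  · have e1 : (A₁ ⊓ B₁).map f = A ⊓ B := by
      rw [Subgroup.map_inf _ _ _ hinj, hmA, hmB]
    have e2 : (A₂ ⊓ B₁).map f = A₂.map f ⊓ B := by
      rw [Subgroup.map_inf _ _ _ hinj, hmB]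
    rw [← e1, ← e2, Subgroup.card_map_of_injective hinj, Subgroup.card_map_of_injective hinj]
    by_contra hcon
    have := Subgroup.eq_of_le_of_card_ge h2lt.le (not_lt.mp hcon)
    exact h2lt.ne this
  · rintro _ ⟨u, hu, rfl⟩
    apply mem_normalizer_of_forall_conj_mem
    intro a ha
    have h2 := conj_mem_of_mem_normalizer (h2N hu) (show (⟨a, hAD ha⟩ : D) ∈ A₁ from ha)
    exact h2

/-- A member of `AA e D` normalized by `X`. -/
theorem exists_normalizing_AA (hp : p ≠ 2) {e : ℕ} {D X : Subgroup G} (hDp : IsPGroup p D)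
    (hXD : X ≤ D) (hXn : X.Normal) (h2 : ⁅⁅X, X⁆, X⁆ = ⊥) (hXA : ∀ A ∈ AA e D, ⁅X, X⁆ ≤ A) :
    ∃ A ∈ AA e D, X ≤ normalizer (A : Set G) := by
  classical
  obtain ⟨A₀, hA₀⟩ := exists_mem_AA e D
  obtain ⟨A, hA, hmax⟩ := Set.exists_max_image (AA e D)
    (fun A => Nat.card (A ⊓ X : Subgroup G)) (Set.toFinite _) ⟨A₀, hA₀⟩
  refine ⟨A, hA, ?_⟩
  by_contra hnot
  have hAX : A ≤ normalizer (X : Set G) := by
    rw [normalizer_eq_top_iff.mpr hXn]; exact le_top
  obtain ⟨A', hA', hlt, -⟩ := replacement_AA hp hDp hA hXD h2 (hXA A hA) hAX hnot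
  exact absurd (hmax A' hA') (not_le.mpr hlt)

theorem sylow_le_normalizer {P : Sylow p G} {D : Subgroup G} (hD : IsStronglyClosed D (P : Subgroup G)) :
    (P : Subgroup G) ≤ normalizer (D : Set G) := by
  intro x hx
  apply mem_normalizer_of_forall_conj_mem
  intro d hd
  exact hD.2 d hd x (P.mul_mem (P.mul_mem hx (hD.1 hd)) (P.inv_mem hx))

/-- `Z ≤ O_p(G)`. -/
theorem Zee_le_pCore {e : ℕ} {P : Sylow p G} {D : Subgroup G} (hD : IsStronglyClosed D (P : Subgroup G))
    (hst : IsNormalizerPStable p G) (hc : centralizer (pCore p G : Set G) ≤ pCore p G) :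
    Zee e D ≤ pCore p G := by
  set Q := pCore p G with hQdef
  haveI hQn : Q.Normal := Cfsg.Agent.Lib.Core.pCore_normal p G
  have hQp : IsPGroup p Q := Cfsg.Agent.Lib.Core.pCore_isPGroup p G
  have hQP : Q ≤ P := Cfsg.Agent.Lib.Core.pCore_le_sylow P
  intro z hz
  have hzZ : zpowers z ≤ Zee e D := (zpowers_le).mpr hz
  have h1 : ⁅Q, zpowers z⁆ ≤ Zee e D := by
    rw [Subgroup.commutator_le]
    intro q hq y hy
    show q * y * q⁻¹ * y⁻¹ ∈ Zee e D
    exact mul_mem (conj_mem_Zee (sylow_le_normalizer hD (hQP hq)) (hzZ hy)) (inv_mem (hzZ hy))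
  have hquad : ⁅⁅Q, zpowers z⁆, zpowers z⁆ = ⊥ := by
    rw [eq_bot_iff, Subgroup.commutator_le]
    intro u hu v hv
    rw [Subgroup.mem_bot, commutatorElement_eq_one_iff_mul_comm]
    exact Zee_comm (h1 hu) (hzZ hv)
  have hmem := isPStableOn_of_normalizer hst Q hQp z hquad
  have hLn : (Lx p Q).Normal := Lx_normal Q
  have hLp : IsPGroup p (Lx p Q) := by
    apply IsPGroup.comap_of_ker_isPGroup (Cfsg.Agent.Lib.Core.pCore_isPGroup p _)
    rw [QuotientGroup.ker_mk']
    exact hQp.to_le hc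
  exact Cfsg.Agent.Lib.Core.le_pCore hLn hLp hmem

/-- The normal closure of `Z` lies in `D` and in `O_p(G)`. -/
theorem normalClosure_Zee_le {e : ℕ} {P : Sylow p G} {D : Subgroup G}
    (hD : IsStronglyClosed D (P : Subgroup G))
    (hst : IsNormalizerPStable p G) (hc : centralizer (pCore p G : Set G) ≤ pCore p G) :
    normalClosure (Zee e D : Set G) ≤ D ⊓ pCore p G := by
  have hQ := Zee_le_pCore (e := e) hD hst hc
  have hQP : pCore p G ≤ P := Cfsg.Agent.Lib.Core.pCore_le_sylow P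
  haveI hQn : (pCore p G).Normal := Cfsg.Agent.Lib.Core.pCore_normal p G
  apply le_inf _ (normalClosure_le_normal hQ)
  apply (closure_le _).mpr
  rintro x hx
  obtain ⟨z, hz, hconj⟩ := Group.mem_conjugatesOfSet_iff.mp hx
  obtain ⟨g, rfl⟩ := isConj_iff.mp hconj
  exact hD.2 z (Zee_le e D hz) g (hQP (hQn.conj_mem z (hQ hz) g))

theorem le_of_EA_commute {e : ℕ} {D A X : Subgroup G} (hA : A ∈ AA e D) (hXD : X ≤ D) (hX : EA e X)
    (hc : ∀ a ∈ A, ∀ x ∈ X, a * x = x * a) : X ≤ A := by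
  have h1 : EA e (A ⊔ X) := EA.sup hA.2.1 hX hc
  have h2 := hA.2.2 _ (sup_le hA.1 hXD) h1
  have h3 := Subgroup.eq_of_le_of_card_ge (le_sup_left : A ≤ A ⊔ X) h2
  rw [h3]
  exact le_sup_right

omit [Finite G] in
theorem AA_subset_of_le {e : ℕ} {D T A₀ A : Subgroup G} (hTD : T ≤ D) (hA₀ : A₀ ∈ AA e D) (hA₀T : A₀ ≤ T)
    (hA : A ∈ AA e T) : A ∈ AA e D :=
  ⟨hA.1.trans hTD, hA.2.1, fun B hB hBe => (hA₀.2.2 B hB hBe).trans (hA.2.2 A₀ hA₀T hA₀.2.1)⟩

omit [Finite G] in
theorem mem_AA_of_le {e : ℕ} {D T A : Subgroup G} (hTD : T ≤ D) (hA : A ∈ AA e D) (hAT : A ≤ T) :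
    A ∈ AA e T :=
  ⟨hAT, hA.2.1, fun B hB hBe => hA.2.2 B (hB.trans hTD) hBe⟩

theorem Zee_le_Zee {e : ℕ} {D T A₀ : Subgroup G} (hTD : T ≤ D) (hA₀ : A₀ ∈ AA e D) (hA₀T : A₀ ≤ T) :
    Zee e D ≤ Zee e T := by
  intro z hz
  apply mem_Zee_of_forall
  intro A hA
  exact Zee_le_of_mem_AA (AA_subset_of_le hTD hA₀ hA₀T hA) hz

omit [Finite G] in
theorem normalizer_le_normalizer_JJ {e : ℕ} {T : Subgroup G} {g : G} (hg : g ∈ normalizer (T : Set G)) :
    g ∈ normalizer (JJ e T : Set G) := by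
  rw [mem_normalizer_iff_conjS, JJ_conj, mem_normalizer_iff_conjS.mp hg]

/-- Strong closure: the normalizer of `P ∩ H` normalizes `D ∩ H`. -/
theorem normalizer_inf_le {P : Sylow p G} {D H : Subgroup G} [hH : H.Normal]
    (hD : IsStronglyClosed D (P : Subgroup G)) {n : G}
    (hn : n ∈ normalizer (((P : Subgroup G) ⊓ H : Subgroup G) : Set G)) :
    n ∈ normalizer ((D ⊓ H : Subgroup G) : Set G) := by
  apply mem_normalizer_of_forall_conj_mem
  rintro d ⟨hd1, hd2⟩
  have h1 : n * d * n⁻¹ ∈ (P : Subgroup G) ⊓ H := conj_mem_of_mem_normalizer hn ⟨hD.1 hd1, hd2⟩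
  exact ⟨hD.2 d hd1 n h1.1, h1.2⟩

/-- **Step 2**: if the normal closure of `Z` is abelian, `Z` is normal. -/
theorem Zee_normal_of_abelian (hp : p ≠ 2) {e : ℕ} {P : Sylow p G} {D : Subgroup G}
    (hD : IsStronglyClosed D (P : Subgroup G))
    (hst : IsNormalizerPStable p G) (hc : centralizer (pCore p G : Set G) ≤ pCore p G)
    (hV : ∀ a ∈ normalClosure (Zee e D : Set G), ∀ b ∈ normalClosure (Zee e D : Set G), a * b = b * a) :
    (Zee e D).Normal := by
  classical
  set Z := Zee e D with hZ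
  set V := normalClosure (Z : Set G) with hVdef
  haveI hVn : V.Normal := normalClosure_normal
  have hVle : V ≤ D ⊓ pCore p G := normalClosure_Zee_le hD hst hc
  have hVD : V ≤ D := hVle.trans inf_le_left
  have hDp : IsPGroup p D := P.isPGroup'.to_le hD.1
  have hVp : IsPGroup p V := hDp.to_le hVD
  have hZV : Z ≤ V := subset_normalClosure
  have hVe : EA e V := by
    refine ⟨hV, ?_⟩
    intro v hv
    induction hv using closure_induction with
    | mem y hy =>
      obtain ⟨z, hz, hconj⟩ := Group.mem_conjugatesOfSet_iff.mp hy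
      obtain ⟨g, rfl⟩ := isConj_iff.mp hconj
      rw [conj_pow, (mem_Zee.mp hz).2.2]; simp
    | one => exact one_pow _
    | mul a b ha hb iha ihb =>
      have h1 : Commute a b := hV a ha b hb
      rw [h1.mul_pow, iha, ihb, one_mul]
    | inv a _ iha => rw [inv_pow, iha, inv_one]
  set C := centralizer (V : Set G) with hC
  have hcl : ∀ A ∈ AA e D, A ≤ C := by
    by_contra hcon
    push_neg at hcon
    obtain ⟨A₀, hA₀, hA₀n⟩ := hcon
    obtain ⟨A, ⟨hA, hAn⟩, hmax⟩ := Set.exists_max_image {A | A ∈ AA e D ∧ ¬ A ≤ C}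
      (fun A => Nat.card (A ⊓ V : Subgroup G)) (Set.toFinite _) ⟨A₀, hA₀, hA₀n⟩
    have hVc : ⁅V, V⁆ = ⊥ := by
      rw [eq_bot_iff, Subgroup.commutator_le]
      intro u hu v hv
      rw [Subgroup.mem_bot, commutatorElement_eq_one_iff_mul_comm]
      exact hV u hu v hv
    have hVN : V ≤ normalizer (A : Set G) := by
      by_contra hnot
      have hAV : A ≤ normalizer (V : Set G) := by
        rw [normalizer_eq_top_iff.mpr hVn]; exact le_top
      have h2 : ⁅⁅V, V⁆, V⁆ = ⊥ := by rw [hVc, Subgroup.commutator_bot_left]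
      obtain ⟨A', hA', hlt, hA'N⟩ := replacement_AA hp hDp hA hVD h2 (by rw [hVc]; exact bot_le) hAV hnot
      have hA'C : A' ≤ C := by
        by_contra hh
        exact absurd (hmax A' ⟨hA', hh⟩) (not_le.mpr hlt)
      have hVA' : V ≤ A' := le_of_EA_commute hA' hVD hVe (fun a ha x hx =>
        (mem_centralizer_iff.mp (hA'C ha) x hx).symm)
      exact hnot (hVA'.trans hA'N)
    have hAL : A ≤ Lx p V := le_Lx_of_le_normalizer hst V hVp hA.2.1.1 hVN
    set L := Lx p V with hL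
    haveI hLn : L.Normal := Lx_normal V
    set T := D ⊓ L with hT
    have hAT : A ≤ T := le_inf hA.1 hAL
    have hAT' : A ∈ AA e T := mem_AA_of_le inf_le_left hA hAT
    have hfac : ∀ g : G, ∃ c ∈ C, ∃ n ∈ normalizer (JJ e T : Set G), g = c * n := by
      intro g
      obtain ⟨l, hl, n, hn, rfl⟩ := exists_frattini P L g
      obtain ⟨c, hc', y, hy, rfl⟩ := exists_mul_of_mem_Lx P V hl
      have hyL : y ∈ L := by
        have h1 := L.mul_mem (L.inv_mem (centralizer_le_Lx V hc')) hl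
        simpa using h1
      have hyn : y ∈ normalizer (((P : Subgroup G) ⊓ L : Subgroup G) : Set G) :=
        Subgroup.le_normalizer ⟨hy, hyL⟩
      refine ⟨c, hc', y * n, ?_, by group⟩
      exact normalizer_le_normalizer_JJ (normalizer_inf_le hD (mul_mem hyn hn))
    have hCJ : JJ e T ≤ C := by
      intro y hy
      have hyJ : y ∈ JJ e D := sSup_le (fun B hB => le_JJ (AA_subset_of_le inf_le_left hA hAT hB)) hy
      have hVy : V ≤ centralizer ({y} : Set G) := by
        apply (closure_le _).mpr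
        rintro x hx
        obtain ⟨z, hz, hconj⟩ := Group.mem_conjugatesOfSet_iff.mp hx
        obtain ⟨g, rfl⟩ := isConj_iff.mp hconj
        obtain ⟨c, hc', n, hn, rfl⟩ := hfac g
        have hnz : n * z * n⁻¹ ∈ V := hVn.conj_mem z (hZV hz) n
        have e1 : c * n * z * (c * n)⁻¹ = n * z * n⁻¹ := by
          have h1 : c * (n * z * n⁻¹) = (n * z * n⁻¹) * c :=
            (mem_centralizer_iff.mp hc' _ hnz).symm
          calc c * n * z * (c * n)⁻¹ = c * (n * z * n⁻¹) * c⁻¹ := by group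
            _ = _ := by rw [h1]; group
        rw [SetLike.mem_coe, mem_centralizer_singleton_iff, e1]
        have hy' : n⁻¹ * y * n ∈ JJ e T := inv_conj_mem_of_mem_normalizer hn hy
        have hy'D : n⁻¹ * y * n ∈ JJ e D :=
          sSup_le (fun B hB => le_JJ (AA_subset_of_le inf_le_left hA hAT hB)) hy'
        have h2 := (mem_Zee.mp hz).2.1 _ hy'D
        calc n * z * n⁻¹ * y = n * (z * (n⁻¹ * y * n)) * n⁻¹ := by group
          _ = n * ((n⁻¹ * y * n) * z) * n⁻¹ := by rw [h2]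
          _ = _ := by group
      refine mem_centralizer_iff.mpr (fun v hv => ?_)
      exact (mem_centralizer_singleton_iff.mp (hVy hv))
    exact hAn ((le_JJ hAT').trans hCJ)
  have hVZ : V ≤ Z := by
    intro v hv
    apply mem_Zee_of_forall
    intro A hA
    exact le_of_EA_commute hA hVD hVe (fun a ha x hx =>
      (mem_centralizer_iff.mp (hcl A hA ha) x hx).symm) hv
  have hZVeq : Z = V := le_antisymm hZV hVZ
  rw [hZVeq]
  exact hVn

omit [Finite G] in
/-- Transport of `Zee` to a subgroup. -/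
theorem mem_Zee_subgroupOf {e : ℕ} {D H : Subgroup G} {x : H} :
    x ∈ Zee e (D.subgroupOf H) ↔ (x : G) ∈ Zee e (D ⊓ H) := by
  have hf : Set.InjOn H.subtype ((D.subgroupOf H : Subgroup H) : Set H) :=
    H.subtype_injective.injOn
  have hJ : JJ e (D ⊓ H) = (JJ e (D.subgroupOf H)).map H.subtype := by
    rw [← JJ_map H.subtype hf, subgroupOf_map_subtype]
  rw [mem_Zee, mem_Zee, hJ]
  constructor
  · rintro ⟨h1, h2, h3⟩
    refine ⟨⟨x, h1, rfl⟩, ?_, by simpa using congrArg Subtype.val h3⟩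
    rintro _ ⟨y, hy, rfl⟩
    exact congrArg Subtype.val (h2 y hy)
  · rintro ⟨⟨x', h1, h1'⟩, h2, h3⟩
    have hx : x' = x := Subtype.ext h1'
    subst hx
    refine ⟨h1, ?_, Subtype.ext (by simpa using h3)⟩
    intro y hy
    exact Subtype.ext (h2 _ ⟨y, hy, rfl⟩)

/-- **Step 1**. -/
theorem abelian_of_proper_normal {e : ℕ} {P : Sylow p G} {D H A₀ : Subgroup G} [hH : H.Normal]
    (hD : IsStronglyClosed D (P : Subgroup G)) (IH : (Zee e (D.subgroupOf H)).Normal)
    (hA₀ : A₀ ∈ AA e D) (hA₀H : A₀ ≤ H) :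
    ∀ a ∈ normalClosure (Zee e D : Set G), ∀ b ∈ normalClosure (Zee e D : Set G), a * b = b * a := by
  set T := D ⊓ H with hT
  have hXH : Zee e T ≤ H := (Zee_le e T).trans inf_le_right
  haveI hXn : (Zee e T).Normal := by
    constructor
    intro x hx g
    obtain ⟨h, hh, n, hn, rfl⟩ := exists_frattini P H g
    have h1 : n * x * n⁻¹ ∈ Zee e T := conj_mem_Zee (normalizer_inf_le hD hn) hx
    have h2 : (⟨n * x * n⁻¹, hXH h1⟩ : H) ∈ Zee e (D.subgroupOf H) := mem_Zee_subgroupOf.mpr h1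
    have h3 := IH.conj_mem _ h2 ⟨h, hh⟩
    have h4 := mem_Zee_subgroupOf.mp h3
    have e1 : h * n * x * (h * n)⁻¹ = h * (n * x * n⁻¹) * h⁻¹ := by group
    rw [e1]
    exact h4
  have hle : normalClosure (Zee e D : Set G) ≤ Zee e T :=
    normalClosure_le_normal (Zee_le_Zee inf_le_left hA₀ (le_inf hA₀.1 hA₀H))
  intro a ha b hb
  exact Zee_comm (hle ha) (hle hb)

/-- The dichotomy: if no proper normal subgroup contains `A`, then `A` covers `G/C(X)`. -/
theorem exists_mul_of_le_Lx {A : Subgroup G} (hno : ∀ H : Subgroup G, H.Normal → H ≠ ⊤ → ¬ A ≤ H)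
    (X : Subgroup G) [X.Normal] (hAL : A ≤ Lx p X) (g : G) :
    ∃ c ∈ centralizer (X : Set G), ∃ a ∈ A, g = c * a := by
  have hLtop : Lx p X = ⊤ := by
    by_contra h
    exact hno _ (Lx_normal X) h hAL
  set C := centralizer (X : Set G) with hC
  let π : G →* G ⧸ C := QuotientGroup.mk' C
  have hπ : Function.Surjective π := QuotientGroup.mk'_surjective C
  have hall : ∀ q : G ⧸ C, q ∈ pCore p (G ⧸ C) := by
    intro q
    obtain ⟨g, rfl⟩ := hπ q
    have : g ∈ Lx p X := by rw [hLtop]; trivial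
    exact this
  have hpg : IsPGroup p (G ⧸ C) := by
    intro q
    obtain ⟨k, hk⟩ := Cfsg.Agent.Lib.Core.pCore_isPGroup p (G ⧸ C) ⟨q, hall q⟩
    exact ⟨k, congrArg Subtype.val hk⟩
  have hAtop : A.map π = ⊤ := by
    by_contra hne
    obtain ⟨M, hM, hAM⟩ := (eq_top_or_exists_le_coatom (A.map π)).resolve_left hne
    haveI : Group.IsNilpotent (G ⧸ C) := hpg.isNilpotent
    have hMn : M.Normal := NormalizerCondition.normal_of_coatom M
      (Group.normalizerCondition_of_isNilpotent) hM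
    refine hno (M.comap π) (hMn.comap π) ?_ (Subgroup.map_le_iff_le_comap.mp hAM)
    intro htop
    apply hM.1
    rw [eq_top_iff]
    intro q _
    obtain ⟨g, rfl⟩ := hπ q
    have : g ∈ M.comap π := by rw [htop]; trivial
    exact this
  have h1 : π g ∈ A.map π := by rw [hAtop]; trivial
  obtain ⟨a, ha, hag⟩ := h1
  refine ⟨g * a⁻¹, ?_, a, ha, by simp⟩
  apply (QuotientGroup.eq_one_iff _).mp
  show π (g * a⁻¹) = 1
  rw [map_mul, map_inv, ← hag]
  simp

/-- **Step 3**: if no proper normal subgroup contains a member of `AA e D`, the closure is abelian. -/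
theorem abelian_of_no_normal (hp : p ≠ 2) {e : ℕ} {P : Sylow p G} {D : Subgroup G}
    (hD : IsStronglyClosed D (P : Subgroup G))
    (hst : IsNormalizerPStable p G) (hc : centralizer (pCore p G : Set G) ≤ pCore p G)
    (hno : ∀ A ∈ AA e D, ∀ H : Subgroup G, H.Normal → H ≠ ⊤ → ¬ A ≤ H) :
    ∀ a ∈ normalClosure (Zee e D : Set G), ∀ b ∈ normalClosure (Zee e D : Set G), a * b = b * a := by
  classical
  set Z := Zee e D with hZ
  set V := normalClosure (Z : Set G) with hVdef
  haveI hVn : V.Normal := normalClosure_normal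
  have hVle : V ≤ D ⊓ pCore p G := normalClosure_Zee_le hD hst hc
  have hVD : V ≤ D := hVle.trans inf_le_left
  have hDp : IsPGroup p D := P.isPGroup'.to_le hD.1
  have hVp : IsPGroup p V := hDp.to_le hVD
  have hZV : Z ≤ V := subset_normalClosure
  have hPN := sylow_le_normalizer hD
  have hVnZ : ∀ v ∈ V, ∀ z ∈ Z, v * z * v⁻¹ ∈ Z := fun v hv z hz =>
    conj_mem_Zee (hPN (hD.1 (hVD hv))) hz
  set Cv := centralizer (V : Set G) with hCv
  haveI hCvn : Cv.Normal := inferInstance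
  -- the second centre
  let B : Subgroup G :=
    { carrier := {x | x ∈ V ∧ ∀ v ∈ V, ⁅x, v⁆ ∈ Cv}
      mul_mem' := by
        rintro x y ⟨hx, hx'⟩ ⟨hy, hy'⟩
        refine ⟨V.mul_mem hx hy, fun v hv => ?_⟩
        have e1 : ⁅x * y, v⁆ = x * ⁅y, v⁆ * x⁻¹ * ⁅x, v⁆ := by
          simp only [commutatorElement_def]; group
        rw [e1]
        exact Cv.mul_mem (hCvn.conj_mem _ (hy' v hv) x) (hx' v hv)
      one_mem' := ⟨V.one_mem, fun v _ => by simp [commutatorElement_def, Cv.one_mem]⟩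
      inv_mem' := by
        rintro x ⟨hx, hx'⟩
        refine ⟨V.inv_mem hx, fun v hv => ?_⟩
        have e1 : ⁅x⁻¹, v⁆ = x⁻¹ * (⁅x, v⁆)⁻¹ * x := by
          simp only [commutatorElement_def]; group
        rw [e1]
        have := hCvn.conj_mem _ (Cv.inv_mem (hx' v hv)) x⁻¹
        simpa using this }
  have hBmem : ∀ {x}, x ∈ B ↔ x ∈ V ∧ ∀ v ∈ V, ⁅x, v⁆ ∈ Cv := Iff.rfl
  have hBV : B ≤ V := fun x hx => hx.1
  haveI hBn : B.Normal := by
    constructor
    rintro x ⟨hx, hx'⟩ g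
    refine ⟨hVn.conj_mem x hx g, fun v hv => ?_⟩
    have e1 : ⁅g * x * g⁻¹, v⁆ = g * ⁅x, g⁻¹ * v * g⁆ * g⁻¹ := by
      simp only [commutatorElement_def]; group
    rw [e1]
    refine hCvn.conj_mem _ (hx' _ ?_) g
    have := hVn.conj_mem v hv g⁻¹
    simpa using this
  have hBD : B ≤ D := hBV.trans hVD
  have hBp : IsPGroup p B := hVp.to_le hBV
  set Y := ⁅B, V⁆ with hY
  haveI hYn : Y.Normal := Subgroup.commutator_normal _ _
  have hYC : Y ≤ Cv := by
    rw [hY, Subgroup.commutator_le]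
    intro x hx v hv
    exact hx.2 v hv
  have hYV : Y ≤ V := by
    rw [hY, Subgroup.commutator_le]
    intro x hx v hv
    show x * v * x⁻¹ * v⁻¹ ∈ V
    exact V.mul_mem (hVn.conj_mem v hv x) (V.inv_mem hv)
  have hYab : ∀ y ∈ Y, ∀ y' ∈ Y, y * y' = y' * y := fun y hy y' hy' =>
    mem_centralizer_iff.mp (hYC hy') y (hYV hy)
  have hYD : Y ≤ D := hYV.trans hVD
  have hYp : IsPGroup p Y := hVp.to_le hYV
  have hYc : ⁅Y, Y⁆ = ⊥ := by
    rw [eq_bot_iff, Subgroup.commutator_le]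
    intro u hu v hv
    rw [Subgroup.mem_bot, commutatorElement_eq_one_iff_mul_comm]
    exact hYab u hu v hv
  -- Step 3a
  obtain ⟨A₁, hA₁, hYA₁⟩ := exists_normalizing_AA hp hDp hYD hYn
    (by rw [hYc, Subgroup.commutator_bot_left]) (fun A _ => by rw [hYc]; exact bot_le)
  have hA₁L : A₁ ≤ Lx p Y := le_Lx_of_le_normalizer hst Y hYp hA₁.2.1.1 hYA₁
  have hfac1 := exists_mul_of_le_Lx (hno A₁ hA₁) Y hA₁L
  have hZA₁ : Z ≤ A₁ := Zee_le_of_mem_AA hA₁
  have hYZ : Y ≤ Z := by
    rw [hY, Subgroup.commutator_le]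
    intro x hx v hv
    revert x
    induction hv using closure_induction with
    | mem v hv =>
      intro x hx
      obtain ⟨z, hz, hconj⟩ := Group.mem_conjugatesOfSet_iff.mp hv
      obtain ⟨g, rfl⟩ := isConj_iff.mp hconj
      obtain ⟨c, hc', a, ha, rfl⟩ := hfac1 g
      set g := c * a with hg
      have hx1 : g⁻¹ * x * g ∈ B := by
        have := hBn.conj_mem x hx g⁻¹
        simpa using this
      set w := ⁅g⁻¹ * x * g, z⁆ with hw
      have hwZ : w ∈ Z := by
        show (g⁻¹ * x * g) * z * (g⁻¹ * x * g)⁻¹ * z⁻¹ ∈ Z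
        exact mul_mem (hVnZ _ (hBV hx1) z hz) (inv_mem hz)
      have hwY : w ∈ Y := Subgroup.commutator_mem_commutator hx1 (hZV hz)
      have e1 : ⁅x, g * z * g⁻¹⁆ = g * w * g⁻¹ := by
        simp only [hw, commutatorElement_def]; group
      rw [e1]
      have e2 : a * w * a⁻¹ = w := by
        rw [hA₁.2.1.1 a ha w (hZA₁ hwZ)]; group
      have e3 : c * w * c⁻¹ = w := by
        rw [← (mem_centralizer_iff.mp hc' w hwY)]; group
      have e4 : g * w * g⁻¹ = c * (a * w * a⁻¹) * c⁻¹ := by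
        rw [hg]; group
      rw [e4, e2, e3]
      exact hwZ
    | one =>
      intro x _
      simp [commutatorElement_def, one_mem]
    | mul u v hu hv ihu ihv =>
      intro x hx
      rw [commutator_comm_identity]
      exact mul_mem (ihu x hx) (hVnZ u hu _ (ihv x hx))
    | inv u hu ihu =>
      intro x hx
      have e1 : ⁅x, u⁻¹⁆ = u⁻¹ * (⁅x, u⁆)⁻¹ * u := by
        simp only [commutatorElement_def]; group
      rw [e1]
      have := hVnZ _ (V.inv_mem hu) _ (inv_mem (ihu x hx))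
      simpa using this
  -- Step 3b
  have hB'Y : ⁅B, B⁆ ≤ Y := Subgroup.commutator_mono le_rfl hBV
  have hB2 : ⁅⁅B, B⁆, B⁆ = ⊥ := by
    rw [eq_bot_iff, Subgroup.commutator_le]
    intro u hu w hw
    rw [Subgroup.mem_bot, commutatorElement_eq_one_iff_mul_comm]
    exact (mem_centralizer_iff.mp (hYC (hB'Y hu)) w (hBV hw)).symm
  obtain ⟨A₂, hA₂, hBA₂⟩ := exists_normalizing_AA hp hDp hBD hBn hB2
    (fun A hA => hB'Y.trans (hYZ.trans (Zee_le_of_mem_AA hA)))
  have hA₂L : A₂ ≤ Lx p B := le_Lx_of_le_normalizer hst B hBp hA₂.2.1.1 hBA₂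
  have hfac2 := exists_mul_of_le_Lx (hno A₂ hA₂) B hA₂L
  have hZA₂ : Z ≤ A₂ := Zee_le_of_mem_AA hA₂
  -- Step 3c
  have hZB : ∀ w ∈ Z, w ∈ B → ∀ v ∈ V, w * v = v * w := by
    intro w hwZ hwB v hv
    have hle : V ≤ centralizer ({w} : Set G) := by
      apply (closure_le _).mpr
      rintro x hx
      obtain ⟨z, hz, hconj⟩ := Group.mem_conjugatesOfSet_iff.mp hx
      obtain ⟨g, rfl⟩ := isConj_iff.mp hconj
      obtain ⟨c, hc', a, ha, rfl⟩ := hfac2 g
      rw [SetLike.mem_coe, mem_centralizer_singleton_iff]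
      have e1 : c * a * z * (c * a)⁻¹ = c * z * c⁻¹ := by
        have h1 : a * z = z * a := hA₂.2.1.1 a ha z (hZA₂ hz)
        calc c * a * z * (c * a)⁻¹ = c * (a * z) * a⁻¹ * c⁻¹ := by group
          _ = c * (z * a) * a⁻¹ * c⁻¹ := by rw [h1]
          _ = _ := by group
      rw [e1]
      have h2 : w * c = c * w := mem_centralizer_iff.mp hc' w hwB
      have h3 : w * c⁻¹ = c⁻¹ * w := by
        calc w * c⁻¹ = c⁻¹ * (c * w) * c⁻¹ := by group
          _ = c⁻¹ * (w * c) * c⁻¹ := by rw [h2]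
          _ = _ := by group
      have h4 : w * z = z * w := Zee_comm hwZ hz
      calc c * z * c⁻¹ * w = c * z * (c⁻¹ * w) := by group
        _ = c * z * (w * c⁻¹) := by rw [h3]
        _ = c * (z * w) * c⁻¹ := by group
        _ = c * (w * z) * c⁻¹ := by rw [h4]
        _ = (c * w) * z * c⁻¹ := by group
        _ = (w * c) * z * c⁻¹ := by rw [h2]
        _ = _ := by group
    exact (mem_centralizer_singleton_iff.mp (hle hv)).symm
  -- Step 3d
  let T : ℕ → Subgroup G := Cfsg.Agent.S3062.itr Z V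
  have hTZ : ∀ n, T n ≤ Z := Cfsg.Agent.S3062.itr_le_self (fun v hv =>
    mem_normalizer_of_forall_conj_mem (fun z hz => hVnZ v hv z hz))
  have hTstep : ∀ n, T (n + 1) = ⁅T n, V⁆ := fun _ => rfl
  have hQ : Group.IsNilpotent (pCore p G) := (Cfsg.Agent.Lib.Core.pCore_isPGroup p G).isNilpotent
  obtain ⟨N, hN⟩ := Subgroup.nilpotent_iff_lowerCentralSeries.mp hQ
  have hVQ : V ≤ pCore p G := hVle.trans inf_le_right
  have hZQ : Z ≤ pCore p G := hZV.trans hVQ
  have hTlcs : ∀ n, T n ≤ ((⊤ : Subgroup (pCore p G)).lowerCentralSeries n).map (pCore p G).subtype := by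
    intro n
    induction n with
    | zero =>
      intro z hz
      exact ⟨⟨z, hZQ hz⟩, Subgroup.mem_top _, rfl⟩
    | succ n ih =>
      rw [hTstep, Subgroup.commutator_le]
      intro t ht v hv
      obtain ⟨t', ht', rfl⟩ := ih ht
      refine ⟨⁅t', ⟨v, hVQ hv⟩⁆, ?_, rfl⟩
      exact Subgroup.commutator_mem_commutator ht' (Subgroup.mem_top _)
  have hTN : T N = ⊥ := by
    apply le_bot_iff.mp
    have := hTlcs N
    rwa [hN, Subgroup.map_bot] at this
  have hstep : ∀ n, T (n + 2) = ⊥ → T (n + 1) = ⊥ := by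
    intro n hn
    rw [eq_bot_iff, hTstep, Subgroup.commutator_le]
    intro t ht v hv
    rw [Subgroup.mem_bot, commutatorElement_eq_one_iff_mul_comm]
    have htB : t ∈ B := by
      refine ⟨hZV (hTZ n ht), fun v' hv' => ?_⟩
      refine mem_centralizer_iff.mpr (fun u hu => ?_)
      have h1 : ⁅⁅t, v'⁆, u⁆ ∈ T (n + 2) :=
        Subgroup.commutator_mem_commutator (Subgroup.commutator_mem_commutator ht hv') hu
      rw [hn, Subgroup.mem_bot] at h1
      exact (commutatorElement_eq_one_iff_mul_comm.mp h1).symm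
    exact hZB t (hTZ n ht) htB v hv
  have hall : ∀ n, T (n + 1) = ⊥ → T 1 = ⊥ := by
    intro n
    induction n with
    | zero => exact id
    | succ n ih => exact fun h => ih (hstep n h)
  have hbot : T (N + 1) = ⊥ := by
    rw [hTstep, hTN, Subgroup.commutator_bot_left]
  have hT1 := hall N hbot
  have hZC : Z ≤ Cv := by
    intro z hz
    refine mem_centralizer_iff.mpr (fun v hv => ?_)
    have h1 : ⁅z, v⁆ ∈ T 1 := Subgroup.commutator_mem_commutator hz hv
    rw [hT1, Subgroup.mem_bot] at h1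
    exact (commutatorElement_eq_one_iff_mul_comm.mp h1).symm
  have hVC : V ≤ Cv := normalClosure_le_normal hZC
  intro a ha b hb
  exact mem_centralizer_iff.mp (hVC hb) a ha

end Finite

universe u

/-- **Glauberman's ZJ-theorem for strongly closed subgroups**, uniformly. -/
theorem Zee_normal {p : ℕ} [Fact p.Prime] (hp : p ≠ 2) (e : ℕ) :
    ∀ (n : ℕ) (G : Type u) [Group G] [Finite G], Nat.card G = n →
      ∀ (P : Sylow p G) (D : Subgroup G), IsStronglyClosed D (P : Subgroup G) →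
        IsNormalizerPStable p G → centralizer (pCore p G : Set G) ≤ pCore p G → (Zee e D).Normal := by
  intro n
  induction n using Nat.strong_induction_on with
  | _ n ih =>
  intro G _ _ hn P D hD hst hc
  classical
  apply Zee_normal_of_abelian hp hD hst hc
  by_contra hnon
  apply hnon
  apply abelian_of_no_normal hp hD hst hc
  intro A hA H hHn hHtop hAH
  apply hnon
  haveI := hHn
  have hcard : Nat.card H < n := by
    rw [← hn]
    rcases (Subgroup.card_le_card_group H).lt_or_eq with h | h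
    · exact h
    · exact absurd (Subgroup.eq_top_of_card_eq H h) hHtop
  have hS := inf_normal_isSylowIn P H
  have IH : (Zee e (D.subgroupOf H)).Normal := by
    refine ih _ hcard H rfl hS.toSylow (D.subgroupOf H) ?_ (Cfsg.Agent.S3836.result hst H) ?_
    · refine ⟨?_, ?_⟩
      · intro x hx
        rw [IsSylowIn.coe_toSylow]
        exact ⟨hD.1 hx, x.2⟩
      · intro x hx g hg
        rw [IsSylowIn.coe_toSylow] at hg
        exact hD.2 x hx g hg.1
    · exact Cfsg.Agent.Lib.FF.charP_of_normalized hc H (by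
        rw [normalizer_eq_top_iff.mpr hHn]; exact le_top)
  exact abelian_of_proper_normal hD IH hA hAH

theorem Zee_card_eq {G : Type*} [Group G] [Finite G] (D : Subgroup G) :
    Zee (Nat.card G) D = centerThompsonAOf D := by
  unfold centerThompsonAOf
  rw [thompsonSubgroupAOf_eq_JJ]
  apply le_antisymm
  · intro z hz
    obtain ⟨h1, h2, -⟩ := mem_Zee.mp hz
    exact ⟨h1, mem_centralizer_iff.mpr h2⟩
  · rintro z ⟨h1, h2⟩
    exact mem_Zee.mpr ⟨h1, mem_centralizer_iff.mp h2, pow_card_eq_one'⟩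

theorem Zee_prime_eq {G : Type*} [Group G] (p : ℕ) (D : Subgroup G) :
    Zee p D = omegaOne p (centerThompsonOf p D) := by
  unfold centerThompsonOf Zee
  rw [thompsonSubgroupOf_eq_JJ]

end Cfsg.Agent.Lib.FF
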