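import Cfsg.Agent.Lib.FF.Isolated
import Cfsg.Agent.Lib.FF.Burnside
import Cfsg.Agent.Lib.FF.SubnormalSylow
import Cfsg.Agent.Lib.FF.Residual
import Cfsg.Agent.Lib.FStar.Hyperplane
import Cfsg.Prelude.Def_IsolatedElements
import Mathlib

/-!
# Minimal counterexamples to the `Z*_p` statement.  Owner: helper18.
-/

set_option autoImplicit false
set_option linter.unusedSectionVars false

namespace Cfsg.Agent.Lib.FF

open Subgroup Cfsg Cfsg.Agent.Lib.Subnormal Cfsg.Agent.Lib.Core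

section isolated

variable {G : Type*} [Group G] [Finite G] {p : ℕ} [hp : Fact p.Prime] {x : G}

/-- Conjugates of an isolated `p`-element inside a subgroup `N` containing it are conjugate in `N`. -/
theorem isolated_exists_conj_in (hx : ∃ k : ℕ, orderOf x = p ^ k) (hiso : IsIsolated x) {N : Subgroup G}
    (hxN : x ∈ N) {g : G} (hyN : g * x * g⁻¹ ∈ N) : ∃ n ∈ N, n * x * n⁻¹ = g * x * g⁻¹ := by
  have hzx : IsPGroup p (zpowers x) := isPGroup_zpowers_of_orderOf hx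
  have hzy : IsPGroup p (zpowers (g * x * g⁻¹)) := by
    apply isPGroup_zpowers_of_orderOf
    obtain ⟨k, hk⟩ := hx
    exact ⟨k, by rw [orderOf_conj', hk]⟩
  obtain ⟨R₁, hxR₁, hR₁⟩ := exists_isSylowIn_of_le hzx ((Subgroup.zpowers_le).mpr hxN)
  obtain ⟨R₂, hyR₂, hR₂⟩ := exists_isSylowIn_of_le hzy ((Subgroup.zpowers_le).mpr hyN)
  obtain ⟨l, hl, hlR⟩ := hR₁.exists_conj hR₂
  refine ⟨l, hl, ?_⟩
  have h1 : l * x * l⁻¹ ∈ R₂ := by
    rw [← hlR]
    exact conj_mem_conj (hxR₁ (Subgroup.mem_zpowers x))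
  have h2 : g * x * g⁻¹ ∈ R₂ := hyR₂ (Subgroup.mem_zpowers _)
  have hR' : IsPGroup p (R₂.map (MulAut.conj g⁻¹).toMonoidHom) := hR₂.isPGroup.map _
  have hxR' : x ∈ R₂.map (MulAut.conj g⁻¹).toMonoidHom := by
    rw [mem_conj_iff]
    simpa using h2
  have h3 : (g⁻¹ * l) * x * (g⁻¹ * l)⁻¹ ∈ R₂.map (MulAut.conj g⁻¹).toMonoidHom := by
    rw [mem_conj_iff]
    simpa [mul_assoc] using h1
  have h4 := isolated_conj_eq hiso hR' hxR' h3
  calc l * x * l⁻¹ = g * ((g⁻¹ * l) * x * (g⁻¹ * l)⁻¹) * g⁻¹ := by group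
    _ = g * x * g⁻¹ := by rw [h4]

/-- **Transitivity** of `C_G(x)` on the `x`-invariant Sylow subgroups. -/
theorem isolated_transitive (hx : ∃ k : ℕ, orderOf x = p ^ k) (hiso : IsIsolated x) {q : ℕ} [Fact q.Prime]
    (S₁ S₂ : Sylow q G) (h₁ : x ∈ normalizer ((S₁ : Subgroup G) : Set G))
    (h₂ : x ∈ normalizer ((S₂ : Subgroup G) : Set G)) :
    ∃ c ∈ centralizer ({x} : Set G), (S₁ : Subgroup G).map (MulAut.conj c).toMonoidHom = S₂ := by
  obtain ⟨g, hg⟩ := MulAction.exists_smul_eq G S₁ S₂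
  have hS₂ : (S₂ : Subgroup G) = (S₁ : Subgroup G).map (MulAut.conj g).toMonoidHom := by
    rw [← hg]; exact coe_smul_sylow g S₁
  have hy : g * x * g⁻¹ ∈ normalizer ((S₂ : Subgroup G) : Set G) := by
    rw [mem_normalizer_iff_conj] at h₁ ⊢
    rw [hS₂, conj_mul_conj]
    have e : g * x * g⁻¹ * g = g * x := by group
    rw [e, ← conj_mul_conj, h₁]
  obtain ⟨n, hn, hnx⟩ := isolated_exists_conj_in hx hiso h₂ hy
  refine ⟨n⁻¹ * g, ?_, ?_⟩
  · rw [Subgroup.mem_centralizer_singleton_iff]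
    calc n⁻¹ * g * x = n⁻¹ * (g * x * g⁻¹) * g := by group
      _ = n⁻¹ * (n * x * n⁻¹) * g := by rw [hnx]
      _ = x * (n⁻¹ * g) := by group
  · rw [← conj_mul_conj, ← hS₂]
    exact mem_normalizer_iff_conj.mp (Subgroup.inv_mem _ hn)

end isolated

section invariant

variable {N : Type*} [Group N] [Finite N] {p : ℕ} [hp : Fact p.Prime]

/-- If `x` is central modulo `O_{p'}(N)` and `q ≠ p` then `x` normalizes a Sylow `q`-subgroup. -/
theorem exists_invariant_sylow_of_zstar {x : N} (hxp : IsPGroup p (zpowers x))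
    (hZ : ∀ n : N, n * x * n⁻¹ * x⁻¹ ∈ pPrimeCore p N) {q : ℕ} [hq : Fact q.Prime] (hqp : q ≠ p) :
    ∃ S : Subgroup N, IsSylowIn q S ⊤ ∧ ∀ a ∈ zpowers x, ∀ z ∈ S, a * z * a⁻¹ ∈ S := by
  classical
  obtain ⟨R₀, hR₀⟩ := exists_isSylowIn (p := q) (⊤ : Subgroup N)
  have hKn : (pPrimeCore p N).Normal := pPrimeCore_normal p N
  set K := pPrimeCore p N with hK
  set Y := R₀ ⊔ K with hY
  have hRcop : (Nat.card R₀).Coprime p := by
    obtain ⟨k, hk⟩ := IsPGroup.iff_card.mp hR₀.isPGroup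
    rw [hk]
    exact ((Nat.coprime_primes hq.out hp.out).mpr hqp).pow_left k
  have hYc : (Nat.card Y).Coprime p :=
    coprime_card_sup R₀ K hRcop (pPrimeCore_coprime p (G := N))
  have hxY : ∀ z ∈ Y, x * z * x⁻¹ ∈ Y := by
    intro z hz
    have h1 : z * x * z⁻¹ * x⁻¹ ∈ K := hZ z
    have h2 : x * z * x⁻¹ * z⁻¹ ∈ K := by
      have := K.inv_mem h1
      have e : (z * x * z⁻¹ * x⁻¹)⁻¹ = x * z * x⁻¹ * z⁻¹ := by group
      rwa [e] at this
    have e : x * z * x⁻¹ = (x * z * x⁻¹ * z⁻¹) * z := by group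
    rw [e]
    exact Y.mul_mem (Subgroup.mem_sup_right h2) hz
  have hAX : ∀ a ∈ zpowers x, ∀ z ∈ Y, a * z * a⁻¹ ∈ Y := by
    have hle : zpowers x ≤ normalizer (Y : Set N) := by
      rw [Subgroup.zpowers_le]
      apply mem_normalizer_iff_conj.mpr
      apply Subgroup.eq_of_le_of_card_ge
      · rintro _ ⟨z, hz, rfl⟩
        exact hxY z hz
      · rw [card_conj]
    intro a ha z hz
    exact (Subgroup.mem_normalizer_iff.mp (hle ha) z).mp hz
  have hcop : (Nat.card (zpowers x)).Coprime (Nat.card Y) := by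
    obtain ⟨k, hk⟩ := IsPGroup.iff_card.mp hxp
    rw [hk]
    exact hYc.symm.pow_left k
  have hsol : Group.IsSolvable (zpowers x) := by
    haveI : IsMulCommutative (zpowers x) := inferInstance
    exact Group.isSolvable_of_comm (fun a b => mul_comm' a b)
  obtain ⟨S, hS, hSinv⟩ := Cfsg.Agent.Lib.FStar.exists_invariant_sylow hAX hcop (Or.inl hsol) q
  refine ⟨S, ?_, hSinv⟩
  have hRY : R₀ ≤ Y := le_sup_left
  have hR₀Y : IsSylowIn q R₀ Y := ⟨hRY, hR₀.isPGroup, fun hd => hR₀.not_dvd (by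
    rw [← Subgroup.relIndex_mul_relIndex R₀ Y ⊤ hRY le_top]
    exact hd.trans (Dvd.intro _ rfl))⟩
  have hc : Nat.card S = Nat.card R₀ := hS.card_eq hR₀Y
  exact hR₀.of_card_eq le_top hS.isPGroup hc

end invariant

section min

variable {G : Type*} [Group G] [Finite G] {p : ℕ} [hp : Fact p.Prime] {x : G}

/-- In a minimal counterexample the `p'`-core is trivial. -/
theorem pPrimeCore_eq_bot_of_min (hnz : ¬ InZStar p x)
    (hquot : ∀ (N : Subgroup G) [N.Normal], N ≠ ⊥ → InZStar p (QuotientGroup.mk x : G ⧸ N)) :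
    pPrimeCore p G = ⊥ := by
  by_contra hne
  haveI hKn : (pPrimeCore p G).Normal := pPrimeCore_normal p G
  apply hnz
  intro g
  have h1 := hquot (pPrimeCore p G) hne (QuotientGroup.mk g)
  rw [pPrimeCore_quotient_eq_bot, Subgroup.mem_bot] at h1
  rw [← QuotientGroup.eq_one_iff]
  simpa using h1

end min

end Cfsg.Agent.Lib.FF
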